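import Mathlib

set_option autoImplicit false
universe u

namespace Groth.Agent.Lib.Helper51.OmegaUniv.Alg

open KaehlerDifferential

section LocDer

variable {R A A' N N' : Type*} [CommRing R] [CommRing A] [CommRing A'] [Algebra R A]
  [Algebra A A'] [Algebra R A'] [IsScalarTower R A A'] (S : Submonoid A) [IsLocalization S A']
  [AddCommGroup N] [Module A N] [Module R N] [IsScalarTower R A N]
  [AddCommGroup N'] [Module A' N'] [Module A N'] [IsScalarTower A A' N']
  [Module R N'] [IsScalarTower R A' N']
  (ℓ : N →ₗ[A] N') (D₀ : Derivation R A N)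

omit [Algebra R A'] [IsScalarTower R A A'] [Module R N'] [IsScalarTower R A' N'] [Algebra R A] in
include A' in
theorem isUnit_algebraMap_end (s : S) : IsUnit (algebraMap A (Module.End A N') s) := by
  rw [Module.End.isUnit_iff]
  have hu : IsUnit (algebraMap A A' s) := IsLocalization.map_units A' s
  have : ⇑((algebraMap A (Module.End A N')) s) = fun x : N' => (algebraMap A A' s) • x := by
    funext x
    simp [algebraMap_smul]
  rw [this]
  exact hu.smul_bijective (β := N')

/-- The linear map `Ω[A'/R] → N'` induced by a derivation `A → N` and `ℓ : N → N'`. -/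
noncomputable def locLin : Ω[A'⁄R] →ₗ[A'] N' :=
  LinearMap.extendScalarsOfIsLocalization S A'
    (IsLocalizedModule.lift S (KaehlerDifferential.map R R A A')
      (ℓ ∘ₗ D₀.liftKaehlerDifferential) (isUnit_algebraMap_end (A' := A') S))

/-- The derivation `A' → N'` extending `ℓ ∘ D₀`. -/
noncomputable def locDer : Derivation R A' N' :=
  (locLin S ℓ D₀).compDer (KaehlerDifferential.D R A')

theorem locDer_algebraMap (a : A) : locDer S ℓ D₀ (algebraMap A A' a) = ℓ (D₀ a) := by
  change (IsLocalizedModule.lift S (KaehlerDifferential.map R R A A')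
      (ℓ ∘ₗ D₀.liftKaehlerDifferential) (isUnit_algebraMap_end (A' := A') S))
        (KaehlerDifferential.D R A' (algebraMap A A' a)) = _
  rw [← KaehlerDifferential.map_D R R A A', IsLocalizedModule.lift_apply]
  simp

end LocDer

section Ext

variable {A A' A'' P : Type*} [CommRing A] [CommRing A'] [CommRing A''] [Algebra A A']
  (S : Submonoid A) [IsLocalization S A'] (ρ : A' →+* A'') [AddCommGroup P] [Module A'' P]

include S in
/-- Two Leibniz maps out of a localization that agree on the original ring are equal. -/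
theorem leibniz_ext (δ₁ δ₂ : A' →+ P)
    (h₁ : ∀ x y, δ₁ (x * y) = ρ x • δ₁ y + ρ y • δ₁ x)
    (h₂ : ∀ x y, δ₂ (x * y) = ρ x • δ₂ y + ρ y • δ₂ x)
    (h : ∀ a, δ₁ (algebraMap A A' a) = δ₂ (algebraMap A A' a)) : δ₁ = δ₂ := by
  ext x
  obtain ⟨a, s, rfl⟩ := IsLocalization.exists_mk'_eq S x
  have hu : IsUnit (ρ (algebraMap A A' s)) := (IsLocalization.map_units A' s).map ρ
  have e : IsLocalization.mk' A' a s * algebraMap A A' s = algebraMap A A' a :=
    IsLocalization.mk'_spec A' a s
  have e1 := h₁ (IsLocalization.mk' A' a s) (algebraMap A A' s)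
  have e2 := h₂ (IsLocalization.mk' A' a s) (algebraMap A A' s)
  rw [e] at e1 e2
  rw [h a, e2, h (s : A)] at e1
  have e3 := add_left_cancel e1
  exact (hu.smul_left_cancel).mp e3.symm

end Ext

end Groth.Agent.Lib.Helper51.OmegaUniv.Alg
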