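import Groth.Agent.Lib.Helper51.OmegaUniv.Basis
import Groth.Agent.Lib.Helper51.OmegaUniv.Alg

set_option autoImplicit false
universe u
open CategoryTheory CategoryTheory.Limits AlgebraicGeometry TopologicalSpace Opposite

namespace Groth.Agent.Lib.Helper51.OmegaUniv
open OmegaSh

/-- A basic open of `Spec B`, typed as an open of the scheme. -/
abbrev bo {B : CommRingCat.{u}} (b : B) : (Spec B).Opens := PrimeSpectrum.basicOpen b

/-- An algebraic derivation of `B` over `R` into the `B`-module `N`, unbundled. -/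
structure AlgDer {R B : CommRingCat.{u}} (φ : R ⟶ B) (N : ModuleCat.{u} B) where
  d : B →+ N
  d_mul : ∀ a b : B, d (a * b) = a • d b + b • d a
  d_map : ∀ r : R, d (φ r) = 0

namespace AlgDer

variable {R B : CommRingCat.{u}} {φ : R ⟶ B} {N : ModuleCat.{u} B} (D : AlgDer φ N)

/-- The underlying `ℤ`-derivation. -/
def toDerZ : Derivation ℤ B N :=
  Derivation.mk' D.d.toIntLinearMap D.d_mul

@[simp] theorem toDerZ_apply (x : B) : D.toDerZ x = D.d x := rfl

/-- localization map of sections -/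
noncomputable def toOpenₗ (b : B) : N →ₗ[B] Γ(tilde N, bo b) :=
  (tilde.toOpen N (bo b)).hom

noncomputable def δ (b : B) :
    Γ(Spec B, bo b) →+ Γ(tilde N, bo b) :=
  (Alg.locDer (R := ℤ) (Submonoid.powers b) (toOpenₗ (N := N) b) D.toDerZ :
    Derivation ℤ Γ(Spec B, bo b) Γ(tilde N, bo b))

theorem δ_algebraMap (b x : B) :
    D.δ b (algebraMap B Γ(Spec B, bo b) x) = toOpenₗ (N := N) b (D.d x) :=
  Alg.locDer_algebraMap (R := ℤ) (Submonoid.powers b) (toOpenₗ (N := N) b) D.toDerZ x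

theorem δ_mul (b : B) (x y : Γ(Spec B, bo b)) :
    D.δ b (x * y) = x • D.δ b y + y • D.δ b x :=
  Derivation.leibniz (Alg.locDer (R := ℤ) (Submonoid.powers b) (toOpenₗ (N := N) b) D.toDerZ :
    Derivation ℤ Γ(Spec B, bo b) Γ(tilde N, bo b)) x y

theorem toOpenₗ_res (b b' : B) (h : bo b' ≤ bo b) (n : N) :
    (tilde N).presheaf.map (homOfLE h).op (toOpenₗ (N := N) b n) = toOpenₗ (N := N) b' n := by
  have := tilde.toOpen_res N (bo b) (bo b') (homOfLE h)
  exact congrArg (fun k => k.hom n) this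

theorem algebraMap_res (b b' : B) (h : bo b' ≤ bo b) (x : B) :
    (Spec B).presheaf.map (homOfLE h).op (algebraMap B Γ(Spec B, bo b) x) =
      algebraMap B Γ(Spec B, bo b') x := by
  simp only [AlgebraicGeometry.IsAffineOpen.algebraMap_Spec_obj]
  rw [← CommRingCat.comp_apply, Category.assoc, ← Functor.map_comp]
  rfl

theorem δ_res (b b' : B) (h : bo b' ≤ bo b)
    (s : Γ(Spec B, bo b)) :
    D.δ b' ((Spec B).presheaf.map (homOfLE h).op s) =
      (tilde N).presheaf.map (homOfLE h).op (D.δ b s) := by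
  let ρ : Γ(Spec B, bo b) →+* Γ(Spec B, bo b') :=
    ((Spec B).presheaf.map (homOfLE h).op).hom
  let rN : Γ(tilde N, bo b) →+ Γ(tilde N, bo b') :=
    ((tilde N).presheaf.map (homOfLE h).op).hom
  have key := Alg.leibniz_ext (A := B) (Submonoid.powers b) ρ
    ((D.δ b').comp ρ.toAddMonoidHom) (rN.comp (D.δ b)) ?_ ?_ ?_
  · exact DFunLike.congr_fun key s
  · intro x y
    change D.δ b' (ρ (x * y)) = ρ x • D.δ b' (ρ y) + ρ y • D.δ b' (ρ x)
    rw [map_mul, δ_mul]
  · intro x y
    change rN (D.δ b (x * y)) = ρ x • rN (D.δ b y) + ρ y • rN (D.δ b x)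
    rw [δ_mul, map_add]
    change (tilde N).presheaf.map (homOfLE h).op (x • D.δ b y) +
      (tilde N).presheaf.map (homOfLE h).op (y • D.δ b x) = _
    rw [Scheme.Modules.map_smul, Scheme.Modules.map_smul]
  · intro a
    change D.δ b' ((Spec B).presheaf.map (homOfLE h).op (algebraMap B _ a)) =
      (tilde N).presheaf.map (homOfLE h).op (D.δ b (algebraMap B _ a))
    rw [algebraMap_res, δ_algebraMap, δ_algebraMap, toOpenₗ_res]

theorem appLE_algebraMap {U : (Spec R).Opens} {V : (Spec B).Opens} (h : V ≤ (Spec.map φ) ⁻¹ᵁ U)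
    (x : R) : (Spec.map φ).appLE U V h (algebraMap R Γ(Spec R, U) x) =
      algebraMap B Γ(Spec B, V) (φ x) := by
  simp only [AlgebraicGeometry.IsAffineOpen.algebraMap_Spec_obj]
  have e : ((Scheme.ΓSpecIso R).inv ≫ (Spec R).presheaf.map (homOfLE le_top).op) ≫
      (Spec.map φ).appLE U V h =
      φ ≫ (Scheme.ΓSpecIso B).inv ≫ (Spec B).presheaf.map (homOfLE le_top).op := by
    rw [Category.assoc, Scheme.Hom.map_appLE, ← Category.assoc φ,
      Scheme.ΓSpecIso_inv_naturality, Category.assoc]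
    rfl
  exact congrArg (fun k => k.hom x) e

theorem δ_appLE (b : B) (r : R) (h : bo b ≤ (Spec.map φ) ⁻¹ᵁ bo r) (a : Γ(Spec R, bo r)) :
    D.δ b ((Spec.map φ).appLE (bo r) (bo b) h a) = 0 := by
  let ρ : Γ(Spec R, bo r) →+* Γ(Spec B, bo b) := ((Spec.map φ).appLE (bo r) (bo b) h).hom
  have key := Alg.leibniz_ext (A := R) (Submonoid.powers r) ρ
    ((D.δ b).comp ρ.toAddMonoidHom) 0 ?_ ?_ ?_
  · exact DFunLike.congr_fun key a
  · intro x y
    change D.δ b (ρ (x * y)) = ρ x • D.δ b (ρ y) + ρ y • D.δ b (ρ x)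
    rw [map_mul, δ_mul]
  · intro x y
    simp
  · intro x
    change D.δ b ((Spec.map φ).appLE (bo r) (bo b) h (algebraMap R _ x)) = 0
    rw [appLE_algebraMap, δ_algebraMap, D.d_map, map_zero]

theorem isBasis_bo (B : CommRingCat.{u}) : Opens.IsBasis (Set.range fun b : B => bo b) :=
  PrimeSpectrum.isBasis_basic_opens

/-- The derivation `O_{Spec B} → tilde N` over `Spec R` induced by an algebraic derivation. -/
noncomputable def tildeDer : Der (Spec.map φ) (tilde N) :=
  derOfBasis (fun b : B => bo b) (isBasis_bo B) D.δ (fun i j h s => D.δ_res i j h s)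
    (fun r : R => bo r) (isBasis_bo R) D.δ_mul (fun i k h a => D.δ_appLE i k h a)

theorem tildeDer_app_bo (b : B) (s : Γ(Spec B, bo b)) : D.tildeDer.app (bo b) s = D.δ b s :=
  derOfBasis_app (fun b : B => bo b) (isBasis_bo B) D.δ (fun i j h s => D.δ_res i j h s)
    (fun r : R => bo r) (isBasis_bo R) D.δ_mul (fun i k h a => D.δ_appLE i k h a) b s

theorem tildeDer_app_algebraMap (b x : B) :
    D.tildeDer.app (bo b) (algebraMap B Γ(Spec B, bo b) x) = toOpenₗ (N := N) b (D.d x) := by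
  rw [tildeDer_app_bo, δ_algebraMap]

end AlgDer

end Groth.Agent.Lib.Helper51.OmegaUniv
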