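import Groth.Agent.Lib.Helper51.OmegaUniv.Structure
import Groth.Agent.Lib.Helper49.FiniteTypeAffine
import Groth.Agent.Lib.Helper49.QCohLocal

set_option autoImplicit false
set_option linter.style.haveILetI false
universe u
open CategoryTheory CategoryTheory.Limits AlgebraicGeometry TopologicalSpace Opposite

namespace Groth.Agent.Lib.Helper51.OmegaUniv
open OmegaSh Groth.Agent.Lib.Helper49

/-- A pair of affine opens `U ≤ f⁻¹ V`. -/
structure Chart {X S : Scheme.{u}} (f : X ⟶ S) where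
  U : X.Opens
  V : S.Opens
  hU : IsAffineOpen U
  hV : IsAffineOpen V
  hUV : U ≤ f ⁻¹ᵁ V

lemma exists_chart {X S : Scheme.{u}} (f : X ⟶ S) (x : X) :
    ∃ c : Chart f, x ∈ c.U := by
  obtain ⟨_, ⟨V, hV, rfl⟩, hxV, -⟩ := S.isBasis_affineOpens.exists_subset_of_mem_open
    (Set.mem_univ (f x)) isOpen_univ
  obtain ⟨_, ⟨U, hU, rfl⟩, hxU, hUV⟩ := X.isBasis_affineOpens.exists_subset_of_mem_open
    (show x ∈ (f ⁻¹ᵁ V : Set X) from hxV) (f ⁻¹ᵁ V).2
  exact ⟨⟨U, V, hU, hV, hUV⟩, hxU⟩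

lemma exists_chart' {X S : Scheme.{u}} (f : X ⟶ S) (x : X) :
    ∃ c : Chart f, x ∈ Set.range c.hU.fromSpec := by
  obtain ⟨c, hc⟩ := exists_chart f x
  exact ⟨c, by rw [c.hU.range_fromSpec]; exact hc⟩

variable {X S : Scheme.{u}} (f : X ⟶ S) {Ω : X.Modules} {d : Der f Ω}

/-- The receptacle of a universal derivation is quasi-coherent. -/
theorem isQuasicoherent_of_isUniversal (hd : IsUniversal d) : Ω.IsQuasicoherent := by
  refine isQuasicoherent_of_forall_restrict Ω (ι := Chart f)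
    (fun c => Spec Γ(X, c.U)) (fun c => c.hU.fromSpec) (exists_chart' f) fun c => ?_
  obtain ⟨e, -⟩ := exists_restrict_iso_tilde f hd c.hU c.hV c.hUV
  exact isQuasicoherent_of_iso e.symm inferInstance

/-- **Structure theorem, on sections.** For a universal derivation `(Ω, d)` of `f : X ⟶ S` and
affine opens `U ≤ f⁻¹ V`: `Γ(Ω, U) = Ω[Γ(X,U)/Γ(S,V)]`, compatibly with the derivations. -/
theorem exists_sections_equiv (hd : IsUniversal d) {U : X.Opens} (hU : IsAffineOpen U)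
    {V : S.Opens} (hV : IsAffineOpen V) (h : U ≤ f ⁻¹ᵁ V) :
    letI := (f.appLE V U h).hom.toAlgebra
    ∃ e : Ω[Γ(X, U)⁄Γ(S, V)] ≃ₗ[Γ(X, U)] Γ(Ω, U),
      ∀ s : Γ(X, U), e (KaehlerDifferential.D Γ(S, V) Γ(X, U) s) = d.app U s := by
  letI := (f.appLE V U h).hom.toAlgebra
  obtain ⟨e, he⟩ := exists_restrict_iso_tilde f hd hU hV h
  let K := kaehlerMod (f.appLE V U h)
  let e1 : K ≃ₗ[Γ(X, U)] Γ(tilde K, ⊤) := (tilde.isoTop K).toLinearEquiv
  let e2 : Γ(tilde K, ⊤) ≃ₗ[Γ(X, U)] Γ(Ω.restrict hU.fromSpec, ⊤) :=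
    (moduleSpecΓFunctor.mapIso e.symm).toLinearEquiv
  let e3 := sectionsFromSpecTopEquiv hU Ω
  refine ⟨e1 ≪≫ₗ e2 ≪≫ₗ e3, fun s => ?_⟩
  have h1 : e1 (KaehlerDifferential.D Γ(S, V) Γ(X, U) s) =
      (kaehlerDer (f.appLE V U h)).tildeDer.app ⊤ (algebraMap Γ(X, U) Γ(Spec Γ(X, U), ⊤) s) :=
    ((kaehlerDer (f.appLE V U h)).tildeDer_app_algebraMap' ⊤ s).symm
  have h2 : ∀ y : Γ(Spec Γ(X, U), ⊤),
      e2 ((kaehlerDer (f.appLE V U h)).tildeDer.app ⊤ y) =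
        (derRestrict hU.fromSpec d).app ⊤ y := by
    intro y
    rw [← he ⊤ y]
    change e.inv.app ⊤ (e.hom.app ⊤ ((derRestrict hU.fromSpec d).app ⊤ y)) = _
    rw [← ConcreteCategory.comp_apply, ← Scheme.Modules.Hom.comp_app, e.hom_inv_id]
    rfl
  have hle : hU.fromSpec ''ᵁ ⊤ ≤ U := fromSpec_image_le hU ⊤
  have h3 : (derRestrict hU.fromSpec d).app ⊤ (algebraMap Γ(X, U) Γ(Spec Γ(X, U), ⊤) s) =
      d.app (hU.fromSpec ''ᵁ ⊤) (X.presheaf.map (homOfLE hle).op s) := by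
    rw [derRestrict_app, appIso_inv_algebraMap' hU ⊤ s hle]
  change e3 (e2 (e1 _)) = _
  rw [h1, h2, h3]
  change Ω.presheaf.map (eqToHom (fromSpec_image_top hU).symm).op
    (d.app (hU.fromSpec ''ᵁ ⊤) (X.presheaf.map (homOfLE hle).op s)) = _
  rw [← der_app_map, ← ConcreteCategory.comp_apply, ← Functor.map_comp]
  have : (homOfLE hle).op ≫ (eqToHom (fromSpec_image_top hU).symm).op = 𝟙 (op U) := rfl
  rw [this, X.presheaf.map_id]
  rfl

end Groth.Agent.Lib.Helper51.OmegaUniv
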