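import Groth.Agent.Lib.Helper51.OmegaUniv.TildeDer

set_option autoImplicit false
set_option linter.style.haveILetI false
universe u
open CategoryTheory CategoryTheory.Limits AlgebraicGeometry TopologicalSpace Opposite

namespace Groth.Agent.Lib.Helper51.OmegaUniv
open OmegaSh

section Adj

variable {B : CommRingCat.{u}}

theorem homEquiv_symm_app_toOpen (M : ModuleCat.{u} B) (F : (Spec B).Modules)
    (g : M ⟶ moduleSpecΓFunctor.obj F) (U : (Spec B).Opens) (m : M) :
    ((tilde.adjunction.homEquiv M F).symm g).app U ((tilde.toOpen M U).hom m) =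
      F.presheaf.map (homOfLE (le_top : U ≤ ⊤)).op (g.hom m) := by
  rw [Adjunction.homEquiv_counit]
  have h1 := tilde.toOpen_map_app g U
  have h2 := Scheme.Modules.toOpen_fromTildeΓ_app F U
  have h1' := congrArg (fun k => k.hom m) h1
  have h2' := congrArg (fun k => k.hom (g.hom m)) h2
  simp only [ModuleCat.hom_comp, LinearMap.comp_apply] at h1' h2'
  change (Scheme.Modules.Hom.app (Scheme.Modules.fromTildeΓ F) U)
    ((Scheme.Modules.Hom.app (tilde.map g) U) ((tilde.toOpen M U).hom m)) = _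
  refine Eq.trans (congrArg _ h1') ?_
  exact h2'

theorem tilde_hom_ext (M : ModuleCat.{u} B) (F : (Spec B).Modules) (α α' : tilde M ⟶ F)
    (h : ∀ m : M, α.app ⊤ ((tilde.toOpen M ⊤).hom m) = α'.app ⊤ ((tilde.toOpen M ⊤).hom m)) :
    α = α' := by
  apply (tilde.adjunction.homEquiv M F).injective
  rw [Adjunction.homEquiv_unit, Adjunction.homEquiv_unit]
  ext m
  exact h m

theorem hom_app_map {X : Scheme.{u}} {M N : X.Modules} (α : M ⟶ N) {U V : X.Opens} (i : op U ⟶ op V)
    (m : Γ(M, U)) : α.app V (M.presheaf.map i m) = N.presheaf.map i (α.app U m) := by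
  have := α.mapPresheaf.naturality i
  exact congrArg (fun k => k.hom m) this

namespace AlgDer

variable {R : CommRingCat.{u}} {φ : R ⟶ B} {N : ModuleCat.{u} B} (D : AlgDer φ N)

theorem algebraMap_res' {U V : (Spec B).Opens} (i : op U ⟶ op V) (x : B) :
    (Spec B).presheaf.map i (algebraMap B Γ(Spec B, U) x) = algebraMap B Γ(Spec B, V) x := by
  simp only [AlgebraicGeometry.IsAffineOpen.algebraMap_Spec_obj]
  rw [← CommRingCat.comp_apply, Category.assoc, ← Functor.map_comp]
  rfl

theorem tildeDer_app_algebraMap' (U : (Spec B).Opens) (x : B) :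
    D.tildeDer.app U (algebraMap B Γ(Spec B, U) x) = (tilde.toOpen N U).hom (D.d x) := by
  apply section_ext (tilde N)
  intro p hp
  obtain ⟨_, ⟨b, rfl⟩, hpb, hle⟩ := (Opens.isBasis_iff_nbhd.mp (AlgDer.isBasis_bo B)) hp
  refine ⟨bo b, hle, hpb, ?_⟩
  rw [← der_app_map, algebraMap_res', tildeDer_app_algebraMap]
  have := tilde.toOpen_res N U (bo b) (homOfLE hle)
  exact (congrArg (fun k => k.hom (D.d x)) this).symm

end AlgDer

end Adj

section Kaehler

variable {R B : CommRingCat.{u}} (φ : R ⟶ B)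

/-- `Ω[B/R]` as an object of `ModuleCat B`. -/
noncomputable def kaehlerMod : ModuleCat.{u} B :=
  letI := φ.hom.toAlgebra
  ModuleCat.of B Ω[B⁄R]

/-- The universal algebraic derivation. -/
noncomputable def kaehlerDer : AlgDer φ (kaehlerMod φ) :=
  letI := φ.hom.toAlgebra
  { d := (KaehlerDifferential.D R B : B →ₗ[R] Ω[B⁄R]).toAddMonoidHom
    d_mul := fun a b => (KaehlerDifferential.D R B).leibniz a b
    d_map := fun r => (KaehlerDifferential.D R B).map_algebraMap r }

variable {φ} {F : (Spec B).Modules} (D' : Der (Spec.map φ) F)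

theorem der_app_top_algebraMap_map (r : R) :
    D'.app ⊤ (algebraMap B Γ(Spec B, ⊤) (φ r)) = 0 := by
  have h := der_app_appLE D' ⊤ ⊤ le_top (algebraMap R Γ(Spec R, ⊤) r)
  rwa [AlgDer.appLE_algebraMap] at h

/-- The `B`-linear map `Ω[B/R] → Γ(F, ⊤)` induced by a derivation of sheaves. -/
noncomputable def globLin : kaehlerMod φ ⟶ moduleSpecΓFunctor.obj F :=
  letI := φ.hom.toAlgebra
  letI : Module R Γ(F, ⊤) := Module.compHom _ φ.hom
  haveI : IsScalarTower R B Γ(F, ⊤) := IsScalarTower.of_algebraMap_smul fun _ _ => rfl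
  let L : Ω[B⁄R] →ₗ[B] Γ(F, ⊤) := (Derivation.liftKaehlerDifferential
    (Derivation.mk' (R := R) (A := B) (M := Γ(F, ⊤))
      { toFun := fun x => D'.app ⊤ (algebraMap B Γ(Spec B, ⊤) x)
        map_add' := fun x y => by rw [map_add, map_add]
        map_smul' := fun r x => by
          change D'.app ⊤ (algebraMap B Γ(Spec B, ⊤) (φ r * x)) =
            (algebraMap B Γ(Spec B, ⊤) (φ r)) • D'.app ⊤ (algebraMap B Γ(Spec B, ⊤) x)
          rw [map_mul, der_app_mul, der_app_top_algebraMap_map, smul_zero, add_zero] }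
      (fun a b => by
        change D'.app ⊤ (algebraMap B Γ(Spec B, ⊤) (a * b)) =
          (algebraMap B Γ(Spec B, ⊤) a) • D'.app ⊤ (algebraMap B Γ(Spec B, ⊤) b) +
          (algebraMap B Γ(Spec B, ⊤) b) • D'.app ⊤ (algebraMap B Γ(Spec B, ⊤) a)
        rw [map_mul, der_app_mul])))
  (ModuleCat.ofHom L : ModuleCat.of B Ω[B⁄R] ⟶ ModuleCat.of B Γ(F, ⊤))

theorem globLin_d (x : B) :
    (globLin D').hom ((kaehlerDer φ).d x) = D'.app ⊤ (algebraMap B Γ(Spec B, ⊤) x) := by
  letI := φ.hom.toAlgebra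
  letI : Module R Γ(F, ⊤) := Module.compHom _ φ.hom
  haveI : IsScalarTower R B Γ(F, ⊤) := IsScalarTower.of_algebraMap_smul fun _ _ => rfl
  exact Derivation.liftKaehlerDifferential_comp_D (R := R) (S := B) (M := Γ(F, ⊤)) _ x


/-- The affine model `(Ω[B/R]^~, d)` is a universal derivation for `Spec.map φ`. -/
theorem isUniversal_tildeDer_kaehler (φ : R ⟶ B) : IsUniversal (kaehlerDer φ).tildeDer := by
  intro F D'
  let α : tilde (kaehlerMod φ) ⟶ F := (tilde.adjunction.homEquiv (kaehlerMod φ) F).symm (globLin D')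
  have hα : ∀ (U : (Spec B).Opens) (m : kaehlerMod φ),
      α.app U ((tilde.toOpen (kaehlerMod φ) U).hom m) =
        F.presheaf.map (homOfLE (le_top : U ≤ ⊤)).op ((globLin D').hom m) :=
    fun U m => homEquiv_symm_app_toOpen (kaehlerMod φ) F (globLin D') U m
  have hex : (kaehlerDer φ).tildeDer.postcomp α.val = D' := ?_
  refine ⟨α, hex, ?_⟩
  rotate_left
  · apply der_ext_of_basis (fun b : B => bo b) (AlgDer.isBasis_bo B)
    intro b s
    change α.app (bo b) ((kaehlerDer φ).tildeDer.app (bo b) s) = D'.app (bo b) s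
    rw [AlgDer.tildeDer_app_bo]
    have key := Alg.leibniz_ext (A := B) (Submonoid.powers b) (RingHom.id Γ(Spec B, bo b))
      ((α.app (bo b)).hom.comp ((kaehlerDer φ).δ b)) (D'.app (bo b)) ?_ ?_ ?_
    · exact DFunLike.congr_fun key s
    · intro x y
      change α.app (bo b) ((kaehlerDer φ).δ b (x * y)) =
        x • α.app (bo b) ((kaehlerDer φ).δ b y) + y • α.app (bo b) ((kaehlerDer φ).δ b x)
      rw [AlgDer.δ_mul, map_add, Scheme.Modules.Hom.app_smul, Scheme.Modules.Hom.app_smul]
    · intro x y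
      exact der_app_mul D' x y
    · intro x
      change α.app (bo b) ((kaehlerDer φ).δ b (algebraMap B _ x)) = D'.app (bo b) (algebraMap B _ x)
      rw [AlgDer.δ_algebraMap]
      refine (hα (bo b) _).trans ?_
      rw [globLin_d, ← der_app_map, AlgDer.algebraMap_res']
  · intro α' hα'
    have hval : ∀ (β : tilde (kaehlerMod φ) ⟶ F), (kaehlerDer φ).tildeDer.postcomp β.val = D' →
        ∀ x : B, β.app ⊤ ((tilde.toOpen (kaehlerMod φ) ⊤).hom ((kaehlerDer φ).d x)) =
          D'.app ⊤ (algebraMap B Γ(Spec B, ⊤) x) := by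
      intro β hβ x
      rw [← AlgDer.tildeDer_app_algebraMap']
      exact congrArg (fun E => Der.app E ⊤ (algebraMap B Γ(Spec B, ⊤) x)) hβ
    apply (tilde.adjunction.homEquiv (kaehlerMod φ) F).injective
    rw [Adjunction.homEquiv_unit, Adjunction.homEquiv_unit]
    apply ModuleCat.hom_ext
    letI := φ.hom.toAlgebra
    refine LinearMap.ext_on (KaehlerDifferential.span_range_derivation R B) ?_
    rintro _ ⟨x, rfl⟩
    exact (hval α' hα' x).trans (hval α hex x).symm

end Kaehler

end Groth.Agent.Lib.Helper51.OmegaUniv
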