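import Groth.Agent.Lib.Helper51.OmegaUniv.Sections

set_option autoImplicit false
set_option linter.style.haveILetI false
universe u
open CategoryTheory CategoryTheory.Limits AlgebraicGeometry TopologicalSpace Opposite

namespace Groth.Agent.Lib.Helper51.OmegaUniv
open OmegaSh Groth.Agent.Lib.Helper49 Groth.Agent.Lib.Helper13.OmegaShYoneda

variable {X S : Scheme.{u}} {f : X ⟶ S} {F : X.Modules}

/-- The linear map `Ω[Γ(X,U)/Γ(S,V)] → Γ(F, U)` induced by a derivation of sheaves. -/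
noncomputable def secLin (D : Der f F) {U : X.Opens} {V : S.Opens} (h : U ≤ f ⁻¹ᵁ V) :
    letI := (f.appLE V U h).hom.toAlgebra
    Ω[Γ(X, U)⁄Γ(S, V)] →ₗ[Γ(X, U)] Γ(F, U) :=
  letI := (f.appLE V U h).hom.toAlgebra
  letI : Module Γ(S, V) Γ(F, U) := Module.compHom _ (f.appLE V U h).hom
  haveI : IsScalarTower Γ(S, V) Γ(X, U) Γ(F, U) := IsScalarTower.of_algebraMap_smul fun _ _ => rfl
  (Derivation.liftKaehlerDifferential
    (Derivation.mk' (R := Γ(S, V)) (A := Γ(X, U)) (M := Γ(F, U))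
      { toFun := fun x => D.app U x
        map_add' := fun x y => map_add _ x y
        map_smul' := fun r x => by
          change D.app U ((f.appLE V U h).hom r * x) = (f.appLE V U h).hom r • D.app U x
          rw [der_app_mul, der_app_appLE, smul_zero, add_zero] }
      (fun a b => der_app_mul D a b)))

theorem secLin_D (D : Der f F) {U : X.Opens} {V : S.Opens} (h : U ≤ f ⁻¹ᵁ V) (s : Γ(X, U)) :
    letI := (f.appLE V U h).hom.toAlgebra
    secLin D h (KaehlerDifferential.D Γ(S, V) Γ(X, U) s) = D.app U s := by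
  letI := (f.appLE V U h).hom.toAlgebra
  letI : Module Γ(S, V) Γ(F, U) := Module.compHom _ (f.appLE V U h).hom
  haveI : IsScalarTower Γ(S, V) Γ(X, U) Γ(F, U) := IsScalarTower.of_algebraMap_smul fun _ _ => rfl
  exact Derivation.liftKaehlerDifferential_comp_D (R := Γ(S, V)) (S := Γ(X, U)) (M := Γ(F, U)) _ s

theorem der_app_eq_zero_of_subsingleton (D : Der f F) {U : X.Opens} {V : S.Opens}
    (h : U ≤ f ⁻¹ᵁ V)
    (hs : letI := (f.appLE V U h).hom.toAlgebra; Subsingleton Ω[Γ(X, U)⁄Γ(S, V)])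
    (s : Γ(X, U)) : D.app U s = 0 := by
  letI := (f.appLE V U h).hom.toAlgebra
  rw [← secLin_D D h s, Subsingleton.elim (KaehlerDifferential.D Γ(S, V) Γ(X, U) s) 0, map_zero]

/-- A derivation vanishing on all charts vanishes. -/
theorem der_app_eq_zero_of_forall_chart (D : Der f F)
    (h : ∀ (c : Chart f) (s : Γ(X, c.U)), D.app c.U s = 0) (W : X.Opens) (s : Γ(X, W)) :
    D.app W s = 0 := by
  apply section_ext F
  intro x hx
  obtain ⟨_, ⟨V, hV, rfl⟩, hxV, -⟩ := S.isBasis_affineOpens.exists_subset_of_mem_open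
    (Set.mem_univ (f x)) isOpen_univ
  obtain ⟨_, ⟨U, hU, rfl⟩, hxU, hUle⟩ := X.isBasis_affineOpens.exists_subset_of_mem_open
    (show x ∈ ((f ⁻¹ᵁ V) ⊓ W : X.Opens) from ⟨hxV, hx⟩) ((f ⁻¹ᵁ V) ⊓ W).2
  have hUV : U ≤ f ⁻¹ᵁ V := fun y hy => (hUle hy).1
  have hUW : U ≤ W := fun y hy => (hUle hy).2
  refine ⟨U, hUW, hxU, ?_⟩
  rw [← der_app_map, h ⟨U, V, hU, hV, hUV⟩, map_zero]

end Groth.Agent.Lib.Helper51.OmegaUniv
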