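import Mathlib
import Groth.Agent.Lib.Helper49.UnitChart
import Groth.Agent.Lib.Helper16.FlatPull.Chart
import Groth.Agent.Lib.Helper51.OmegaUniv.Sections
import Groth.Agent.Lib.Helper51.OmegaUniv.SecDer

/-!
# Sections of pulled-back differentials over affine charts (helper51)

For `h : X₂ ⟶ X₁`, a universal derivation `(Ω₁, d₁)` of `f₁ : X₁ ⟶ S₁`, affine opens
`U₁ ≤ f₁⁻¹ V₁` and an affine open `U₂ ≤ h⁻¹ U₁` of `X₂`: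

  `Γ(h^* Ω₁, U₂) = Γ(X₂, U₂) ⊗ Ω[Γ(X₁,U₁)/Γ(S₁,V₁)]`, with `b ⊗ D s ↦ b • (pullback of d₁ s)`.

If `c : h^* Ω₁ ⟶ Ω₂` is compatible with derivations `d₁`, `d₂` (`OmegaSh.IsDiffCompat`), then under this
identification `c` on `U₂` is `b ⊗ D s ↦ b • d₂ (h♯ s)`.
-/

set_option autoImplicit false
set_option linter.style.haveILetI false
set_option linter.unusedSectionVars false
universe u
open AlgebraicGeometry CategoryTheory Limits TopologicalSpace Opposite TensorProduct OmegaSh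

namespace Groth.Agent.Lib.Helper51.OmegaUniv

open Groth.Agent.Lib.Helper49 Groth.Agent.Lib.Helper49.UnitChart
  Groth.Agent.Lib.Helper16.FlatPull

variable {X₁ S₁ X₂ : Scheme.{u}} {f₁ : X₁ ⟶ S₁} (h : X₂ ⟶ X₁) {Ω₁ : X₁.Modules}
  {d₁ : Der f₁ Ω₁}

/-- Sections of the pullback of a sheaf of differentials over an affine chart. -/
theorem exists_pullback_sections_equiv (hd₁ : IsUniversal d₁) {U₁ : X₁.Opens}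
    (hU₁ : IsAffineOpen U₁) {V₁ : S₁.Opens} (hV₁ : IsAffineOpen V₁) (h₁ : U₁ ≤ f₁ ⁻¹ᵁ V₁)
    {U₂ : X₂.Opens} (hU₂ : IsAffineOpen U₂) (hh : U₂ ≤ h ⁻¹ᵁ U₁) :
    letI := (f₁.appLE V₁ U₁ h₁).hom.toAlgebra
    letI := (h.appLE U₁ U₂ hh).hom.toAlgebra
    ∃ e : Γ(X₂, U₂) ⊗[Γ(X₁, U₁)] Ω[Γ(X₁, U₁)⁄Γ(S₁, V₁)] ≃ₗ[Γ(X₂, U₂)]
        Γ((Scheme.Modules.pullback h).obj Ω₁, U₂),
      ∀ (b : Γ(X₂, U₂)) (s : Γ(X₁, U₁)),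
        e (b ⊗ₜ KaehlerDifferential.D Γ(S₁, V₁) Γ(X₁, U₁) s) =
          b • pullSLE h Ω₁ U₁ U₂ hh (d₁.app U₁ s) := by
  letI := (f₁.appLE V₁ U₁ h₁).hom.toAlgebra
  letI := (h.appLE U₁ U₂ hh).hom.toAlgebra
  letI : Module Γ(X₁, U₁) Γ((Scheme.Modules.pullback h).obj Ω₁, U₂) :=
    Module.compHom _ (h.appLE U₁ U₂ hh).hom
  haveI : IsScalarTower Γ(X₁, U₁) Γ(X₂, U₂) Γ((Scheme.Modules.pullback h).obj Ω₁, U₂) :=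
    IsScalarTower.of_compHom _ _ _
  haveI : Ω₁.IsQuasicoherent := isQuasicoherent_of_isUniversal f₁ hd₁
  obtain ⟨e₁, he₁⟩ := exists_sections_equiv f₁ hd₁ hU₁ hV₁ h₁
  obtain ⟨τ, hτ, hbc⟩ := exists_isBaseChange_pullSLE h hU₁ hU₂ hh Ω₁
  refine ⟨(TensorProduct.AlgebraTensorModule.congr (LinearEquiv.refl Γ(X₂, U₂) Γ(X₂, U₂)) e₁) ≪≫ₗ
    hbc.equiv, fun b s => ?_⟩
  rw [LinearEquiv.trans_apply, TensorProduct.AlgebraTensorModule.congr_tmul,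
    LinearEquiv.refl_apply, hbc.equiv_tmul, he₁, hτ]

variable {S₂ : Scheme.{u}} {f₂ : X₂ ⟶ S₂} {Ω₂ : X₂.Modules} {d₂ : Der f₂ Ω₂}

theorem diffCompat_app_pullSLE {c : (Scheme.Modules.pullback h).obj Ω₁ ⟶ Ω₂}
    (hc : IsDiffCompat h d₁ d₂ c) {U₁ : X₁.Opens} {U₂ : X₂.Opens} (hh : U₂ ≤ h ⁻¹ᵁ U₁)
    (s : Γ(X₁, U₁)) :
    c.app U₂ (pullSLE h Ω₁ U₁ U₂ hh (d₁.app U₁ s)) = d₂.app U₂ (h.appLE U₁ U₂ hh s) := by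
  have e : h.appLE U₁ U₂ hh s = X₂.presheaf.map (homOfLE hh).op (h.app U₁ s) := rfl
  rw [e, der_app_map, ← hc U₁ s]
  exact (Groth.Agent.Lib.Helper11.GenLocus.app_res c hh _).symm

/-- On affine charts, a map `c : h^* Ω₁ ⟶ Ω₂` compatible with the derivations is
`b ⊗ D s ↦ b • d₂ (h♯ s)`. -/
theorem exists_pullback_sections_equiv_of_diffCompat (hd₁ : IsUniversal d₁)
    {c : (Scheme.Modules.pullback h).obj Ω₁ ⟶ Ω₂} (hc : IsDiffCompat h d₁ d₂ c)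
    {U₁ : X₁.Opens}
    (hU₁ : IsAffineOpen U₁) {V₁ : S₁.Opens} (hV₁ : IsAffineOpen V₁) (h₁ : U₁ ≤ f₁ ⁻¹ᵁ V₁)
    {U₂ : X₂.Opens} (hU₂ : IsAffineOpen U₂) (hh : U₂ ≤ h ⁻¹ᵁ U₁) :
    letI := (f₁.appLE V₁ U₁ h₁).hom.toAlgebra
    letI := (h.appLE U₁ U₂ hh).hom.toAlgebra
    ∃ e : Γ(X₂, U₂) ⊗[Γ(X₁, U₁)] Ω[Γ(X₁, U₁)⁄Γ(S₁, V₁)] ≃ₗ[Γ(X₂, U₂)]
        Γ((Scheme.Modules.pullback h).obj Ω₁, U₂),
      ∀ (b : Γ(X₂, U₂)) (s : Γ(X₁, U₁)),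
        c.app U₂ (e (b ⊗ₜ KaehlerDifferential.D Γ(S₁, V₁) Γ(X₁, U₁) s)) =
          b • d₂.app U₂ (h.appLE U₁ U₂ hh s) := by
  letI := (f₁.appLE V₁ U₁ h₁).hom.toAlgebra
  letI := (h.appLE U₁ U₂ hh).hom.toAlgebra
  obtain ⟨e, he⟩ := exists_pullback_sections_equiv h hd₁ hU₁ hV₁ h₁ hU₂ hh
  refine ⟨e, fun b s => ?_⟩
  rw [he, Scheme.Modules.Hom.app_smul, diffCompat_app_pullSLE h hc hh s]

end Groth.Agent.Lib.Helper51.OmegaUniv
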