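import Mathlib
import Groth.Agent.Lib.Helper42.QCohAffineSections
import Groth.Agent.Lib.Helper51.OmegaUniv.DiffCompat

/-!
# Chart squares for maps of differentials (helper51)

For `c : h^* Ω₁ ⟶ Ω₂` compatible with universal derivations, on affine charts `c` becomes a linear
map `L : B₂ ⊗[B₁] Ω[B₁/R₁] → Ω[B₂/R₂]` with `L (1 ⊗ D s) = D (h♯ s)`; iso / mono criteria.
-/

set_option autoImplicit false
set_option linter.style.haveILetI false
set_option linter.unusedSectionVars false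
universe u
open AlgebraicGeometry CategoryTheory Limits TopologicalSpace Opposite TensorProduct OmegaSh

namespace Groth.Agent.Lib.Helper51.OmegaUniv

open Groth.Agent.Lib.Helper49 Groth.Agent.Lib.Helper49.UnitChart
  Groth.Agent.Lib.Helper16.FlatPull Groth.Agent.Lib.Helper45 Groth.Agent.Lib.Helper42

section Criteria

variable {X : Scheme.{u}}

attribute [local instance] Groth.Agent.Lib.Helper45.stalkModuleSections

theorem stalkMap_injective_of_app_injective {M N : X.Modules} [M.IsQuasicoherent]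
    [N.IsQuasicoherent] (φ : M ⟶ N) {U : X.Opens} (hU : IsAffineOpen U) (x : U)
    (h : Function.Injective (φ.app U)) : Function.Injective (stalkMap φ x).hom := by
  haveI := Groth.Agent.Lib.Helper45.isLocalizedModule_germₗ hU M x
  haveI := Groth.Agent.Lib.Helper45.isLocalizedModule_germₗ hU N x
  have h1 := stalkMapₗ_eq_map φ hU x
  have h2 : Function.Injective (stalkMapₗ φ x) := by
    rw [h1]
    exact IsLocalizedModule.map_injective _ _ _ (Groth.Agent.Lib.Helper45.appₗ φ U) h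
  exact h2

/-- A morphism of quasi-coherent modules which is injective on sections over an affine open cover
is a monomorphism. -/
theorem mono_of_app_injective_of_cover {M N : X.Modules} [M.IsQuasicoherent]
    [N.IsQuasicoherent] (φ : M ⟶ N)
    (h : ∀ x : X, ∃ U : X.Opens, IsAffineOpen U ∧ x ∈ U ∧ Function.Injective (φ.app U)) :
    Mono φ := by
  apply mono_of_stalkMap_injective
  intro x
  obtain ⟨U, hU, hxU, hinj⟩ := h x
  exact stalkMap_injective_of_app_injective φ hU ⟨x, hxU⟩ hinj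

end Criteria

variable {X₁ S₁ X₂ S₂ : Scheme.{u}} {f₁ : X₁ ⟶ S₁} {f₂ : X₂ ⟶ S₂} (h : X₂ ⟶ X₁)
  {Ω₁ : X₁.Modules} {d₁ : Der f₁ Ω₁} {Ω₂ : X₂.Modules} {d₂ : Der f₂ Ω₂}

/-- **Chart square.** On affine charts, a map `c : h^* Ω₁ ⟶ Ω₂` compatible with universal
derivations is the canonical map `B₂ ⊗ Ω[B₁/R₁] → Ω[B₂/R₂]`. -/
theorem exists_chart_square (hd₁ : IsUniversal d₁) (hd₂ : IsUniversal d₂)
    {c : (Scheme.Modules.pullback h).obj Ω₁ ⟶ Ω₂} (hc : IsDiffCompat h d₁ d₂ c)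
    {U₁ : X₁.Opens} (hU₁ : IsAffineOpen U₁) {V₁ : S₁.Opens} (hV₁ : IsAffineOpen V₁)
    (h₁ : U₁ ≤ f₁ ⁻¹ᵁ V₁)
    {U₂ : X₂.Opens} (hU₂ : IsAffineOpen U₂) {V₂ : S₂.Opens} (hV₂ : IsAffineOpen V₂)
    (h₂ : U₂ ≤ f₂ ⁻¹ᵁ V₂) (hh : U₂ ≤ h ⁻¹ᵁ U₁) :
    letI := (f₁.appLE V₁ U₁ h₁).hom.toAlgebra
    letI := (f₂.appLE V₂ U₂ h₂).hom.toAlgebra
    letI := (h.appLE U₁ U₂ hh).hom.toAlgebra
    ∃ (e : Γ(X₂, U₂) ⊗[Γ(X₁, U₁)] Ω[Γ(X₁, U₁)⁄Γ(S₁, V₁)] ≃ₗ[Γ(X₂, U₂)]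
        Γ((Scheme.Modules.pullback h).obj Ω₁, U₂))
      (e₂ : Ω[Γ(X₂, U₂)⁄Γ(S₂, V₂)] ≃ₗ[Γ(X₂, U₂)] Γ(Ω₂, U₂))
      (L : Γ(X₂, U₂) ⊗[Γ(X₁, U₁)] Ω[Γ(X₁, U₁)⁄Γ(S₁, V₁)] →ₗ[Γ(X₂, U₂)]
        Ω[Γ(X₂, U₂)⁄Γ(S₂, V₂)]),
      (∀ s : Γ(X₁, U₁), L (1 ⊗ₜ KaehlerDifferential.D Γ(S₁, V₁) Γ(X₁, U₁) s) =
        KaehlerDifferential.D Γ(S₂, V₂) Γ(X₂, U₂) (h.appLE U₁ U₂ hh s)) ∧
      (∀ s : Γ(X₂, U₂), e₂ (KaehlerDifferential.D Γ(S₂, V₂) Γ(X₂, U₂) s) = d₂.app U₂ s) ∧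
      ∀ t, c.app U₂ (e t) = e₂ (L t) := by
  letI := (f₁.appLE V₁ U₁ h₁).hom.toAlgebra
  letI := (f₂.appLE V₂ U₂ h₂).hom.toAlgebra
  letI := (h.appLE U₁ U₂ hh).hom.toAlgebra
  obtain ⟨e, he⟩ := exists_pullback_sections_equiv_of_diffCompat h hd₁ hc hU₁ hV₁ h₁ hU₂ hh
  obtain ⟨e₂, he₂⟩ := exists_sections_equiv f₂ hd₂ hU₂ hV₂ h₂
  refine ⟨e, e₂, e₂.symm.toLinearMap ∘ₗ Groth.Agent.Lib.Helper45.appₗ c U₂ ∘ₗ e.toLinearMap, fun s => ?_, he₂, fun t => ?_⟩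
  · rw [LinearMap.comp_apply, LinearMap.comp_apply, LinearEquiv.coe_coe, LinearEquiv.coe_coe,
      appₗ_apply, he, one_smul, ← he₂, LinearEquiv.symm_apply_apply]
  · rw [LinearMap.comp_apply, LinearMap.comp_apply, LinearEquiv.coe_coe, LinearEquiv.coe_coe,
      LinearEquiv.apply_symm_apply, appₗ_apply]

/-- Given the chart square, `c.app U₂` is bijective iff the algebraic map is. -/
theorem app_bijective_of_chart_square {c : (Scheme.Modules.pullback h).obj Ω₁ ⟶ Ω₂}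
    {U₂ : X₂.Opens} {T K : Type*} (e : T ≃ Γ((Scheme.Modules.pullback h).obj Ω₁, U₂))
    (e₂ : K ≃ Γ(Ω₂, U₂)) (L : T → K) (hL : ∀ t, c.app U₂ (e t) = e₂ (L t))
    (hb : Function.Bijective L) : Function.Bijective (c.app U₂) := by
  have : (c.app U₂ : _ → _) = e₂ ∘ L ∘ e.symm := by
    funext y
    simp only [Function.comp_apply]
    rw [← hL, Equiv.apply_symm_apply]
  rw [this]
  exact e₂.bijective.comp (hb.comp e.symm.bijective)

theorem app_injective_of_chart_square {c : (Scheme.Modules.pullback h).obj Ω₁ ⟶ Ω₂}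
    {U₂ : X₂.Opens} {T K : Type*} (e : T ≃ Γ((Scheme.Modules.pullback h).obj Ω₁, U₂))
    (e₂ : K ≃ Γ(Ω₂, U₂)) (L : T → K) (hL : ∀ t, c.app U₂ (e t) = e₂ (L t))
    (hb : Function.Injective L) : Function.Injective (c.app U₂) := by
  have : (c.app U₂ : _ → _) = e₂ ∘ L ∘ e.symm := by
    funext y
    simp only [Function.comp_apply]
    rw [← hL, Equiv.apply_symm_apply]
  rw [this]
  exact e₂.injective.comp (hb.comp e.symm.injective)

end Groth.Agent.Lib.Helper51.OmegaUniv
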