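import Mathlib
import Groth.Agent.Lib.Helper42.QCohAffineSections
import Groth.Agent.Lib.Helper45.EpiStalk
import Groth.Agent.Lib.Helper49.QCohLocal

/-!
# Epi / exactness criteria for quasi-coherent modules on affine covers (helper51)
-/

set_option autoImplicit false
set_option linter.style.haveILetI false
universe u
open AlgebraicGeometry CategoryTheory Limits TopologicalSpace Opposite

namespace Groth.Agent.Lib.Helper51.OmegaUniv

open Groth.Agent.Lib.Helper49 Groth.Agent.Lib.Helper42 Groth.Agent.Lib.Helper45

variable {X : Scheme.{u}}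

attribute [local instance] Groth.Agent.Lib.Helper45.stalkModuleSections

theorem stalkMap_surjective_of_app_surjective {M N : X.Modules} [M.IsQuasicoherent]
    [N.IsQuasicoherent] (φ : M ⟶ N) {U : X.Opens} (hU : IsAffineOpen U) (x : U)
    (h : Function.Surjective (φ.app U)) : Function.Surjective (stalkMap φ x).hom := by
  haveI := Groth.Agent.Lib.Helper45.isLocalizedModule_germₗ hU M x
  haveI := Groth.Agent.Lib.Helper45.isLocalizedModule_germₗ hU N x
  have h1 := stalkMapₗ_eq_map φ hU x
  have h2 : Function.Surjective (stalkMapₗ φ x) := by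
    rw [h1]
    exact IsLocalizedModule.map_surjective _ _ _ (Groth.Agent.Lib.Helper45.appₗ φ U) h
  exact h2

/-- A morphism of quasi-coherent modules which is surjective on sections over an affine open
cover is an epimorphism. -/
theorem epi_of_app_surjective_of_cover {M N : X.Modules} [M.IsQuasicoherent]
    [N.IsQuasicoherent] (φ : M ⟶ N)
    (h : ∀ x : X, ∃ U : X.Opens, IsAffineOpen U ∧ x ∈ U ∧ Function.Surjective (φ.app U)) :
    Epi φ := by
  apply epi_of_stalkMap_surjective
  intro x
  obtain ⟨U, hU, hxU, hs⟩ := h x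
  exact stalkMap_surjective_of_app_surjective φ hU ⟨x, hxU⟩ hs

/-- A complex of quasi-coherent modules which is exact on sections over an affine open cover is
exact. -/
theorem exact_of_app_exact_of_cover {M N P : X.Modules} [M.IsQuasicoherent]
    [hN : N.IsQuasicoherent] [hP : P.IsQuasicoherent] (φ : M ⟶ N) (c : N ⟶ P) (w : φ ≫ c = 0)
    (h : ∀ x : X, ∃ U : X.Opens, IsAffineOpen U ∧ x ∈ U ∧
      ∀ t : Γ(N, U), c.app U t = 0 → ∃ n : Γ(M, U), φ.app U n = t) :
    (ShortComplex.mk φ c w).Exact := by
  rw [ShortComplex.exact_iff_epi_kernel_lift]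
  haveI : (kernel c).IsQuasicoherent := isQuasicoherent_kernel c hN hP
  change Epi (kernel.lift c φ w)
  apply epi_of_app_surjective_of_cover
  intro x
  obtain ⟨U, hU, hxU, hex⟩ := h x
  refine ⟨U, hU, hxU, fun k => ?_⟩
  have hk : c.app U ((kernel.ι c).app U k) = 0 :=
    congrArg (fun m : kernel c ⟶ P => m.app U k) (kernel.condition c)
  obtain ⟨n, hn⟩ := hex _ hk
  refine ⟨n, ?_⟩
  apply Groth.Agent.Lib.Helper45.app_injective_of_mono (kernel.ι c) U
  rw [← hn]
  exact congrArg (fun m : M ⟶ N => m.app U n) (kernel.lift_ι c φ w)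

end Groth.Agent.Lib.Helper51.OmegaUniv
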