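import Mathlib
import Groth.Prelude.Def_Omega3
import Groth.Agent.Lib.Helper45.IdealModSections
import Groth.Agent.Lib.Helper49.UnitChart
import Groth.Agent.Lib.Helper13.OmegaShYoneda
import Groth.Agent.Lib.Helper51.OmegaUniv.DiffCompatIso
import Groth.Agent.Lib.Helper51.OmegaUniv.ExactCover

/-!
# Conormal sheaves on affine charts (helper51)

* `exists_closedImm_chart`: charts on which an immersion is a closed immersion;
* `exists_tensor_sections_equiv`, `exists_conormal_sections_equiv`: sections of pullbacks over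
  affine charts as tensor products (pinned by `pullSLE`);
* `app_idealSect'`, `exists_idealSect_eq`: sections of the ideal sheaf of `j` versus `ker j♯`;
* `pullback_hom_ext`: morphisms out of a pullback are determined on pulled-back sections;
* `exists_chart_square'`: the chart square of `DiffCompatIso` with the formula for the chart of
  the pullback.
-/

set_option autoImplicit false
set_option linter.style.haveILetI false
universe u
open AlgebraicGeometry CategoryTheory Limits TopologicalSpace Opposite TensorProduct OmegaSh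

namespace Groth.Agent.Lib.Helper51.OmegaUniv

open Groth.Agent.Lib.Helper49 Groth.Agent.Lib.Helper49.UnitChart Groth.Agent.Lib.Helper45

/-- Around any point of the source of an immersion `j : X ⟶ Y` (inside a given open `T`) there is
an affine open `U` of `Y` with affine preimage on which `j` is a closed immersion:
`Γ(Y, U) → Γ(X, j⁻¹ U)` is surjective. -/
theorem exists_closedImm_chart {X Y : Scheme.{u}} (j : X ⟶ Y) [IsImmersion j] (x : X)
    (T : Y.Opens) (hx : j x ∈ T) :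
    ∃ U : Y.Opens, IsAffineOpen U ∧ j x ∈ U ∧ U ≤ T ∧ IsAffineOpen (j ⁻¹ᵁ U) ∧
      Function.Surjective (j.app U).hom := by
  let c := j.liftCoborder
  have hcx : c x ∈ j.coborderRange.ι ⁻¹ᵁ T := by
    change j.coborderRange.ι (c x) ∈ T
    rw [← Scheme.Hom.comp_apply, j.liftCoborder_ι]
    exact hx
  obtain ⟨W', hW', hxW', hW'T⟩ := exists_isAffineOpen_mem_and_subset
    (x := c x) (U := j.coborderRange.ι ⁻¹ᵁ T) hcx
  have hU : IsAffineOpen (j.coborderRange.ι ''ᵁ W') := hW'.image_of_isOpenImmersion _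
  have hpre : c ⁻¹ᵁ W' = j ⁻¹ᵁ (j.coborderRange.ι ''ᵁ W') := j.liftCoborder_preimage W'
  have hjU : IsAffineOpen (j ⁻¹ᵁ (j.coborderRange.ι ''ᵁ W')) := hpre ▸ hW'.preimage c
  refine ⟨j.coborderRange.ι ''ᵁ W', hU, ?_, ?_, hjU, ?_⟩
  · have : x ∈ j ⁻¹ᵁ (j.coborderRange.ι ''ᵁ W') := by rw [← hpre]; exact hxW'
    exact this
  · rintro _ ⟨y, hy, rfl⟩
    exact hW'T hy
  · have h1 : Function.Surjective (c.app W').hom := c.app_surjective W' hW'
    have h2 : c.app W' = j.app (j.coborderRange.ι ''ᵁ W') ≫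
        X.presheaf.map (eqToHom hpre).op := liftCoborder_app j W'
    intro a
    obtain ⟨b, hb⟩ := h1 ((X.presheaf.map (eqToHom hpre).op).hom a)
    refine ⟨b, ?_⟩
    have hinj := (ConcreteCategory.bijective_of_isIso (X.presheaf.map (eqToHom hpre).op)).1
    apply hinj
    rw [← hb, h2]
    rfl

end Groth.Agent.Lib.Helper51.OmegaUniv

namespace Groth.Agent.Lib.Helper51.OmegaUniv

open Groth.Agent.Lib.Helper49 Groth.Agent.Lib.Helper49.UnitChart Groth.Agent.Lib.Helper45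

section IdealSections

variable {Y : Scheme.{u}}

theorem idealSect_injective (I : Y.IdealSheafData) (U : Y.Opens) :
    Function.Injective (idealSect I U) :=
  idealModι_app_injective I U

theorem idealSect_smul (I : Y.IdealSheafData) (U : Y.Opens) (r : Γ(Y, U))
    (s : Γ(ClSub.idealMod I, U)) : idealSect I U (r • s) = r * idealSect I U s :=
  idealModι_app_smul I U r s

theorem app_idealSect {X : Scheme.{u}} (j : X ⟶ Y) [QuasiCompact j] {U : Y.Opens}
    (hU : IsAffineOpen U) (s : Γ(ClSub.idealMod j.ker, U)) :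
    j.app U (idealSect j.ker U s) = 0 := by
  have h := idealModι_app_mem j.ker ⟨U, hU⟩ s
  rw [Scheme.Hom.ker_apply] at h
  exact h

theorem exists_idealSect_eq {X : Scheme.{u}} (j : X ⟶ Y) [QuasiCompact j] {U : Y.Opens}
    (hU : IsAffineOpen U) (x : Γ(Y, U)) (hx : j.app U x = 0) :
    ∃ s : Γ(ClSub.idealMod j.ker, U), idealSect j.ker U s = x := by
  have hx' : x ∈ j.ker.ideal ⟨U, hU⟩ := by
    rw [Scheme.Hom.ker_apply]
    exact hx
  exact (mem_ideal_iff_exists_section j.ker ⟨U, hU⟩ x).1 hx'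

end IdealSections

section Tensor

variable {X Y : Scheme.{u}}

/-- Sections of the pullback of a quasi-coherent module over affine charts, as a tensor
product. -/
theorem exists_tensor_sections_equiv (h : X ⟶ Y) (G : Y.Modules) [G.IsQuasicoherent]
    {U : Y.Opens} (hU : IsAffineOpen U) {W : X.Opens} (hW : IsAffineOpen W)
    (hWU : W ≤ h ⁻¹ᵁ U) :
    letI := (h.appLE U W hWU).hom.toAlgebra
    ∃ e : Γ(X, W) ⊗[Γ(Y, U)] Γ(G, U) ≃ₗ[Γ(X, W)] Γ((Scheme.Modules.pullback h).obj G, W),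
      ∀ (b : Γ(X, W)) (s : Γ(G, U)), e (b ⊗ₜ s) = b • pullSLE h G U W hWU s := by
  letI := (h.appLE U W hWU).hom.toAlgebra
  letI : Module Γ(Y, U) Γ((Scheme.Modules.pullback h).obj G, W) :=
    Module.compHom _ (h.appLE U W hWU).hom
  haveI : IsScalarTower Γ(Y, U) Γ(X, W) Γ((Scheme.Modules.pullback h).obj G, W) :=
    IsScalarTower.of_compHom _ _ _
  obtain ⟨τ, hτ, hbc⟩ := exists_isBaseChange_pullSLE h hU hW hWU G
  refine ⟨hbc.equiv, fun b s => ?_⟩
  rw [hbc.equiv_tmul, hτ]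

/-- Sections of the conormal sheaf over affine charts. -/
theorem exists_conormal_sections_equiv (j : X ⟶ Y)
    {U : Y.Opens} (hU : IsAffineOpen U) {W : X.Opens} (hW : IsAffineOpen W)
    (hWU : W ≤ j ⁻¹ᵁ U) :
    letI := (j.appLE U W hWU).hom.toAlgebra
    ∃ e : Γ(X, W) ⊗[Γ(Y, U)] Γ(ClSub.idealMod j.ker, U) ≃ₗ[Γ(X, W)] Γ(Omega.conormal j, W),
      ∀ (b : Γ(X, W)) (s : Γ(ClSub.idealMod j.ker, U)),
        e (b ⊗ₜ s) =
          b • (Omega.conormal j).presheaf.map (homOfLE hWU).op (conormalSect j U s) :=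
  exists_tensor_sections_equiv j (ClSub.idealMod j.ker) hU hW hWU

/-- For a surjective `B → A`, every element of `A ⊗[B] N` is a pure tensor `1 ⊗ n`. -/
theorem exists_one_tmul {B A N : Type*} [CommRing B] [CommRing A] [Algebra B A]
    [AddCommGroup N] [Module B N] (hs : Function.Surjective (algebraMap B A))
    (t : A ⊗[B] N) : ∃ n : N, t = 1 ⊗ₜ n := by
  induction t using TensorProduct.induction_on with
  | zero => exact ⟨0, (tmul_zero _ _).symm⟩
  | tmul a n =>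
    obtain ⟨b, rfl⟩ := hs a
    refine ⟨b • n, ?_⟩
    rw [← TensorProduct.smul_tmul, Algebra.smul_def, mul_one]
  | add x y hx hy =>
    obtain ⟨n, rfl⟩ := hx
    obtain ⟨m, rfl⟩ := hy
    exact ⟨n + m, (tmul_add _ _ _).symm⟩

end Tensor

end Groth.Agent.Lib.Helper51.OmegaUniv

namespace Groth.Agent.Lib.Helper51.OmegaUniv

open Groth.Agent.Lib.Helper45

variable {X Y : Scheme.{u}}

/-- Sections of the ideal sheaf of `j` are killed by `j♯` (over any open). -/
theorem app_idealSect' (j : X ⟶ Y) (U : Y.Opens) (s : Γ(ClSub.idealMod j.ker, U)) :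
    j.app U (idealSect j.ker U s) = 0 := by
  have h0 : (ClSub.toSubscheme j.ker).app U ((ClSub.idealModι j.ker).app U s) = 0 :=
    ((idealModι_app_exact j.ker U) _).2 ⟨s, rfl⟩
  have h1 : j.imageι.app U (idealSect j.ker U s) = 0 := h0
  have key : ∀ (j' : X ⟶ Y) (_ : j' = j), j'.app U (idealSect j.ker U s) = 0 →
      j.app U (idealSect j.ker U s) = 0 := by
    rintro _ rfl h
    exact h
  apply key _ j.toImage_imageι
  change (j.toImage.app (j.imageι ⁻¹ᵁ U)) (j.imageι.app U (idealSect j.ker U s)) = 0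
  rw [h1, map_zero]

/-- Morphisms out of a pullback are determined by their values on pulled-back sections. -/
theorem pullback_hom_ext (h : X ⟶ Y) {M : Y.Modules} {N : X.Modules}
    (a b : (Scheme.Modules.pullback h).obj M ⟶ N)
    (H : ∀ (V : Y.Opens) (m : Γ(M, V)),
      a.app (h ⁻¹ᵁ V) (pullSect h M V m) = b.app (h ⁻¹ᵁ V) (pullSect h M V m)) : a = b := by
  apply ((Scheme.Modules.pullbackPushforwardAdjunction h).homEquiv M N).injective
  apply Scheme.Modules.hom_ext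
  intro V
  ext m
  exact (Groth.Agent.Lib.Helper13.OmegaShYoneda.homEquiv_app h a V m).trans
    ((H V m).trans (Groth.Agent.Lib.Helper13.OmegaShYoneda.homEquiv_app h b V m).symm)

end Groth.Agent.Lib.Helper51.OmegaUniv

namespace Groth.Agent.Lib.Helper51.OmegaUniv

open Groth.Agent.Lib.Helper49 Groth.Agent.Lib.Helper49.UnitChart Groth.Agent.Lib.Helper45

section ChartSquare

variable {X₁ S₁ X₂ S₂ : Scheme.{u}} {f₁ : X₁ ⟶ S₁} {f₂ : X₂ ⟶ S₂} (h : X₂ ⟶ X₁)
  {Ω₁ : X₁.Modules} {d₁ : Der f₁ Ω₁} {Ω₂ : X₂.Modules} {d₂ : Der f₂ Ω₂}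

/-- The chart square, together with the formula for the chart of the pullback. -/
theorem exists_chart_square' (hd₁ : IsUniversal d₁) (hd₂ : IsUniversal d₂)
    {c : (Scheme.Modules.pullback h).obj Ω₁ ⟶ Ω₂} (hc : IsDiffCompat h d₁ d₂ c)
    {U₁ : X₁.Opens} (hU₁ : IsAffineOpen U₁) {V₁ : S₁.Opens} (hV₁ : IsAffineOpen V₁)
    (h₁ : U₁ ≤ f₁ ⁻¹ᵁ V₁)
    {U₂ : X₂.Opens} (hU₂ : IsAffineOpen U₂) {V₂ : S₂.Opens} (hV₂ : IsAffineOpen V₂)
    (h₂ : U₂ ≤ f₂ ⁻¹ᵁ V₂) (hh : U₂ ≤ h ⁻¹ᵁ U₁) :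
    letI := (f₁.appLE V₁ U₁ h₁).hom.toAlgebra
    letI := (f₂.appLE V₂ U₂ h₂).hom.toAlgebra
    letI := (h.appLE U₁ U₂ hh).hom.toAlgebra
    ∃ (e : Γ(X₂, U₂) ⊗[Γ(X₁, U₁)] Ω[Γ(X₁, U₁)⁄Γ(S₁, V₁)] ≃ₗ[Γ(X₂, U₂)]
        Γ((Scheme.Modules.pullback h).obj Ω₁, U₂))
      (e₂ : Ω[Γ(X₂, U₂)⁄Γ(S₂, V₂)] ≃ₗ[Γ(X₂, U₂)] Γ(Ω₂, U₂))
      (L : Γ(X₂, U₂) ⊗[Γ(X₁, U₁)] Ω[Γ(X₁, U₁)⁄Γ(S₁, V₁)] →ₗ[Γ(X₂, U₂)]
        Ω[Γ(X₂, U₂)⁄Γ(S₂, V₂)]),
      (∀ (b : Γ(X₂, U₂)) (s : Γ(X₁, U₁)),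
        e (b ⊗ₜ KaehlerDifferential.D Γ(S₁, V₁) Γ(X₁, U₁) s) =
          b • pullSLE h Ω₁ U₁ U₂ hh (d₁.app U₁ s)) ∧
      (∀ s : Γ(X₁, U₁), L (1 ⊗ₜ KaehlerDifferential.D Γ(S₁, V₁) Γ(X₁, U₁) s) =
        KaehlerDifferential.D Γ(S₂, V₂) Γ(X₂, U₂) (h.appLE U₁ U₂ hh s)) ∧
      (∀ s : Γ(X₂, U₂), e₂ (KaehlerDifferential.D Γ(S₂, V₂) Γ(X₂, U₂) s) = d₂.app U₂ s) ∧
      ∀ t, c.app U₂ (e t) = e₂ (L t) := by
  letI := (f₁.appLE V₁ U₁ h₁).hom.toAlgebra
  letI := (f₂.appLE V₂ U₂ h₂).hom.toAlgebra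
  letI := (h.appLE U₁ U₂ hh).hom.toAlgebra
  obtain ⟨e, he⟩ := exists_pullback_sections_equiv h hd₁ hU₁ hV₁ h₁ hU₂ hh
  obtain ⟨e₂, he₂⟩ := exists_sections_equiv f₂ hd₂ hU₂ hV₂ h₂
  refine ⟨e, e₂, e₂.symm.toLinearMap ∘ₗ Groth.Agent.Lib.Helper45.appₗ c U₂ ∘ₗ e.toLinearMap,
    he, fun s => ?_, he₂, fun t => ?_⟩
  · rw [LinearMap.comp_apply, LinearMap.comp_apply, LinearEquiv.coe_coe, LinearEquiv.coe_coe,
      appₗ_apply, he, one_smul, diffCompat_app_pullSLE h hc hh s, ← he₂,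
      LinearEquiv.symm_apply_apply]
  · rw [LinearMap.comp_apply, LinearMap.comp_apply, LinearEquiv.coe_coe, LinearEquiv.coe_coe,
      LinearEquiv.apply_symm_apply, appₗ_apply]

end ChartSquare

section ConormalDiff

variable {X Y Z : Scheme.{u}}

/-- The conormal differential on sections over a chart. -/
theorem conormalDiff_app_res (j : X ⟶ Y) {f : Y ⟶ Z} {ΩY : Y.Modules} {dY : Der f ΩY}
    {φ : Omega.conormal j ⟶ (Scheme.Modules.pullback j).obj ΩY} (hφ : IsConormalDiff j dY φ)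
    {U : Y.Opens} {W : X.Opens} (hWU : W ≤ j ⁻¹ᵁ U) (s : Γ(ClSub.idealMod j.ker, U)) :
    φ.app W ((Omega.conormal j).presheaf.map (homOfLE hWU).op (conormalSect j U s)) =
      pullSLE j ΩY U W hWU (dY.app U (idealSect j.ker U s)) := by
  have e : pullSLE j ΩY U W hWU (dY.app U (idealSect j.ker U s)) =
      ((Scheme.Modules.pullback j).obj ΩY).presheaf.map (homOfLE hWU).op
        (pullSect j ΩY U (dY.app U (idealSect j.ker U s))) := rfl
  rw [e, ← hφ U s]
  exact (Groth.Agent.Lib.Helper11.GenLocus.app_res φ hWU _).symm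

end ConormalDiff

end Groth.Agent.Lib.Helper51.OmegaUniv
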