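import Mathlib

set_option autoImplicit false
set_option linter.style.haveILetI false
universe u
open TensorProduct KaehlerDifferential

namespace Groth.Agent.Lib.Helper51.OmegaUniv.KAlg

/-- Two linear maps out of `B₂ ⊗[B₁] Ω[B₁/R₁]` agreeing on `1 ⊗ D s` are equal. -/
theorem tensor_kaehler_ext {R₁ B₁ B₂ : Type*} [CommRing R₁] [CommRing B₁] [CommRing B₂]
    [Algebra R₁ B₁] [Algebra B₁ B₂] {N : Type*} [AddCommGroup N] [Module B₂ N]
    (L L' : B₂ ⊗[B₁] Ω[B₁⁄R₁] →ₗ[B₂] N)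
    (h : ∀ (s : B₁), L (1 ⊗ₜ D R₁ B₁ s) = L' (1 ⊗ₜ D R₁ B₁ s)) : L = L' := by
  letI : Module B₁ N := Module.compHom N (algebraMap B₁ B₂)
  haveI : IsScalarTower B₁ B₂ N := IsScalarTower.of_compHom _ _ _
  apply TensorProduct.AlgebraTensorModule.curry_injective
  apply LinearMap.ext_ring
  apply LinearMap.ext_on (KaehlerDifferential.span_range_derivation R₁ B₁)
  rintro _ ⟨s, rfl⟩
  exact h s

section Etale

variable {R₁ R₂ B₁ B₂ : Type u} [CommRing R₁] [CommRing R₂] [CommRing B₁] [CommRing B₂]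
    [Algebra R₁ R₂] [Algebra R₁ B₁] [Algebra R₂ B₂] [Algebra B₁ B₂] [Algebra R₁ B₂]
    [IsScalarTower R₁ R₂ B₂] [IsScalarTower R₁ B₁ B₂]

theorem map_bijective_of_formallyUnramified_base [Algebra.FormallyUnramified R₁ R₂] :
    Function.Bijective (KaehlerDifferential.map R₁ R₂ B₂ B₂) := by
  refine ⟨?_, KaehlerDifferential.map_surjective R₁ R₂ B₂⟩
  rw [injective_iff_map_eq_zero]
  intro x hx
  have hy : ∀ y : B₂ ⊗[R₂] Ω[R₂⁄R₁], y = 0 := by
    intro y
    induction y using TensorProduct.induction_on with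
    | zero => rfl
    | tmul b ω => rw [Subsingleton.elim ω 0, tmul_zero]
    | add a b ha hb => rw [ha, hb, add_zero]
  obtain ⟨y, rfl⟩ := (KaehlerDifferential.exact_mapBaseChange_map R₁ R₂ B₂ x).mp hx
  rw [hy y, map_zero]

/-- Étale square: `R₁ → R₂` formally unramified, `B₁ → B₂` formally étale. The canonical map
`B₂ ⊗ Ω[B₁/R₁] → Ω[B₂/R₂]` is bijective. -/
theorem bijective_of_etale_square [Algebra.FormallyUnramified R₁ R₂] [Algebra.FormallyEtale B₁ B₂]
    (L : B₂ ⊗[B₁] Ω[B₁⁄R₁] →ₗ[B₂] Ω[B₂⁄R₂])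
    (hL : ∀ (s : B₁), L (1 ⊗ₜ D R₁ B₁ s) = D R₂ B₂ (algebraMap B₁ B₂ s)) :
    Function.Bijective L := by
  have e : L = (KaehlerDifferential.map R₁ R₂ B₂ B₂) ∘ₗ
      (KaehlerDifferential.tensorKaehlerEquivOfFormallyEtale R₁ B₁ B₂).toLinearMap := by
    apply tensor_kaehler_ext
    intro s
    rw [hL]
    simp
  rw [e]
  exact (map_bijective_of_formallyUnramified_base).comp
    (KaehlerDifferential.tensorKaehlerEquivOfFormallyEtale R₁ B₁ B₂).bijective

end Etale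

end Groth.Agent.Lib.Helper51.OmegaUniv.KAlg
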