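import Mathlib
import Groth.Agent.Lib.Helper51.OmegaUniv.KaehlerAlg

set_option autoImplicit false
set_option linter.style.haveILetI false
universe u
open TensorProduct KaehlerDifferential

namespace Groth.Agent.Lib.Helper51.OmegaUniv.KAlg

theorem eq_mapBaseChange {R A B : Type*} [CommRing R] [CommRing A] [CommRing B]
    [Algebra R A] [Algebra R B] [Algebra A B] [IsScalarTower R A B]
    (L : B ⊗[A] Ω[A⁄R] →ₗ[B] Ω[B⁄R])
    (hL : ∀ s : A, L (1 ⊗ₜ D R A s) = D R B (algebraMap A B s)) :
    L = KaehlerDifferential.mapBaseChange R A B := by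
  apply tensor_kaehler_ext
  intro s
  rw [hL, KaehlerDifferential.mapBaseChange_tmul, one_smul, KaehlerDifferential.map_D]

/-- `A → B` formally smooth: `B ⊗ Ω[A/R] → Ω[B/R]` is injective. -/
theorem injective_of_formallySmooth {R A B : Type*} [CommRing R] [CommRing A] [CommRing B]
    [Algebra R A] [Algebra R B] [Algebra A B] [IsScalarTower R A B] [Algebra.FormallySmooth A B]
    (L : B ⊗[A] Ω[A⁄R] →ₗ[B] Ω[B⁄R])
    (hL : ∀ s : A, L (1 ⊗ₜ D R A s) = D R B (algebraMap A B s)) :
    Function.Injective L := by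
  rw [eq_mapBaseChange L hL, injective_iff_map_eq_zero]
  intro x hx
  obtain ⟨x, rfl⟩ := (Algebra.H1Cotangent.exact_δ_mapBaseChange R A B x).mp hx
  rw [Subsingleton.elim x 0, map_zero]

end Groth.Agent.Lib.Helper51.OmegaUniv.KAlg
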