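import Mathlib
import Groth.Agent.Lib.Helper51.OmegaUniv.Conormal

set_option autoImplicit false
set_option linter.style.haveILetI false
universe u
open AlgebraicGeometry CategoryTheory Limits TopologicalSpace Opposite TensorProduct OmegaSh

namespace Groth.Agent.Lib.Helper51.OmegaUniv

/-- Over the image of an affine open of the coborder, an immersion is a closed immersion of
affine schemes. -/
theorem closedImm_chart_image {X Y : Scheme.{u}} (j : X ⟶ Y) [IsImmersion j]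
    (W' : j.coborderRange.toScheme.Opens) (hW' : IsAffineOpen W') :
    IsAffineOpen (j ⁻¹ᵁ (j.coborderRange.ι ''ᵁ W')) ∧
      Function.Surjective (j.app (j.coborderRange.ι ''ᵁ W')).hom := by
  let c := j.liftCoborder
  have hpre : c ⁻¹ᵁ W' = j ⁻¹ᵁ (j.coborderRange.ι ''ᵁ W') := j.liftCoborder_preimage W'
  have hjU : IsAffineOpen (j ⁻¹ᵁ (j.coborderRange.ι ''ᵁ W')) := hpre ▸ hW'.preimage c
  refine ⟨hjU, ?_⟩
  have h1 : Function.Surjective (c.app W').hom := c.app_surjective W' hW'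
  have h2 : c.app W' = j.app (j.coborderRange.ι ''ᵁ W') ≫
      X.presheaf.map (eqToHom hpre).op := liftCoborder_app j W'
  intro a
  obtain ⟨b, hb⟩ := h1 ((X.presheaf.map (eqToHom hpre).op).hom a)
  refine ⟨b, ?_⟩
  have hinj := (ConcreteCategory.bijective_of_isIso (X.presheaf.map (eqToHom hpre).op)).1
  apply hinj
  rw [← hb, h2]
  rfl

/-- Over any affine open inside the coborder, an immersion is a closed immersion of affine
schemes. -/
theorem closedImm_chart_of_le {X Y : Scheme.{u}} (j : X ⟶ Y) [IsImmersion j] {U : Y.Opens}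
    (hU : IsAffineOpen U) (hle : U ≤ j.coborderRange) :
    IsAffineOpen (j ⁻¹ᵁ U) ∧ Function.Surjective (j.app U).hom := by
  have e : j.coborderRange.ι ''ᵁ (j.coborderRange.ι ⁻¹ᵁ U) = U := by
    rw [Scheme.Hom.image_preimage_eq_opensRange_inf, Scheme.Opens.opensRange_ι]
    exact inf_eq_right.mpr hle
  have hW' : IsAffineOpen (j.coborderRange.ι ⁻¹ᵁ U) := by
    rw [← j.coborderRange.ι.isAffineOpen_iff_of_isOpenImmersion, e]
    exact hU
  have h := closedImm_chart_image j _ hW'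
  rw [e] at h
  exact h

theorem range_le_coborderRange {X Y : Scheme.{u}} (j : X ⟶ Y) [IsImmersion j] (x : X) :
    j x ∈ j.coborderRange :=
  subset_coborder ⟨x, rfl⟩

/-- Charts adapted to an immersion `i : Z ⟶ X` with a retraction `g : X ⟶ Z`: affine opens `U`
of `X` on which `i` is a closed immersion and which `g` maps into `i⁻¹ U`. -/
theorem exists_retraction_chart {Z X : Scheme.{u}} (i : Z ⟶ X) [IsImmersion i] (g : X ⟶ Z)
    (hgi : i ≫ g = 𝟙 Z) (x : Z) (T : X.Opens) (hx : i x ∈ T) :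
    ∃ U : X.Opens, IsAffineOpen U ∧ i x ∈ U ∧ U ≤ T ∧ IsAffineOpen (i ⁻¹ᵁ U) ∧
      Function.Surjective (i.app U).hom ∧ U ≤ g ⁻¹ᵁ (i ⁻¹ᵁ U) := by
  have hgi' : ∀ z : Z, g (i z) = z := by
    intro z
    rw [← Scheme.Hom.comp_apply, hgi]
    rfl
  obtain ⟨W₀, hW₀, hxW₀, -⟩ := exists_isAffineOpen_mem_and_subset (x := x) (U := ⊤) trivial
  have hxT' : i x ∈ T ⊓ i.coborderRange ⊓ g ⁻¹ᵁ W₀ := by
    refine ⟨⟨hx, range_le_coborderRange i x⟩, ?_⟩
    change g (i x) ∈ W₀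
    rw [hgi']
    exact hxW₀
  obtain ⟨U₀, hU₀, hxU₀, hU₀T'⟩ := exists_isAffineOpen_mem_and_subset
    (x := i x) (U := T ⊓ i.coborderRange ⊓ g ⁻¹ᵁ W₀) hxT'
  have hg₀ : U₀ ≤ g ⁻¹ᵁ W₀ := fun y hy => (hU₀T' hy).2
  obtain ⟨a, ha, hxa⟩ := hW₀.exists_basicOpen_le (V := i ⁻¹ᵁ U₀) ⟨x, hxU₀⟩ hxW₀
  have hU₁ : IsAffineOpen (X.basicOpen (g.appLE W₀ U₀ hg₀ a)) := hU₀.basicOpen _
  have hchar : X.basicOpen (g.appLE W₀ U₀ hg₀ a) = U₀ ⊓ g ⁻¹ᵁ Z.basicOpen a := by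
    have e : g.appLE W₀ U₀ hg₀ a = X.presheaf.map (homOfLE hg₀).op (g.app W₀ a) := rfl
    rw [e, Scheme.basicOpen_res, Scheme.preimage_basicOpen]
  have hmem : ∀ y : X, y ∈ X.basicOpen (g.appLE W₀ U₀ hg₀ a) ↔ y ∈ U₀ ∧ g y ∈ Z.basicOpen a := by
    intro y
    rw [hchar]
    rfl
  have hU₁le : X.basicOpen (g.appLE W₀ U₀ hg₀ a) ≤ U₀ := fun y hy => ((hmem y).mp hy).1
  obtain ⟨hW₁, hsurj⟩ := closedImm_chart_of_le i hU₁
    (fun y hy => (hU₀T' (hU₁le hy)).1.2)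
  refine ⟨_, hU₁, ?_, ?_, hW₁, hsurj, ?_⟩
  · rw [hmem]
    refine ⟨hxU₀, ?_⟩
    rw [hgi']
    exact hxa
  · exact fun y hy => (hU₀T' (hU₁le hy)).1.1
  · intro y hy
    obtain ⟨-, hy2⟩ := (hmem y).mp hy
    change i (g y) ∈ X.basicOpen (g.appLE W₀ U₀ hg₀ a)
    rw [hmem]
    refine ⟨ha hy2, ?_⟩
    rw [hgi']
    exact hy2

end Groth.Agent.Lib.Helper51.OmegaUniv
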