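import Mathlib
import Groth.Agent.Lib.Helper51.OmegaUniv.Conormal
import Groth.Agent.Lib.Helper51.OmegaUniv.ConormalRetract

set_option autoImplicit false
set_option linter.style.haveILetI false
universe u
open AlgebraicGeometry CategoryTheory Limits TopologicalSpace Opposite TensorProduct OmegaSh

namespace Groth.Agent.Lib.Helper51.OmegaUniv

open Groth.Agent.Lib.Helper45

variable {X Y : Scheme.{u}}

/-- For quasi-compact `j`, a function on any open killed by `j♯` is killed by the structure map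
of the scheme-theoretic image. -/
theorem imageι_app_eq_zero (j : X ⟶ Y) [QuasiCompact j] (U : Y.Opens) (x : Γ(Y, U))
    (hx : j.app U x = 0) : j.imageι.app U x = 0 := by
  apply TopCat.Presheaf.IsSheaf.section_ext j.image.IsSheaf
  intro z hz
  obtain ⟨U', hU', hzU', hU'U⟩ := exists_isAffineOpen_mem_and_subset
    (x := j.imageι z) (U := U) hz
  have hle : j.imageι ⁻¹ᵁ U' ≤ j.imageι ⁻¹ᵁ U := fun y hy => hU'U hy
  refine ⟨j.imageι ⁻¹ᵁ U', hle, hzU', ?_⟩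
  rw [map_zero]
  have hnat := congrArg (fun k => k.hom x) (j.imageι.naturality (homOfLE hU'U).op)
  simp only [CommRingCat.hom_comp, RingHom.coe_comp, Function.comp_apply] at hnat
  refine hnat.symm.trans ?_
  have hmem : Y.presheaf.map (homOfLE hU'U).op x ∈ j.ker.ideal ⟨U', hU'⟩ := by
    rw [Scheme.Hom.ker_apply, RingHom.mem_ker]
    have hnat' := congrArg (fun k => k.hom x) (j.naturality (homOfLE hU'U).op)
    simp only [CommRingCat.hom_comp, RingHom.coe_comp, Function.comp_apply] at hnat'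
    refine hnat'.trans ?_
    rw [hx, map_zero]
  rw [← AlgebraicGeometry.Scheme.IdealSheafData.ker_subschemeι_app, RingHom.mem_ker] at hmem
  exact hmem

/-- For quasi-compact `j`, every function on an open `U` (not necessarily affine) killed by `j♯`
is a section of the ideal sheaf of `j`. -/
theorem exists_idealSect_eq' (j : X ⟶ Y) [QuasiCompact j] (U : Y.Opens) (x : Γ(Y, U))
    (hx : j.app U x = 0) : ∃ s : Γ(ClSub.idealMod j.ker, U), idealSect j.ker U s = x := by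
  have h0 : (ClSub.toSubscheme j.ker).app U x = 0 := imageι_app_eq_zero j U x hx
  exact ((idealModι_app_exact j.ker U) x).1 h0

end Groth.Agent.Lib.Helper51.OmegaUniv

namespace Groth.Agent.Lib.Helper51.OmegaUniv

/-- Charts adapted to a pair of immersions `i : Z ⟶ X`, `j = i ≫ p : Z ⟶ Y`: affine opens
`V ⊆ Y`, `U ⊆ p⁻¹ V` with `i⁻¹ U = j⁻¹ V` affine and both `Γ(X, U) → Γ(Z, i⁻¹ U)` and
`Γ(Y, V) → Γ(Z, j⁻¹ V)` surjective. -/
theorem exists_comp_immersion_chart {Z X Y : Scheme.{u}} (p : X ⟶ Y) (i : Z ⟶ X) (j : Z ⟶ Y)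
    [IsImmersion i] [IsImmersion j] (hij : i ≫ p = j) (z : Z) :
    ∃ (V : Y.Opens) (U : X.Opens), IsAffineOpen V ∧ IsAffineOpen U ∧ U ≤ p ⁻¹ᵁ V ∧
      z ∈ i ⁻¹ᵁ U ∧ IsAffineOpen (i ⁻¹ᵁ U) ∧ Function.Surjective (i.app U).hom ∧
      i ⁻¹ᵁ U = j ⁻¹ᵁ V ∧ IsAffineOpen (j ⁻¹ᵁ V) ∧ Function.Surjective (j.app V).hom := by
  have hpi : ∀ y : Z, p (i y) = j y := by
    intro y
    rw [← Scheme.Hom.comp_apply, hij]
  obtain ⟨V₀, hV₀, hzV₀, hV₀c⟩ := exists_isAffineOpen_mem_and_subset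
    (x := j z) (U := j.coborderRange) (range_le_coborderRange j z)
  obtain ⟨hW₀, hsurj₀⟩ := closedImm_chart_of_le j hV₀ hV₀c
  have hizT : i z ∈ p ⁻¹ᵁ V₀ ⊓ i.coborderRange := by
    refine ⟨?_, range_le_coborderRange i z⟩
    change p (i z) ∈ V₀
    rw [hpi]
    exact hzV₀
  obtain ⟨U₀, hU₀, hzU₀, hU₀T⟩ := exists_isAffineOpen_mem_and_subset
    (x := i z) (U := p ⁻¹ᵁ V₀ ⊓ i.coborderRange) hizT
  have hp₀ : U₀ ≤ p ⁻¹ᵁ V₀ := fun y hy => (hU₀T hy).1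
  obtain ⟨ā, hā, hzā⟩ := hW₀.exists_basicOpen_le (V := i ⁻¹ᵁ U₀) ⟨z, hzU₀⟩ hzV₀
  obtain ⟨a, rfl⟩ := hsurj₀ ā
  have hV₁ : IsAffineOpen (Y.basicOpen a) := hV₀.basicOpen a
  have hV₁le : Y.basicOpen a ≤ V₀ := Y.basicOpen_le a
  obtain ⟨hW₁, hsurj₁⟩ := closedImm_chart_of_le j hV₁ (hV₁le.trans hV₀c)
  have hjpre : j ⁻¹ᵁ Y.basicOpen a = Z.basicOpen (j.app V₀ a) := Scheme.preimage_basicOpen j a
  have hU₁ : IsAffineOpen (X.basicOpen (p.appLE V₀ U₀ hp₀ a)) := hU₀.basicOpen _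
  have hchar : X.basicOpen (p.appLE V₀ U₀ hp₀ a) = U₀ ⊓ p ⁻¹ᵁ Y.basicOpen a := by
    have e : p.appLE V₀ U₀ hp₀ a = X.presheaf.map (homOfLE hp₀).op (p.app V₀ a) := rfl
    rw [e, Scheme.basicOpen_res, Scheme.preimage_basicOpen]
  have hmem : ∀ y : X, y ∈ X.basicOpen (p.appLE V₀ U₀ hp₀ a) ↔ y ∈ U₀ ∧ p y ∈ Y.basicOpen a := by
    intro y
    rw [hchar]
    rfl
  have hU₁le : X.basicOpen (p.appLE V₀ U₀ hp₀ a) ≤ U₀ := fun y hy => ((hmem y).mp hy).1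
  obtain ⟨hWU₁, hsurjU₁⟩ := closedImm_chart_of_le i hU₁ (fun y hy => (hU₀T (hU₁le hy)).2)
  have hjz : j z ∈ Y.basicOpen a := by
    have : z ∈ j ⁻¹ᵁ Y.basicOpen a := by rw [hjpre]; exact hzā
    exact this
  refine ⟨Y.basicOpen a, X.basicOpen (p.appLE V₀ U₀ hp₀ a), hV₁, hU₁,
    fun y hy => ((hmem y).mp hy).2, ?_, hWU₁, hsurjU₁, ?_, hW₁, hsurj₁⟩
  · change i z ∈ X.basicOpen (p.appLE V₀ U₀ hp₀ a)
    rw [hmem, hpi]
    exact ⟨hzU₀, hjz⟩
  · ext y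
    change i y ∈ X.basicOpen (p.appLE V₀ U₀ hp₀ a) ↔ j y ∈ Y.basicOpen a
    rw [hmem, hpi]
    constructor
    · exact fun h => h.2
    · intro h
      refine ⟨?_, h⟩
      have : y ∈ j ⁻¹ᵁ Y.basicOpen a := h
      rw [hjpre] at this
      exact hā this

end Groth.Agent.Lib.Helper51.OmegaUniv
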