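import Mathlib
import Groth.Agent.Lib.Helper51.OmegaUniv.Conormal

set_option autoImplicit false
set_option linter.style.haveILetI false
universe u
open AlgebraicGeometry CategoryTheory Limits TopologicalSpace Opposite TensorProduct OmegaSh

namespace Groth.Agent.Lib.Helper51.OmegaUniv

open Groth.Agent.Lib.Helper49 Groth.Agent.Lib.Helper49.UnitChart Groth.Agent.Lib.Helper45
  Groth.Agent.Lib.Helper13.OmegaShYoneda

theorem id_appLE_apply {Z : Scheme.{u}} (W : Z.Opens) (h : W ≤ (𝟙 Z) ⁻¹ᵁ W) (s : Γ(Z, W)) :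
    (𝟙 Z : Z ⟶ Z).appLE W W h s = s := by
  simp only [Scheme.Hom.appLE, Scheme.Hom.id_app, CommRingCat.hom_comp,
    RingHom.coe_comp, Function.comp_apply]
  exact congrArg (fun k => k.hom s) (Z.presheaf.map_id (op W))

theorem appLE_congr_hom' {X Y : Scheme.{u}} {f g : X ⟶ Y} (e : f = g) (U : Y.Opens) (V : X.Opens)
    (h1 : V ≤ f ⁻¹ᵁ U) (h2 : V ≤ g ⁻¹ᵁ U) : f.appLE U V h1 = g.appLE U V h2 := by
  subst e; rfl

/-- If `i : Z ⟶ X` has a retraction `g` over `S`, then `c : i^*Ω_{X/S} → Ω_{Z/S}` has a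
section. -/
theorem exists_section_of_retraction {Z X S : Scheme.{u}} (f : X ⟶ S) (i : Z ⟶ X) (g : X ⟶ Z)
    (hgi : i ≫ g = 𝟙 Z) (hgS : g ≫ i ≫ f = f)
    {ΩX : X.Modules} {dX : Der f ΩX} {ΩZ : Z.Modules} {dZ : Der (i ≫ f) ΩZ}
    (hZ : IsUniversal dZ)
    {c : (Scheme.Modules.pullback i).obj ΩX ⟶ ΩZ} (hc : IsDiffCompat i dX dZ c) :
    ∃ σ : ΩZ ⟶ (Scheme.Modules.pullback i).obj ΩX, σ ≫ c = 𝟙 ΩZ := by
  obtain ⟨cg, hcg, -⟩ := existsUnique_diffCompat (i ≫ f) f g (𝟙 S)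
    (by rw [Category.comp_id, hgS]) ΩZ dZ hZ ΩX dX
  refine ⟨(Scheme.Modules.pullbackId Z).inv.app ΩZ ≫
    (Scheme.Modules.pullbackCongr hgi.symm).hom.app ΩZ ≫
    (Scheme.Modules.pullbackComp i g).inv.app ΩZ ≫ (Scheme.Modules.pullback i).map cg, ?_⟩
  apply hom_ext_of_isUniversal hZ
  intro W s
  have h₂ : W ≤ i ⁻¹ᵁ (g ⁻¹ᵁ W) := by
    intro z hz
    change g (i z) ∈ W
    rw [← Scheme.Hom.comp_apply, hgi]
    exact hz
  have s1 : ((Scheme.Modules.pullbackId Z).inv.app ΩZ).app W (dZ.app W s) =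
      pullSLE (𝟙 Z) ΩZ W W le_rfl (dZ.app W s) := by
    rw [← pullSect_id]
    exact (mres_self _ _).symm
  have s2 := pullSLE_congr hgi.symm ΩZ W W le_rfl (dZ.app W s)
  have s3 := pullSLE_comp i g ΩZ W (g ⁻¹ᵁ W) W le_rfl h₂ (dZ.app W s)
  have s4 := pullSLE_naturality i cg (g ⁻¹ᵁ W) W h₂ (pullSLE g ΩZ W (g ⁻¹ᵁ W) le_rfl (dZ.app W s))
  have s5 := diffCompat_app_pullSLE g hcg (le_refl (g ⁻¹ᵁ W)) s
  have s6 := diffCompat_app_pullSLE i hc h₂ (g.appLE W (g ⁻¹ᵁ W) le_rfl s)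
  have s7 : i.appLE (g ⁻¹ᵁ W) W h₂ (g.appLE W (g ⁻¹ᵁ W) le_rfl s) = s := by
    have e1 := Scheme.Hom.appLE_comp_appLE i g W (g ⁻¹ᵁ W) W le_rfl h₂
    have e2 := congrArg (fun k => k.hom s) e1
    refine e2.trans ?_
    have e3 := appLE_congr_hom' hgi W W (h₂.trans ((Opens.map i.base).map (homOfLE le_rfl)).le)
      (le_refl W)
    rw [e3]
    exact id_appLE_apply W _ s
  change c.app W (((Scheme.Modules.pullback i).map cg).app W
    (((Scheme.Modules.pullbackComp i g).inv.app ΩZ).app W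
      (((Scheme.Modules.pullbackCongr hgi.symm).hom.app ΩZ).app W
        (((Scheme.Modules.pullbackId Z).inv.app ΩZ).app W (dZ.app W s))))) = dZ.app W s
  rw [s1]
  erw [s2]
  erw [← s3]
  erw [s4]
  erw [s5, s6, s7]

end Groth.Agent.Lib.Helper51.OmegaUniv
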