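import Mathlib

set_option autoImplicit false
set_option linter.style.haveILetI false
universe u
open TensorProduct KaehlerDifferential

namespace Groth.Agent.Lib.Helper51.OmegaUniv.KAlg

/-- If `P → S` is surjective and `S` is formally smooth over `R`, then
`I/I² → S ⊗[P] Ω[P/R]` is injective (it is even split). -/
theorem kerCotangentToTensor_injective_of_formallySmooth {R P S : Type*} [CommRing R]
    [CommRing P] [CommRing S] [Algebra R P] [Algebra P S] [Algebra R S] [IsScalarTower R P S]
    [Algebra.FormallySmooth R S] (hf : Function.Surjective (algebraMap P S)) :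
    Function.Injective (kerCotangentToTensor R P S) := by
  have hsurj : Function.Surjective ((IsScalarTower.toAlgHom R P S).kerSquareLift) := by
    intro s
    obtain ⟨p, rfl⟩ := hf s
    exact ⟨Ideal.Quotient.mk _ p, by rw [AlgHom.kerSquareLift_mk]; rfl⟩
  have hnil : IsNilpotent (RingHom.ker
      ((IsScalarTower.toAlgHom R P S).kerSquareLift :
        P ⧸ RingHom.ker (IsScalarTower.toAlgHom R P S).toRingHom ^ 2 →+* S)) := by
    refine ⟨2, ?_⟩
    have := AlgHom.ker_kerSquareLift (IsScalarTower.toAlgHom R P S)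
    rw [show (((IsScalarTower.toAlgHom R P S).kerSquareLift :
        P ⧸ RingHom.ker (IsScalarTower.toAlgHom R P S).toRingHom ^ 2 →+* S)) =
        (IsScalarTower.toAlgHom R P S).kerSquareLift.toRingHom from rfl, this,
      Ideal.cotangentIdeal_square]
    rfl
  let g := Algebra.FormallySmooth.liftOfSurjective (AlgHom.id R S)
    ((IsScalarTower.toAlgHom R P S).kerSquareLift) hsurj hnil
  have hg : (IsScalarTower.toAlgHom R P S).kerSquareLift.comp g = AlgHom.id R S :=
    Algebra.FormallySmooth.comp_liftOfSurjective _ _ hsurj hnil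
  obtain ⟨l, hl⟩ := (retractionKerCotangentToTensorEquivSection (R := R) hf).symm ⟨g, hg⟩
  intro x y hxy
  have := congrArg l hxy
  rwa [← LinearMap.comp_apply, ← LinearMap.comp_apply, hl] at this

/-- If `ι : N → B` is an injective semilinear identification of `N` with `I = ker (B → A)` and
`ι s ∈ I²`, then `1 ⊗ s = 0` in `A ⊗[B] N`. -/
theorem one_tmul_eq_zero_of_mem_sq {B A N : Type*} [CommRing B] [CommRing A] [Algebra B A]
    [AddCommGroup N] [Module B N] (ι : N →+ B) (hsmul : ∀ (r : B) (n : N), ι (r • n) = r * ι n)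
    (hι : Function.Injective ι)
    (hrange : ∀ y : B, algebraMap B A y = 0 → ∃ n, ι n = y)
    (s : N) (hs : ι s ∈ (RingHom.ker (algebraMap B A)) ^ 2) : (1 : A) ⊗ₜ[B] s = 0 := by
  have key : ∀ x ∈ (RingHom.ker (algebraMap B A)) • (RingHom.ker (algebraMap B A)),
      ∃ n : N, ι n = x ∧ (1 : A) ⊗ₜ[B] n = 0 := by
    intro x hx
    refine Submodule.smul_induction_on hx ?_ ?_
    · intro r hr y hy
      obtain ⟨n', hn'⟩ := hrange y hy
      refine ⟨r • n', by rw [hsmul, hn', smul_eq_mul], ?_⟩
      rw [← TensorProduct.smul_tmul, Algebra.smul_def, mul_one, RingHom.mem_ker.mp hr, zero_tmul]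
    · intro x y hx hy
      obtain ⟨n, hn, hn0⟩ := hx
      obtain ⟨m, hm, hm0⟩ := hy
      exact ⟨n + m, by rw [map_add, hn, hm], by rw [tmul_add, hn0, hm0, add_zero]⟩
  rw [pow_two] at hs
  obtain ⟨n, hn, hn0⟩ := key _ hs
  rw [← hι hn]
  exact hn0

end Groth.Agent.Lib.Helper51.OmegaUniv.KAlg
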