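import Mathlib
import Groth.Agent.Lib.Helper11.PullbackChart

set_option autoImplicit false
set_option linter.style.haveILetI false
universe u
open TensorProduct KaehlerDifferential

namespace Groth.Agent.Lib.Helper51.OmegaUniv.KAlg

/-- Conormal sequence of `A → B → C` with `B → C` and `A → C` surjective, exactness at `J/J²`:
if `y ∈ J = ker (B → C)` and `1 ⊗ D y = 0` in `C ⊗[B] Ω[B/A]`, then `y ∈ I·B + J²` where
`I = ker (A → C)`. -/
theorem mem_map_sup_sq_of_one_tmul_D_eq_zero {A B C : Type*} [CommRing A] [CommRing B]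
    [CommRing C] [Algebra A B] [Algebra B C] [Algebra A C] [IsScalarTower A B C]
    (hBC : Function.Surjective (algebraMap B C)) (hAC : Function.Surjective (algebraMap A C))
    (y : B) (hy : algebraMap B C y = 0)
    (h : (1 : C) ⊗ₜ[B] KaehlerDifferential.D A B y = 0) :
    y ∈ (RingHom.ker (algebraMap A C)).map (algebraMap A B) ⊔
      (RingHom.ker (algebraMap B C)) ^ 2 := by
  set I := RingHom.ker (algebraMap A C) with hI
  set J := RingHom.ker (algebraMap B C) with hJ
  set K : Ideal B := I.map (algebraMap A B) ⊔ J ^ 2 with hK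
  have hIJ : I.map (algebraMap A B) ≤ J := by
    rw [Ideal.map_le_iff_le_comap]
    intro a ha
    rw [Ideal.mem_comap, hJ, RingHom.mem_ker, ← IsScalarTower.algebraMap_apply]
    exact ha
  have hKJ : K ≤ J := sup_le hIJ (Ideal.pow_le_self two_ne_zero)
  let π : B ⧸ K →+* C := Ideal.Quotient.lift K (algebraMap B C) (fun b hb => hKJ hb)
  have hπ : ∀ b : B, π (Ideal.Quotient.mk K b) = algebraMap B C b := fun b => rfl
  have hker : RingHom.ker (algebraMap A C) ≤
      RingHom.ker ((Ideal.Quotient.mk K).comp (algebraMap A B)) := by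
    intro a ha
    rw [RingHom.mem_ker, RingHom.comp_apply, Ideal.Quotient.eq_zero_iff_mem]
    exact le_sup_left (α := Ideal B) (Ideal.mem_map_of_mem _ ha)
  let s : C →+* B ⧸ K := (algebraMap A C).liftOfSurjective hAC
    ⟨(Ideal.Quotient.mk K).comp (algebraMap A B), hker⟩
  have hs : ∀ a : A, s (algebraMap A C a) = Ideal.Quotient.mk K (algebraMap A B a) := fun a =>
    RingHom.liftOfSurjective_comp_apply _ hAC _ a
  have hJ2 : ∀ u v : B ⧸ K, π u = 0 → π v = 0 → u * v = 0 := by
    intro u v hu hv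
    obtain ⟨b, rfl⟩ := Ideal.Quotient.mk_surjective u
    obtain ⟨b', rfl⟩ := Ideal.Quotient.mk_surjective v
    rw [hπ] at hu hv
    rw [← map_mul, Ideal.Quotient.eq_zero_iff_mem]
    refine le_sup_right (α := Ideal B) ?_
    rw [pow_two]
    exact Ideal.mul_mem_mul hu hv
  have hπs : ∀ c : C, π (s c) = c := by
    intro c
    obtain ⟨a, rfl⟩ := hAC c
    rw [hs, hπ, ← IsScalarTower.algebraMap_apply]
  let δ₀ : B → B ⧸ K := fun b => Ideal.Quotient.mk K b - s (algebraMap B C b)
  have hδπ : ∀ b, π (δ₀ b) = 0 := by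
    intro b
    simp only [δ₀]
    rw [map_sub, hπ, hπs, sub_self]
  let δₗ : B →ₗ[A] B ⧸ K :=
    { toFun := δ₀
      map_add' := fun b b' => by
        simp only [δ₀, map_add]
        ring
      map_smul' := fun a b => by
        simp only [δ₀, RingHom.id_apply]
        rw [Algebra.smul_def, map_mul, map_mul, map_mul, ← IsScalarTower.algebraMap_apply, hs,
          Algebra.smul_def, IsScalarTower.algebraMap_apply A B (B ⧸ K)]
        rw [Ideal.Quotient.algebraMap_eq]
        ring }
  have hleib : ∀ b b' : B, δₗ (b * b') = b • δₗ b' + b' • δₗ b := by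
    intro b b'
    have h0 := hJ2 (δ₀ b) (δ₀ b') (hδπ b) (hδπ b')
    change δ₀ (b * b') = b • δ₀ b' + b' • δ₀ b
    simp only [δ₀] at h0 ⊢
    rw [Algebra.smul_def, Algebra.smul_def, Ideal.Quotient.algebraMap_eq, map_mul, map_mul, map_mul]
    linear_combination (-1 : B ⧸ K) * h0
  let δ : Derivation A B (B ⧸ K) := Derivation.mk' δₗ hleib
  let ℓ : Ω[B⁄A] →ₗ[B] B ⧸ K := δ.liftKaehlerDifferential
  have hℓ : ∀ b, ℓ (KaehlerDifferential.D A B b) = δ₀ b := fun b =>
    Derivation.liftKaehlerDifferential_comp_D δ b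
  have hℓπ : ∀ ω, π (ℓ ω) = 0 := by
    intro ω
    have hspan := KaehlerDifferential.span_range_derivation A B
    have : ω ∈ Submodule.span B (Set.range (KaehlerDifferential.D A B)) := by
      rw [hspan]; trivial
    refine Submodule.span_induction ?_ ?_ ?_ ?_ this
    · rintro _ ⟨b, rfl⟩
      rw [hℓ]
      exact hδπ b
    · rw [map_zero, map_zero]
    · intro x y _ _ hx hy
      rw [map_add, map_add, hx, hy, add_zero]
    · intro b x _ hx
      rw [map_smul, Algebra.smul_def, map_mul, hx, mul_zero]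
  have hmem := Groth.Agent.Lib.Helper11.PullbackChart.mem_ker_smul_top_of_one_tmul_eq_zero hBC
    (KaehlerDifferential.D A B y) h
  have hzero : ℓ (KaehlerDifferential.D A B y) = 0 := by
    refine Submodule.smul_induction_on hmem ?_ ?_
    · intro r hr ω _
      rw [map_smul, Algebra.smul_def, Ideal.Quotient.algebraMap_eq]
      exact hJ2 _ _ (by rw [hπ]; exact hr) (hℓπ ω)
    · intro x y hx hy
      rw [map_add, hx, hy, add_zero]
  rw [hℓ] at hzero
  simp only [δ₀] at hzero
  rw [hy, map_zero, sub_zero, Ideal.Quotient.eq_zero_iff_mem] at hzero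
  exact hzero

end Groth.Agent.Lib.Helper51.OmegaUniv.KAlg
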