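import Mathlib
import Groth.Prelude.Def_Omega4
import Groth.Agent.Lib.Helper51.OmegaUniv.ConormalCharts
import Groth.Agent.Lib.Helper51.OmegaUniv.ConormalSection
import Groth.Agent.Lib.Helper51.OmegaUniv.KaehlerAlg5
import Groth.Agent.Lib.Helper51.OmegaUniv.KaehlerAlg7

set_option autoImplicit false
set_option linter.style.haveILetI false
universe u
open AlgebraicGeometry CategoryTheory Limits TopologicalSpace Opposite TensorProduct OmegaSh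

namespace Groth.Agent.Lib.Helper51.OmegaUniv

open Groth.Agent.Lib.Helper49 Groth.Agent.Lib.Helper49.UnitChart Groth.Agent.Lib.Helper45
  Groth.Agent.Lib.Helper13.OmegaShYoneda

theorem res_bijective_of_eq {Z : Scheme.{u}} {W W' : Z.Opens} (e : W = W') :
    Function.Bijective (Z.presheaf.map (homOfLE e.le).op).hom := by
  subst e
  have : (homOfLE (le_refl W)).op = 𝟙 (op W) := rfl
  rw [this, Z.presheaf.map_id]
  exact Function.bijective_id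

theorem idealSect_map {Y : Scheme.{u}} (K : Y.IdealSheafData) {U U' : Y.Opens} (h : U' ≤ U)
    (k : Γ(ClSub.idealMod K, U)) :
    idealSect K U' ((ClSub.idealMod K).presheaf.map (homOfLE h).op k) =
      Y.presheaf.map (homOfLE h).op (idealSect K U k) :=
  OmegaSh.idealModι_app_map U K h k

theorem app_eq_zero_of_eq {X Y : Scheme.{u}} {f g : X ⟶ Y} (e : f = g) (U : Y.Opens)
    (a : Γ(Y, U)) (h : g.app U a = 0) : f.app U a = 0 := by
  subst e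
  exact h

section Comp

variable {Z X Y : Scheme.{u}} (p : X ⟶ Y) (i : Z ⟶ X) (j : Z ⟶ Y)
  {ψ : (Scheme.Modules.pullback (𝟙 Z)).obj (Omega.conormal j) ⟶ Omega.conormal i}

/-- `pullbackId` on sections, in terms of `pullSLE`. -/
theorem pullbackId_inv_app_eq {Z : Scheme.{u}} (M : Z.Modules) (W : Z.Opens) (m : Γ(M, W)) :
    ((Scheme.Modules.pullbackId Z).inv.app M).app W m = pullSLE (𝟙 Z) M W W le_rfl m := by
  rw [← pullSect_id]
  exact (mres_self _ _).symm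

/-- The pinned value of a map of conormal sheaves `ψ : C_{Z/Y} → C_{Z/X}` (for `j = i ≫ p`). -/
theorem conormalMap_app (hψ : IsConormalMap i j p (𝟙 Z) ψ) (V : Y.Opens)
    (s' : Γ(ClSub.idealMod j.ker, V)) (s : Γ(ClSub.idealMod i.ker, p ⁻¹ᵁ V))
    (hs : idealSect i.ker (p ⁻¹ᵁ V) s = p.app V (idealSect j.ker V s'))
    (W : Z.Opens) (h₁ : W ≤ (𝟙 Z) ⁻¹ᵁ (j ⁻¹ᵁ V)) (h₂ : W ≤ i ⁻¹ᵁ (p ⁻¹ᵁ V)) :
    ψ.app W (pullSLE (𝟙 Z) (Omega.conormal j) (j ⁻¹ᵁ V) W h₁ (conormalSect j V s')) =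
      (Omega.conormal i).presheaf.map (homOfLE h₂).op (conormalSect i (p ⁻¹ᵁ V) s) := by
  rw [← hψ.2 V s' s hs W h₁ h₂]
  exact (Groth.Agent.Lib.Helper11.GenLocus.app_res ψ h₁ _).symm

theorem conormalSect_map (i : Z ⟶ X) {U U' : X.Opens} (e : U' ≤ U)
    (s : Γ(ClSub.idealMod i.ker, U)) :
    conormalSect i U' ((ClSub.idealMod i.ker).presheaf.map (homOfLE e).op s) =
      (Omega.conormal i).presheaf.map (homOfLE (i.preimage_mono e)).op (conormalSect i U s) :=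
  pullSect_map i _ e s

theorem conormal_res_res (i : Z ⟶ X) {A B C : Z.Opens} (h₁ : B ≤ A) (h₂ : C ≤ B)
    (x : Γ(Omega.conormal i, A)) :
    (Omega.conormal i).presheaf.map (homOfLE h₂).op
        ((Omega.conormal i).presheaf.map (homOfLE h₁).op x) =
      (Omega.conormal i).presheaf.map (homOfLE (h₂.trans h₁)).op x :=
  resM_resM (homOfLE h₁) (homOfLE h₂) x

/-- Generator step: for `a ∈ Γ(Y, V)` killed by `j♯`, the function `p♯ a` on `U ≤ p⁻¹ V` is a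
section `n'` of the ideal of `i`, and the class of `n'` lies in the image of `ψ`. -/
theorem conormalMap_generator [QuasiCompact i] [QuasiCompact j] (hij : i ≫ p = j)
    (hψ : IsConormalMap i j p (𝟙 Z) ψ) {V : Y.Opens} (hV : IsAffineOpen V) {U : X.Opens}
    (h₁ : U ≤ p ⁻¹ᵁ V) (a : Γ(Y, V)) (ha : j.app V a = 0) (W : Z.Opens) (hWU : W ≤ i ⁻¹ᵁ U)
    (hWV : W ≤ j ⁻¹ᵁ V) :
    ∃ n' : Γ(ClSub.idealMod i.ker, U), idealSect i.ker U n' = p.appLE V U h₁ a ∧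
      ∃ m, ψ.app W m =
        (Omega.conormal i).presheaf.map (homOfLE hWU).op (conormalSect i U n') := by
  obtain ⟨s', hs'⟩ := exists_idealSect_eq j hV a ha
  have hia : i.app (p ⁻¹ᵁ V) (p.app V a) = 0 := by
    have h0 : (i ≫ p).app V a = 0 := app_eq_zero_of_eq hij V a ha
    exact h0
  obtain ⟨sb, hsb⟩ := exists_idealSect_eq' i (p ⁻¹ᵁ V) (p.app V a) hia
  refine ⟨(ClSub.idealMod i.ker).presheaf.map (homOfLE h₁).op sb, ?_, ?_⟩
  · rw [idealSect_map, hsb]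
    rfl
  · have h₂ : W ≤ i ⁻¹ᵁ (p ⁻¹ᵁ V) := fun y hy => h₁ (hWU hy)
    have hWV' : W ≤ (𝟙 Z) ⁻¹ᵁ (j ⁻¹ᵁ V) := hWV
    refine ⟨_, (conormalMap_app p i j hψ V s' sb (by rw [hsb, hs']) W hWV' h₂).trans ?_⟩
    rw [conormalSect_map i h₁ sb, conormal_res_res]

variable {Ω : X.Modules} {d : Der p Ω}
  {φ : Omega.conormal i ⟶ (Scheme.Modules.pullback i).obj Ω}

/-- `C_{Z/Y} → C_{Z/X} → i^*Ω_{X/Y}` is a complex. -/
theorem conormalMap_comp_zero [QuasiCompact i] (hij : i ≫ p = j)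
    (hψ : IsConormalMap i j p (𝟙 Z) ψ) (hφ : IsConormalDiff i d φ) : ψ ≫ φ = 0 := by
  rw [← cancel_epi ((Scheme.Modules.pullbackId Z).inv.app (Omega.conormal j)), comp_zero]
  apply pullback_hom_ext j
  intro V s'
  have hia : i.app (p ⁻¹ᵁ V) (p.app V (idealSect j.ker V s')) = 0 := by
    have h0 : (i ≫ p).app V (idealSect j.ker V s') = 0 :=
      app_eq_zero_of_eq hij V _ (app_idealSect' j V s')
    exact h0
  obtain ⟨sb, hsb⟩ := exists_idealSect_eq' i (p ⁻¹ᵁ V) _ hia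
  have h₁ : j ⁻¹ᵁ V ≤ (𝟙 Z) ⁻¹ᵁ (j ⁻¹ᵁ V) := le_rfl
  have h₂ : j ⁻¹ᵁ V ≤ i ⁻¹ᵁ (p ⁻¹ᵁ V) := by
    intro y hy
    change p (i y) ∈ V
    rw [← Scheme.Hom.comp_apply, hij]
    exact hy
  refine Eq.trans (?_ : _ = φ.app (j ⁻¹ᵁ V) (ψ.app (j ⁻¹ᵁ V)
    (((Scheme.Modules.pullbackId Z).inv.app (Omega.conormal j)).app (j ⁻¹ᵁ V)
      (conormalSect j V s')))) ?_
  · rfl
  · rw [pullbackId_inv_app_eq, conormalMap_app p i j hψ V s' sb hsb (j ⁻¹ᵁ V) h₁ h₂,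
      conormalDiff_app_res i hφ h₂ sb, hsb, der_app_app d V]
    have h0 : pullSLE i Ω (p ⁻¹ᵁ V) (j ⁻¹ᵁ V) h₂ 0 = 0 := by
      have := pullSLE_add i Ω (p ⁻¹ᵁ V) (j ⁻¹ᵁ V) h₂ 0 0
      rw [add_zero] at this
      exact left_eq_add.mp this
    rw [h0]
    rfl

/-- On adapted charts, `φ : C_{Z/X} → i^*Ω_{X/Y}` is surjective on sections and the sequence
`C_{Z/Y} → C_{Z/X} → i^*Ω_{X/Y}` is exact on sections. -/
theorem conormal_comp_chart [QuasiCompact i] [QuasiCompact j] (hij : i ≫ p = j)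
    (hd : IsUniversal d) (hψ : IsConormalMap i j p (𝟙 Z) ψ) (hφ : IsConormalDiff i d φ)
    {V : Y.Opens} (hV : IsAffineOpen V) {U : X.Opens} (hU : IsAffineOpen U)
    (h₁ : U ≤ p ⁻¹ᵁ V) (hW : IsAffineOpen (i ⁻¹ᵁ U))
    (hsurjB : Function.Surjective (i.app U).hom) (hWW : i ⁻¹ᵁ U = j ⁻¹ᵁ V)
    (hsurjA : Function.Surjective (j.app V).hom) :
    Function.Surjective (φ.app (i ⁻¹ᵁ U)) ∧
      ∀ n : Γ(Omega.conormal i, i ⁻¹ᵁ U), φ.app (i ⁻¹ᵁ U) n = 0 →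
        ∃ m, ψ.app (i ⁻¹ᵁ U) m = n := by
  letI : Algebra Γ(Y, V) Γ(X, U) := (p.appLE V U h₁).hom.toAlgebra
  letI : Algebra Γ(X, U) Γ(Z, i ⁻¹ᵁ U) := (i.appLE U (i ⁻¹ᵁ U) le_rfl).hom.toAlgebra
  letI : Algebra Γ(Y, V) Γ(Z, i ⁻¹ᵁ U) := (j.appLE V (i ⁻¹ᵁ U) hWW.le).hom.toAlgebra
  haveI : IsScalarTower Γ(Y, V) Γ(X, U) Γ(Z, i ⁻¹ᵁ U) := by
    refine IsScalarTower.of_algebraMap_eq' ?_
    change (j.appLE V (i ⁻¹ᵁ U) hWW.le).hom = (p.appLE V U h₁ ≫ i.appLE U (i ⁻¹ᵁ U) le_rfl).hom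
    rw [Scheme.Hom.appLE_comp_appLE]
    exact congrArg _ (appLE_congr_hom' hij.symm V (i ⁻¹ᵁ U) _ _)
  have hBC : Function.Surjective (algebraMap Γ(X, U) Γ(Z, i ⁻¹ᵁ U)) := by
    change Function.Surjective (i.appLE U (i ⁻¹ᵁ U) le_rfl).hom
    rw [Scheme.Hom.appLE_eq_app]
    exact hsurjB
  have hkerB : ∀ y : Γ(X, U), algebraMap Γ(X, U) Γ(Z, i ⁻¹ᵁ U) y = 0 ↔ i.app U y = 0 := by
    intro y
    change (i.appLE U (i ⁻¹ᵁ U) le_rfl).hom y = 0 ↔ _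
    rw [Scheme.Hom.appLE_eq_app]
  have hAC : Function.Surjective (algebraMap Γ(Y, V) Γ(Z, i ⁻¹ᵁ U)) := by
    change Function.Surjective ((j.app V ≫ Z.presheaf.map (homOfLE hWW.le).op).hom)
    rw [CommRingCat.hom_comp]
    exact (res_bijective_of_eq hWW).2.comp hsurjA
  have hkerA : ∀ a : Γ(Y, V), algebraMap Γ(Y, V) Γ(Z, i ⁻¹ᵁ U) a = 0 → j.app V a = 0 := by
    intro a ha
    change (Z.presheaf.map (homOfLE hWW.le).op).hom ((j.app V).hom a) = 0 at ha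
    exact (res_bijective_of_eq hWW).1 (ha.trans (map_zero _).symm)
  obtain ⟨eN, heN⟩ := exists_conormal_sections_equiv i hU hW le_rfl
  obtain ⟨eΩ, heΩ⟩ := exists_pullback_sections_equiv i hd hU hV h₁ hW le_rfl
  constructor
  · intro t
    obtain ⟨τ, rfl⟩ := eΩ.surjective t
    haveI : Subsingleton Ω[Γ(Z, i ⁻¹ᵁ U)⁄Γ(Y, V)] :=
      KaehlerDifferential.subsingleton_of_surjective _ _ hAC
    obtain ⟨κ, hκ⟩ := (KaehlerDifferential.exact_kerCotangentToTensor_mapBaseChange Γ(Y, V)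
      Γ(X, U) Γ(Z, i ⁻¹ᵁ U) hBC τ).mp (Subsingleton.elim _ _)
    obtain ⟨y, rfl⟩ := Ideal.toCotangent_surjective _ κ
    rw [KaehlerDifferential.kerCotangentToTensor_toCotangent] at hκ
    have hy : i.app U y.1 = 0 := (hkerB y.1).mp (RingHom.mem_ker.mp y.2)
    obtain ⟨s, hs⟩ := exists_idealSect_eq i hU y.1 hy
    refine ⟨(Omega.conormal i).presheaf.map (homOfLE le_rfl).op (conormalSect i U s), ?_⟩
    rw [conormalDiff_app_res i hφ le_rfl s, hs, ← hκ, heΩ, one_smul]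
  · intro n hn
    obtain ⟨τ, rfl⟩ := eN.surjective n
    obtain ⟨s, rfl⟩ := exists_one_tmul hBC τ
    have hn' := hn
    rw [heN, one_smul, conormalDiff_app_res i hφ le_rfl s] at hn'
    have h1 : eΩ (1 ⊗ₜ KaehlerDifferential.D Γ(Y, V) Γ(X, U) (idealSect i.ker U s)) = 0 := by
      rw [heΩ, one_smul]
      exact hn'
    have h2 : (1 : Γ(Z, i ⁻¹ᵁ U)) ⊗ₜ[Γ(X, U)]
        KaehlerDifferential.D Γ(Y, V) Γ(X, U) (idealSect i.ker U s) = 0 :=
      eΩ.injective (h1.trans (map_zero eΩ).symm)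
    have hsJ : algebraMap Γ(X, U) Γ(Z, i ⁻¹ᵁ U) (idealSect i.ker U s) = 0 :=
      (hkerB _).mpr (app_idealSect i hU s)
    have h3 := KAlg.mem_map_sup_sq_of_one_tmul_D_eq_zero hBC hAC (idealSect i.ker U s) hsJ h2
    -- the predicate
    have hP : ∀ y' ∈ (RingHom.ker (algebraMap Γ(Y, V) Γ(Z, i ⁻¹ᵁ U))).map
          (algebraMap Γ(Y, V) Γ(X, U)) ⊔
        (RingHom.ker (algebraMap Γ(X, U) Γ(Z, i ⁻¹ᵁ U))) ^ 2,
        ∃ n' : Γ(ClSub.idealMod i.ker, U), idealSect i.ker U n' = y' ∧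
          ∃ m, ψ.app (i ⁻¹ᵁ U) m = eN (1 ⊗ₜ n') := by
      intro y' hy'
      obtain ⟨y₁, hy₁, y₂, hy₂, rfl⟩ := Submodule.mem_sup.mp hy'
      have hP₂ : ∃ n' : Γ(ClSub.idealMod i.ker, U), idealSect i.ker U n' = y₂ ∧
          ∃ m, ψ.app (i ⁻¹ᵁ U) m = eN (1 ⊗ₜ n') := by
        have hy₂J : y₂ ∈ RingHom.ker (algebraMap Γ(X, U) Γ(Z, i ⁻¹ᵁ U)) :=
          Ideal.pow_le_self two_ne_zero hy₂
        obtain ⟨n₂, hn₂⟩ := exists_idealSect_eq i hU y₂ ((hkerB y₂).mp (RingHom.mem_ker.mp hy₂J))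
        refine ⟨n₂, hn₂, 0, ?_⟩
        have h5 : (1 : Γ(Z, i ⁻¹ᵁ U)) ⊗ₜ[Γ(X, U)] n₂ = 0 :=
          KAlg.one_tmul_eq_zero_of_mem_sq (idealSect i.ker U) (idealSect_smul i.ker U)
            (idealSect_injective i.ker U)
            (fun y hy => exists_idealSect_eq i hU y ((hkerB y).mp hy)) n₂ (by rw [hn₂]; exact hy₂)
        rw [h5, map_zero, map_zero]
      have hP₁ : ∃ n' : Γ(ClSub.idealMod i.ker, U), idealSect i.ker U n' = y₁ ∧
          ∃ m, ψ.app (i ⁻¹ᵁ U) m = eN (1 ⊗ₜ n') := by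
        refine Submodule.span_induction ?_ ?_ ?_ ?_ hy₁
        · rintro _ ⟨a, ha, rfl⟩
          obtain ⟨n', hn', m, hm⟩ := conormalMap_generator p i j hij hψ hV h₁ a
            (hkerA a (RingHom.mem_ker.mp ha)) (i ⁻¹ᵁ U) le_rfl hWW.le
          refine ⟨n', hn', m, ?_⟩
          rw [hm, heN, one_smul]
        · exact ⟨0, map_zero _, 0, by rw [tmul_zero, map_zero, map_zero]⟩
        · rintro x y _ _ ⟨nx, hnx, mx, hmx⟩ ⟨ny, hny, my, hmy⟩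
          exact ⟨nx + ny, by rw [map_add, hnx, hny], mx + my,
            by rw [map_add, hmx, hmy, tmul_add, map_add]⟩
        · rintro b x _ ⟨nx, hnx, mx, hmx⟩
          refine ⟨b • nx, by rw [idealSect_smul, hnx, smul_eq_mul],
            algebraMap Γ(X, U) Γ(Z, i ⁻¹ᵁ U) b • mx, ?_⟩
          have hten : (1 : Γ(Z, i ⁻¹ᵁ U)) ⊗ₜ[Γ(X, U)] (b • nx) =
              algebraMap Γ(X, U) Γ(Z, i ⁻¹ᵁ U) b • ((1 : Γ(Z, i ⁻¹ᵁ U)) ⊗ₜ[Γ(X, U)] nx) := by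
            rw [TensorProduct.smul_tmul', ← TensorProduct.smul_tmul, Algebra.smul_def, mul_one,
              smul_eq_mul, mul_one]
          rw [Scheme.Modules.Hom.app_smul, hmx, hten, map_smul]
      obtain ⟨n₁, hn₁, m₁, hm₁⟩ := hP₁
      obtain ⟨n₂, hn₂, m₂, hm₂⟩ := hP₂
      exact ⟨n₁ + n₂, by rw [map_add, hn₁, hn₂], m₁ + m₂,
        by rw [map_add, hm₁, hm₂, tmul_add, map_add]⟩
    obtain ⟨n', hn'1, m, hm⟩ := hP _ h3
    have : n' = s := idealSect_injective i.ker U hn'1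
    subst this
    exact ⟨m, hm⟩

end Comp

end Groth.Agent.Lib.Helper51.OmegaUniv
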