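import Mathlib
import Groth.Agent.Lib.Helper11.PullbackChart

set_option autoImplicit false
set_option linter.style.haveILetI false
universe u
open TensorProduct

namespace Groth.Agent.Lib.Helper51.OmegaUniv.KAlg

/-- If `ι : N → B` is a semilinear map with values in `J = ker (B → C)`, `B → C` surjective, and
`1 ⊗ t = 0` in `C ⊗[B] N`, then `ι t ∈ J²`. -/
theorem mem_sq_of_one_tmul_eq_zero {B C N : Type*} [CommRing B] [CommRing C] [Algebra B C]
    [AddCommGroup N] [Module B N] (ι : N →+ B) (hsmul : ∀ (r : B) (n : N), ι (r • n) = r * ι n)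
    (hker : ∀ n : N, algebraMap B C (ι n) = 0)
    (hBC : Function.Surjective (algebraMap B C))
    (t : N) (ht : (1 : C) ⊗ₜ[B] t = 0) : ι t ∈ (RingHom.ker (algebraMap B C)) ^ 2 := by
  have hmem := Groth.Agent.Lib.Helper11.PullbackChart.mem_ker_smul_top_of_one_tmul_eq_zero hBC t ht
  rw [pow_two]
  refine Submodule.smul_induction_on hmem ?_ ?_
  · intro r hr n _
    rw [hsmul]
    exact Ideal.mul_mem_mul hr (RingHom.mem_ker.mpr (hker n))
  · intro x y hx hy
    rw [map_add]
    exact Ideal.add_mem _ hx hy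

/-- For surjections `A → B → C`: if the image of `a` in `B` lies in `ker (B → C)²` then
`a ∈ ker (A → B) + ker (A → C)²`. -/
theorem mem_ker_sup_sq_of_map_mem_sq {A B C : Type*} [CommRing A] [CommRing B] [CommRing C]
    [Algebra A B] [Algebra B C] [Algebra A C] [IsScalarTower A B C]
    (hAB : Function.Surjective (algebraMap A B)) (a : A)
    (ha : algebraMap A B a ∈ (RingHom.ker (algebraMap B C)) ^ 2) :
    a ∈ RingHom.ker (algebraMap A B) ⊔ (RingHom.ker (algebraMap A C)) ^ 2 := by
  have hcomap : (RingHom.ker (algebraMap B C)).comap (algebraMap A B) =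
      RingHom.ker (algebraMap A C) := by
    ext x
    rw [Ideal.mem_comap, RingHom.mem_ker, RingHom.mem_ker, ← IsScalarTower.algebraMap_apply]
  have hmap : RingHom.ker (algebraMap B C) =
      (RingHom.ker (algebraMap A C)).map (algebraMap A B) := by
    rw [← hcomap, Ideal.map_comap_of_surjective _ hAB]
  rw [hmap, ← Ideal.map_pow] at ha
  obtain ⟨a'', ha'', hEq⟩ := (Ideal.mem_map_iff_of_surjective _ hAB).mp ha
  have h1 : a - a'' ∈ RingHom.ker (algebraMap A B) := by
    rw [RingHom.mem_ker, map_sub, hEq, sub_self]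
  have : a = (a - a'') + a'' := by ring
  rw [this]
  exact Submodule.add_mem_sup h1 ha''

end Groth.Agent.Lib.Helper51.OmegaUniv.KAlg
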