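import Mathlib
import Groth.Agent.Lib.Helper51.OmegaUniv.ConormalComp
import Groth.Agent.Lib.Helper51.OmegaUniv.KaehlerAlg8

set_option autoImplicit false
set_option linter.style.haveILetI false
universe u
open AlgebraicGeometry CategoryTheory Limits TopologicalSpace Opposite TensorProduct OmegaSh

namespace Groth.Agent.Lib.Helper51.OmegaUniv

open Groth.Agent.Lib.Helper49 Groth.Agent.Lib.Helper49.UnitChart Groth.Agent.Lib.Helper45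
  Groth.Agent.Lib.Helper13.OmegaShYoneda

/-- Morphisms out of a double pullback are determined by their values on doubly pulled-back
sections. -/
theorem pullback_pullback_hom_ext {X Y Z : Scheme.{u}} (h : X ⟶ Y) (g : Y ⟶ Z) {M : Z.Modules}
    {N : X.Modules}
    (a b : (Scheme.Modules.pullback h).obj ((Scheme.Modules.pullback g).obj M) ⟶ N)
    (H : ∀ (V : Z.Opens) (m : Γ(M, V)),
      a.app (h ⁻¹ᵁ (g ⁻¹ᵁ V)) (pullSect h _ (g ⁻¹ᵁ V) (pullSect g M V m)) =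
        b.app (h ⁻¹ᵁ (g ⁻¹ᵁ V)) (pullSect h _ (g ⁻¹ᵁ V) (pullSect g M V m))) : a = b := by
  apply ((Scheme.Modules.pullbackPushforwardAdjunction h).homEquiv _ N).injective
  apply pullback_hom_ext g
  intro V m
  exact (homEquiv_app h a (g ⁻¹ᵁ V) _).trans ((H V m).trans (homEquiv_app h b (g ⁻¹ᵁ V) _).symm)

section Triple

variable {Y' Y X : Scheme.{u}} (f : Y ⟶ X) (j : Y' ⟶ Y)
  {φ₁ : (Scheme.Modules.pullback j).obj (Omega.conormal f) ⟶ Omega.conormal (j ≫ f)}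
  {φ₂ : (Scheme.Modules.pullback (𝟙 Y')).obj (Omega.conormal (j ≫ f)) ⟶ Omega.conormal j}

/-- Pinned value of `φ₁ : j^* C_{Y/X} → C_{Y'/X}`. -/
theorem conormalMap₁_app (hφ₁ : IsConormalMap (j ≫ f) f (𝟙 X) j φ₁) (V : X.Opens)
    (s' : Γ(ClSub.idealMod f.ker, V)) (s : Γ(ClSub.idealMod (j ≫ f).ker, V))
    (hs : idealSect (j ≫ f).ker V s = idealSect f.ker V s')
    (W : Y'.Opens) (h₁ : W ≤ j ⁻¹ᵁ (f ⁻¹ᵁ V)) :
    φ₁.app W (pullSLE j (Omega.conormal f) (f ⁻¹ᵁ V) W h₁ (conormalSect f V s')) =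
      (Omega.conormal (j ≫ f)).presheaf.map (homOfLE (show W ≤ (j ≫ f) ⁻¹ᵁ V from h₁)).op
        (conormalSect (j ≫ f) V s) := by
  have hs' : idealSect (j ≫ f).ker ((𝟙 X) ⁻¹ᵁ V) s = (𝟙 X : X ⟶ X).app V (idealSect f.ker V s') :=
    hs
  have key := hφ₁.2 V s' s hs' W h₁ h₁
  exact (Groth.Agent.Lib.Helper11.GenLocus.app_res φ₁ h₁ _).symm.trans key

/-- Pinned value of `φ₂' = pullbackId⁻¹ ≫ φ₂ : C_{Y'/X} → C_{Y'/Y}`. -/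
theorem conormalMap₂_app (hφ₂ : IsConormalMap j (j ≫ f) f (𝟙 Y') φ₂) (V : X.Opens)
    (s' : Γ(ClSub.idealMod (j ≫ f).ker, V)) (s : Γ(ClSub.idealMod j.ker, f ⁻¹ᵁ V))
    (hs : idealSect j.ker (f ⁻¹ᵁ V) s = f.app V (idealSect (j ≫ f).ker V s'))
    (W : Y'.Opens) (h₁ : W ≤ (j ≫ f) ⁻¹ᵁ V) :
    ((Scheme.Modules.pullbackId Y').inv.app (Omega.conormal (j ≫ f)) ≫ φ₂).app W
        ((Omega.conormal (j ≫ f)).presheaf.map (homOfLE h₁).op (conormalSect (j ≫ f) V s')) =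
      (Omega.conormal j).presheaf.map (homOfLE (show W ≤ j ⁻¹ᵁ (f ⁻¹ᵁ V) from h₁)).op
        (conormalSect j (f ⁻¹ᵁ V) s) := by
  refine Eq.trans (?_ : _ = φ₂.app W (((Scheme.Modules.pullbackId Y').inv.app
    (Omega.conormal (j ≫ f))).app W ((Omega.conormal (j ≫ f)).presheaf.map (homOfLE h₁).op
      (conormalSect (j ≫ f) V s')))) ?_
  · rfl
  · rw [pullbackId_inv_app_eq]
    have e := pullSLE_mres (𝟙 Y') (Omega.conormal (j ≫ f)) h₁ W le_rfl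
      (conormalSect (j ≫ f) V s')
    refine (congrArg (fun t => φ₂.app W t) e).trans ?_
    exact conormalMap_app f j (j ≫ f) hφ₂ V s' s hs W _ h₁

/-- `j^* C_{Y/X} → C_{Y'/X} → C_{Y'/Y}` is a complex. -/
theorem conormal_triple_comp_zero [QuasiCompact j] [QuasiCompact (j ≫ f)]
    (hφ₁ : IsConormalMap (j ≫ f) f (𝟙 X) j φ₁) (hφ₂ : IsConormalMap j (j ≫ f) f (𝟙 Y') φ₂) :
    φ₁ ≫ ((Scheme.Modules.pullbackId Y').inv.app (Omega.conormal (j ≫ f)) ≫ φ₂) = 0 := by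
  apply pullback_pullback_hom_ext j f
  intro V s'
  have hjf : (j ≫ f).app V (idealSect f.ker V s') = 0 := by
    change j.app (f ⁻¹ᵁ V) (f.app V (idealSect f.ker V s')) = 0
    rw [app_idealSect' f V s', map_zero]
  obtain ⟨s, hs⟩ := exists_idealSect_eq' (j ≫ f) V _ hjf
  have h₁ : j ⁻¹ᵁ (f ⁻¹ᵁ V) ≤ j ⁻¹ᵁ (f ⁻¹ᵁ V) := le_rfl
  have e1 := conormalMap₁_app f j hφ₁ V s' s hs (j ⁻¹ᵁ (f ⁻¹ᵁ V)) h₁
  have ht : idealSect j.ker (f ⁻¹ᵁ V) 0 = f.app V (idealSect (j ≫ f).ker V s) := by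
    rw [hs, app_idealSect' f V s', map_zero]
  have e2 := conormalMap₂_app f j hφ₂ V s 0 ht (j ⁻¹ᵁ (f ⁻¹ᵁ V)) h₁
  refine Eq.trans (?_ : _ = ((Scheme.Modules.pullbackId Y').inv.app (Omega.conormal (j ≫ f)) ≫
    φ₂).app (j ⁻¹ᵁ (f ⁻¹ᵁ V)) (φ₁.app (j ⁻¹ᵁ (f ⁻¹ᵁ V))
      (pullSLE j (Omega.conormal f) (f ⁻¹ᵁ V) (j ⁻¹ᵁ (f ⁻¹ᵁ V)) h₁ (conormalSect f V s')))) ?_
  · have : pullSLE j (Omega.conormal f) (f ⁻¹ᵁ V) (j ⁻¹ᵁ (f ⁻¹ᵁ V)) h₁ (conormalSect f V s') =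
        pullSect j (Omega.conormal f) (f ⁻¹ᵁ V) (conormalSect f V s') := mres_self _ _
    rw [this]
    rfl
  · rw [e1, e2, map_zero, map_zero]
    rfl

/-- On charts where `f` and `j ≫ f` are closed immersions, `φ₂'` is surjective on sections and
`j^* C_{Y/X} → C_{Y'/X} → C_{Y'/Y}` is exact on sections. -/
theorem conormal_triple_chart [QuasiCompact f] [QuasiCompact j] [QuasiCompact (j ≫ f)]
    (hφ₁ : IsConormalMap (j ≫ f) f (𝟙 X) j φ₁) (hφ₂ : IsConormalMap j (j ≫ f) f (𝟙 Y') φ₂)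
    {V : X.Opens} (hV : IsAffineOpen V) (hU : IsAffineOpen (f ⁻¹ᵁ V))
    (hAB : Function.Surjective (f.app V).hom) (hW : IsAffineOpen (j ⁻¹ᵁ (f ⁻¹ᵁ V)))
    (hAC : Function.Surjective ((j ≫ f).app V).hom) :
    Function.Surjective (((Scheme.Modules.pullbackId Y').inv.app (Omega.conormal (j ≫ f)) ≫
        φ₂).app (j ⁻¹ᵁ (f ⁻¹ᵁ V))) ∧
      ∀ n : Γ(Omega.conormal (j ≫ f), j ⁻¹ᵁ (f ⁻¹ᵁ V)),
        ((Scheme.Modules.pullbackId Y').inv.app (Omega.conormal (j ≫ f)) ≫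
          φ₂).app (j ⁻¹ᵁ (f ⁻¹ᵁ V)) n = 0 → ∃ m, φ₁.app (j ⁻¹ᵁ (f ⁻¹ᵁ V)) m = n := by
  have hle : j ⁻¹ᵁ (f ⁻¹ᵁ V) ≤ (j ≫ f) ⁻¹ᵁ V := le_rfl
  letI : Algebra Γ(X, V) Γ(Y, f ⁻¹ᵁ V) := (f.appLE V (f ⁻¹ᵁ V) le_rfl).hom.toAlgebra
  letI : Algebra Γ(Y, f ⁻¹ᵁ V) Γ(Y', j ⁻¹ᵁ (f ⁻¹ᵁ V)) :=
    (j.appLE (f ⁻¹ᵁ V) (j ⁻¹ᵁ (f ⁻¹ᵁ V)) le_rfl).hom.toAlgebra
  letI : Algebra Γ(X, V) Γ(Y', j ⁻¹ᵁ (f ⁻¹ᵁ V)) :=
    ((j ≫ f).appLE V (j ⁻¹ᵁ (f ⁻¹ᵁ V)) hle).hom.toAlgebra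
  haveI : IsScalarTower Γ(X, V) Γ(Y, f ⁻¹ᵁ V) Γ(Y', j ⁻¹ᵁ (f ⁻¹ᵁ V)) := by
    refine IsScalarTower.of_algebraMap_eq' ?_
    change ((j ≫ f).appLE V (j ⁻¹ᵁ (f ⁻¹ᵁ V)) hle).hom =
      (f.appLE V (f ⁻¹ᵁ V) le_rfl ≫ j.appLE (f ⁻¹ᵁ V) (j ⁻¹ᵁ (f ⁻¹ᵁ V)) le_rfl).hom
    rw [Scheme.Hom.appLE_comp_appLE]
  have hmapAB : ∀ a : Γ(X, V), algebraMap Γ(X, V) Γ(Y, f ⁻¹ᵁ V) a = f.app V a := by
    intro a
    change (f.appLE V (f ⁻¹ᵁ V) le_rfl).hom a = _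
    rw [Scheme.Hom.appLE_eq_app]
  have hmapBC : ∀ y : Γ(Y, f ⁻¹ᵁ V),
      algebraMap Γ(Y, f ⁻¹ᵁ V) Γ(Y', j ⁻¹ᵁ (f ⁻¹ᵁ V)) y = j.app (f ⁻¹ᵁ V) y := by
    intro y
    change (j.appLE (f ⁻¹ᵁ V) (j ⁻¹ᵁ (f ⁻¹ᵁ V)) le_rfl).hom y = _
    rw [Scheme.Hom.appLE_eq_app]
  have hmapAC : ∀ a : Γ(X, V),
      algebraMap Γ(X, V) Γ(Y', j ⁻¹ᵁ (f ⁻¹ᵁ V)) a = (j ≫ f).app V a := by
    intro a
    change ((j ≫ f).appLE V ((j ≫ f) ⁻¹ᵁ V) le_rfl).hom a = _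
    rw [Scheme.Hom.appLE_eq_app]
  have hAB' : Function.Surjective (algebraMap Γ(X, V) Γ(Y, f ⁻¹ᵁ V)) := by
    intro b
    obtain ⟨a, ha⟩ := hAB b
    exact ⟨a, (hmapAB a).trans ha⟩
  have hAC' : Function.Surjective (algebraMap Γ(X, V) Γ(Y', j ⁻¹ᵁ (f ⁻¹ᵁ V))) := by
    intro c
    obtain ⟨a, ha⟩ := hAC c
    exact ⟨a, (hmapAC a).trans ha⟩
  have hBC' : Function.Surjective (algebraMap Γ(Y, f ⁻¹ᵁ V) Γ(Y', j ⁻¹ᵁ (f ⁻¹ᵁ V))) := by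
    intro c
    obtain ⟨a, ha⟩ := hAC' c
    exact ⟨algebraMap Γ(X, V) Γ(Y, f ⁻¹ᵁ V) a, by rw [← IsScalarTower.algebraMap_apply, ha]⟩
  obtain ⟨e₂, he₂⟩ := exists_conormal_sections_equiv (j ≫ f) hV hW hle
  obtain ⟨e₃, he₃⟩ := exists_conormal_sections_equiv j hU hW le_rfl
  constructor
  · intro n
    obtain ⟨τ, rfl⟩ := e₃.surjective n
    obtain ⟨t, rfl⟩ := exists_one_tmul hBC' τ
    obtain ⟨a, ha⟩ := hAB' (idealSect j.ker (f ⁻¹ᵁ V) t)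
    have haK : (j ≫ f).app V a = 0 := by
      rw [← hmapAC, IsScalarTower.algebraMap_apply Γ(X, V) Γ(Y, f ⁻¹ᵁ V), ha, hmapBC]
      exact app_idealSect j hU t
    obtain ⟨s, hs⟩ := exists_idealSect_eq (j ≫ f) hV a haK
    have ht : idealSect j.ker (f ⁻¹ᵁ V) t = f.app V (idealSect (j ≫ f).ker V s) := by
      rw [hs, ← hmapAB, ha]
    refine ⟨(Omega.conormal (j ≫ f)).presheaf.map (homOfLE hle).op
      (conormalSect (j ≫ f) V s), ?_⟩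
    rw [conormalMap₂_app f j hφ₂ V s t ht _ hle, he₃, one_smul]
  · intro n hn
    obtain ⟨τ, rfl⟩ := e₂.surjective n
    obtain ⟨s, rfl⟩ := exists_one_tmul hAC' τ
    have hja : j.app (f ⁻¹ᵁ V) (f.app V (idealSect (j ≫ f).ker V s)) = 0 :=
      app_idealSect (j ≫ f) hV s
    obtain ⟨t, ht⟩ := exists_idealSect_eq j hU _ hja
    have hn' := hn
    rw [he₂, one_smul, conormalMap₂_app f j hφ₂ V s t ht _ hle] at hn'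
    have h1 : e₃ (1 ⊗ₜ t) = 0 := by
      rw [he₃, one_smul]
      exact hn'
    have h2 : (1 : Γ(Y', j ⁻¹ᵁ (f ⁻¹ᵁ V))) ⊗ₜ[Γ(Y, f ⁻¹ᵁ V)] t = 0 :=
      e₃.injective (h1.trans (map_zero e₃).symm)
    have h3 := KAlg.mem_sq_of_one_tmul_eq_zero (idealSect j.ker (f ⁻¹ᵁ V))
      (idealSect_smul j.ker (f ⁻¹ᵁ V))
      (fun n => (hmapBC _).trans (app_idealSect j hU n)) hBC' t h2
    rw [ht, ← hmapAB] at h3
    have h4 := KAlg.mem_ker_sup_sq_of_map_mem_sq (C := Γ(Y', j ⁻¹ᵁ (f ⁻¹ᵁ V))) hAB' _ h3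
    obtain ⟨x, hx, a'', ha'', hsum⟩ := Submodule.mem_sup.mp h4
    have hxf : f.app V x = 0 := (hmapAB x).symm.trans (RingHom.mem_ker.mp hx)
    have hxjf : (j ≫ f).app V x = 0 := by
      change j.app (f ⁻¹ᵁ V) (f.app V x) = 0
      rw [hxf, map_zero]
    obtain ⟨sx', hsx'⟩ := exists_idealSect_eq f hV x hxf
    obtain ⟨sx, hsx⟩ := exists_idealSect_eq (j ≫ f) hV x hxjf
    have ha''K : (j ≫ f).app V a'' = 0 :=
      (hmapAC a'').symm.trans (RingHom.mem_ker.mp (Ideal.pow_le_self two_ne_zero ha''))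
    obtain ⟨s'', hs''⟩ := exists_idealSect_eq (j ≫ f) hV a'' ha''K
    have hsplit : s = sx + s'' := by
      apply idealSect_injective (j ≫ f).ker V
      rw [map_add, hsx, hs'', hsum]
    have h5 : (1 : Γ(Y', j ⁻¹ᵁ (f ⁻¹ᵁ V))) ⊗ₜ[Γ(X, V)] s'' = 0 :=
      KAlg.one_tmul_eq_zero_of_mem_sq (idealSect (j ≫ f).ker V) (idealSect_smul (j ≫ f).ker V)
        (idealSect_injective (j ≫ f).ker V)
        (fun y hy => exists_idealSect_eq (j ≫ f) hV y ((hmapAC y).symm.trans hy)) s''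
        (by rw [hs'']; exact ha'')
    refine ⟨pullSLE j (Omega.conormal f) (f ⁻¹ᵁ V) (j ⁻¹ᵁ (f ⁻¹ᵁ V)) le_rfl
      (conormalSect f V sx'), ?_⟩
    rw [conormalMap₁_app f j hφ₁ V sx' sx (hsx.trans hsx'.symm) _ le_rfl, hsplit, tmul_add, h5,
      add_zero, he₂, one_smul]

end Triple

end Groth.Agent.Lib.Helper51.OmegaUniv
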