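import Mathlib
import Groth.Prelude.Def_RegImm
import Groth.Agent.Lib.Helper10.KoszulH1
import Groth.Agent.Lib.Helper51.OmegaUniv.KaehlerAlg8
import Groth.Agent.Lib.Helper51.OmegaUniv.Conormal

set_option autoImplicit false
set_option linter.style.haveILetI false
universe u
open TensorProduct

namespace Groth.Agent.Lib.Helper51.OmegaUniv.KAlg

/-- For `A → B → C` and `ι : N → A` an injective semilinear identification of `N` with
`ker (A → B)`: if `ι s ∈ ker (A → B) * ker (A → C)` then `1 ⊗ (1 ⊗ s) = 0` in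
`C ⊗[B] (B ⊗[A] N)`. -/
theorem one_tmul_one_tmul_eq_zero_of_mem_mul {A B C N : Type*} [CommRing A] [CommRing B]
    [CommRing C] [Algebra A B] [Algebra B C] [Algebra A C] [IsScalarTower A B C]
    [AddCommGroup N] [Module A N] (ι : N →+ A) (hsmul : ∀ (r : A) (n : N), ι (r • n) = r * ι n)
    (hι : Function.Injective ι)
    (hrange : ∀ y : A, algebraMap A B y = 0 → ∃ n, ι n = y)
    (s : N) (hs : ι s ∈ RingHom.ker (algebraMap A B) * RingHom.ker (algebraMap A C)) :
    (1 : C) ⊗ₜ[B] ((1 : B) ⊗ₜ[A] s) = 0 := by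
  have key : ∀ x ∈ RingHom.ker (algebraMap A B) * RingHom.ker (algebraMap A C),
      ∃ n : N, ι n = x ∧ (1 : C) ⊗ₜ[B] ((1 : B) ⊗ₜ[A] n) = 0 := by
    intro x hx
    refine Submodule.mul_induction_on hx ?_ ?_
    · intro k hk y hy
      obtain ⟨n', hn'⟩ := hrange k hk
      refine ⟨y • n', by rw [hsmul, hn', mul_comm], ?_⟩
      have h1 : (1 : B) ⊗ₜ[A] (y • n') = algebraMap A B y • ((1 : B) ⊗ₜ[A] n') := by
        rw [← TensorProduct.smul_tmul, TensorProduct.smul_tmul', Algebra.smul_def, mul_one,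
          smul_eq_mul, mul_one]
      rw [h1, ← TensorProduct.smul_tmul, Algebra.smul_def, mul_one,
        ← IsScalarTower.algebraMap_apply, RingHom.mem_ker.mp hy, zero_tmul]
    · intro x y hx hy
      obtain ⟨n, hn, hn0⟩ := hx
      obtain ⟨m, hm, hm0⟩ := hy
      exact ⟨n + m, by rw [map_add, hn, hm], by rw [tmul_add, tmul_add, hn0, hm0, add_zero]⟩
  obtain ⟨n, hn, hn0⟩ := key _ hs
  rw [← hι hn]
  exact hn0

/-- If `B → C` is surjective with kernel generated by an `H₁`-regular sequence `g`, and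
`ι : N → B` identifies `N` with that kernel, then `C ⊗[B] N` is free over `C` of rank the
length of the sequence. -/
theorem exists_equiv_of_isH1Regular {B C : Type u} {N : Type*} [CommRing B] [CommRing C]
    [Algebra B C]
    [AddCommGroup N] [Module B N] (ι : N →+ B) (hsmul : ∀ (r : B) (n : N), ι (r • n) = r * ι n)
    (hι : Function.Injective ι)
    (hker : ∀ n : N, algebraMap B C (ι n) = 0)
    (hrange : ∀ y : B, algebraMap B C y = 0 → ∃ n, ι n = y)
    (hBC : Function.Surjective (algebraMap B C)) {c : ℕ} (g : Fin c → B)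
    (hg : CAlgX.IsH1Regular g)
    (hspan : RingHom.ker (algebraMap B C) = Ideal.span (Set.range g)) :
    Nonempty ((Fin c → C) ≃ₗ[C] C ⊗[B] N) := by
  have hgker : ∀ i, algebraMap B C (g i) = 0 := by
    intro i
    have : g i ∈ RingHom.ker (algebraMap B C) := by
      rw [hspan]
      exact Ideal.subset_span ⟨i, rfl⟩
    exact this
  choose n hn using fun i => hrange (g i) (hgker i)
  let Φ : (Fin c → C) →ₗ[C] C ⊗[B] N := Fintype.linearCombination C (fun i => (1 : C) ⊗ₜ[B] n i)
  have hΦ : ∀ b : Fin c → B, Φ (fun i => algebraMap B C (b i)) =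
      (1 : C) ⊗ₜ[B] (∑ i, b i • n i) := by
    intro b
    rw [Fintype.linearCombination_apply, tmul_sum]
    refine Finset.sum_congr rfl fun i _ => ?_
    rw [TensorProduct.smul_tmul', smul_eq_mul, mul_one, ← TensorProduct.smul_tmul,
      Algebra.smul_def, mul_one]
  have hιsum : ∀ b : Fin c → B, ι (∑ i, b i • n i) = ∑ i, b i * g i := by
    intro b
    rw [map_sum]
    refine Finset.sum_congr rfl fun i _ => ?_
    rw [hsmul, hn]
  have hlift : ∀ v : Fin c → C, ∃ b : Fin c → B, v = fun i => algebraMap B C (b i) := by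
    intro v
    choose b hb using fun i => hBC (v i)
    exact ⟨b, funext fun i => (hb i).symm⟩
  refine ⟨LinearEquiv.ofBijective Φ ⟨?_, ?_⟩⟩
  · rw [← LinearMap.ker_eq_bot, LinearMap.ker_eq_bot']
    intro v hv
    obtain ⟨b, rfl⟩ := hlift v
    rw [hΦ] at hv
    have h1 := mem_sq_of_one_tmul_eq_zero ι hsmul hker hBC _ hv
    rw [hιsum, hspan] at h1
    funext i
    have h2 := Groth.Agent.Lib.Helper10.KoszulH1.coeff_mem_of_isH1Regular g hg b h1 i
    rw [← hspan] at h2
    exact h2
  · intro t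
    obtain ⟨m, rfl⟩ := Groth.Agent.Lib.Helper51.OmegaUniv.exists_one_tmul hBC t
    have hm : ι m ∈ Ideal.span (Set.range g) := by
      rw [← hspan]
      exact hker m
    obtain ⟨b, hb⟩ := (Ideal.mem_span_range_iff_exists_fun).mp hm
    refine ⟨fun i => algebraMap B C (b i), ?_⟩
    rw [hΦ]
    congr 1
    apply hι
    rw [hιsum, hb]

end Groth.Agent.Lib.Helper51.OmegaUniv.KAlg
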