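import Mathlib
import Groth.Prelude.Def_Omega4
import Groth.Prelude.Def_RegImm
import Groth.Agent.Lib.Helper51.OmegaUniv.ConormalTriple
import Groth.Agent.Lib.Helper51.OmegaUniv.KaehlerAlg10
import Groth.Agent.Lib.Helper47.H1RegularInter
import Groth.Agent.Lib.Helper10.LciJacobian
import Groth.Agent.H8.QuasiRegSch
import Groth.Agent.Lib.Helper49.FreeMod

set_option autoImplicit false
set_option linter.style.haveILetI false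
universe u
open AlgebraicGeometry CategoryTheory Limits TopologicalSpace Opposite TensorProduct OmegaSh

namespace Groth.Agent.Lib.Helper51.OmegaUniv

open Groth.Agent.Lib.Helper49 Groth.Agent.Lib.Helper49.UnitChart Groth.Agent.Lib.Helper45
  Groth.Agent.Lib.Helper13.OmegaShYoneda

section TripleMono

variable {Y' Y X : Scheme.{u}} (f : Y ⟶ X) (j : Y' ⟶ Y)
  {φ₁ : (Scheme.Modules.pullback j).obj (Omega.conormal f) ⟶ Omega.conormal (j ≫ f)}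

/-- On charts where `f` and `j ≫ f` are closed immersions and the ideal of `j` is generated by an
`H₁`-regular sequence, `φ₁ : j^* C_{Y/X} → C_{Y'/X}` is injective on sections. -/
theorem conormalMap₁_app_injective_chart [QuasiCompact f] [QuasiCompact j] [QuasiCompact (j ≫ f)]
    (hφ₁ : IsConormalMap (j ≫ f) f (𝟙 X) j φ₁)
    {V : X.Opens} (hV : IsAffineOpen V) (hU : IsAffineOpen (f ⁻¹ᵁ V))
    (hAB : Function.Surjective (f.app V).hom) (hW : IsAffineOpen (j ⁻¹ᵁ (f ⁻¹ᵁ V)))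
    (hAC : Function.Surjective ((j ≫ f).app V).hom)
    {c : ℕ} (g : Fin c → Γ(Y, f ⁻¹ᵁ V)) (hg : CAlgX.IsH1Regular g)
    (hspan : RingHom.ker (j.app (f ⁻¹ᵁ V)).hom = Ideal.span (Set.range g)) :
    Function.Injective (φ₁.app (j ⁻¹ᵁ (f ⁻¹ᵁ V))) := by
  have hle : j ⁻¹ᵁ (f ⁻¹ᵁ V) ≤ (j ≫ f) ⁻¹ᵁ V := le_rfl
  letI : Algebra Γ(X, V) Γ(Y, f ⁻¹ᵁ V) := (f.appLE V (f ⁻¹ᵁ V) le_rfl).hom.toAlgebra
  letI : Algebra Γ(Y, f ⁻¹ᵁ V) Γ(Y', j ⁻¹ᵁ (f ⁻¹ᵁ V)) :=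
    (j.appLE (f ⁻¹ᵁ V) (j ⁻¹ᵁ (f ⁻¹ᵁ V)) le_rfl).hom.toAlgebra
  letI : Algebra Γ(X, V) Γ(Y', j ⁻¹ᵁ (f ⁻¹ᵁ V)) :=
    ((j ≫ f).appLE V (j ⁻¹ᵁ (f ⁻¹ᵁ V)) hle).hom.toAlgebra
  haveI : IsScalarTower Γ(X, V) Γ(Y, f ⁻¹ᵁ V) Γ(Y', j ⁻¹ᵁ (f ⁻¹ᵁ V)) := by
    refine IsScalarTower.of_algebraMap_eq' ?_
    change ((j ≫ f).appLE V (j ⁻¹ᵁ (f ⁻¹ᵁ V)) hle).hom =
      (f.appLE V (f ⁻¹ᵁ V) le_rfl ≫ j.appLE (f ⁻¹ᵁ V) (j ⁻¹ᵁ (f ⁻¹ᵁ V)) le_rfl).hom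
    rw [Scheme.Hom.appLE_comp_appLE]
  have hmapAB : ∀ a : Γ(X, V), algebraMap Γ(X, V) Γ(Y, f ⁻¹ᵁ V) a = f.app V a := by
    intro a
    change (f.appLE V (f ⁻¹ᵁ V) le_rfl).hom a = _
    rw [Scheme.Hom.appLE_eq_app]
  have hmapBC : ∀ y : Γ(Y, f ⁻¹ᵁ V),
      algebraMap Γ(Y, f ⁻¹ᵁ V) Γ(Y', j ⁻¹ᵁ (f ⁻¹ᵁ V)) y = j.app (f ⁻¹ᵁ V) y := by
    intro y
    change (j.appLE (f ⁻¹ᵁ V) (j ⁻¹ᵁ (f ⁻¹ᵁ V)) le_rfl).hom y = _
    rw [Scheme.Hom.appLE_eq_app]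
  have hmapAC : ∀ a : Γ(X, V),
      algebraMap Γ(X, V) Γ(Y', j ⁻¹ᵁ (f ⁻¹ᵁ V)) a = (j ≫ f).app V a := by
    intro a
    change ((j ≫ f).appLE V ((j ≫ f) ⁻¹ᵁ V) le_rfl).hom a = _
    rw [Scheme.Hom.appLE_eq_app]
  have hAB' : Function.Surjective (algebraMap Γ(X, V) Γ(Y, f ⁻¹ᵁ V)) := by
    intro b
    obtain ⟨a, ha⟩ := hAB b
    exact ⟨a, (hmapAB a).trans ha⟩
  have hAC' : Function.Surjective (algebraMap Γ(X, V) Γ(Y', j ⁻¹ᵁ (f ⁻¹ᵁ V))) := by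
    intro c
    obtain ⟨a, ha⟩ := hAC c
    exact ⟨a, (hmapAC a).trans ha⟩
  have hBC' : Function.Surjective (algebraMap Γ(Y, f ⁻¹ᵁ V) Γ(Y', j ⁻¹ᵁ (f ⁻¹ᵁ V))) := by
    intro c
    obtain ⟨a, ha⟩ := hAC' c
    exact ⟨algebraMap Γ(X, V) Γ(Y, f ⁻¹ᵁ V) a, by rw [← IsScalarTower.algebraMap_apply, ha]⟩
  haveI hqf : (Omega.conormal f).IsQuasicoherent :=
    Groth.Agent.Lib.Helper16.FlatPull.isQuasicoherent_pullback f (ClSub.idealMod f.ker)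
  obtain ⟨e₀, he₀⟩ := exists_conormal_sections_equiv f hV hU le_rfl
  obtain ⟨e₁, he₁⟩ := exists_tensor_sections_equiv j (Omega.conormal f) hU hW le_rfl
  obtain ⟨e₂, he₂⟩ := exists_conormal_sections_equiv (j ≫ f) hV hW hle
  -- the key ideal-theoretic input
  have hkerBC : RingHom.ker (algebraMap Γ(Y, f ⁻¹ᵁ V) Γ(Y', j ⁻¹ᵁ (f ⁻¹ᵁ V))) =
      Ideal.span (Set.range g) := by
    rw [← hspan]
    ext y
    rw [RingHom.mem_ker, RingHom.mem_ker, hmapBC]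
  have hmapker : (RingHom.ker (algebraMap Γ(X, V) Γ(Y', j ⁻¹ᵁ (f ⁻¹ᵁ V)))).map
      (algebraMap Γ(X, V) Γ(Y, f ⁻¹ᵁ V)) =
      RingHom.ker (algebraMap Γ(Y, f ⁻¹ᵁ V) Γ(Y', j ⁻¹ᵁ (f ⁻¹ᵁ V))) := by
    have hcomap : (RingHom.ker (algebraMap Γ(Y, f ⁻¹ᵁ V) Γ(Y', j ⁻¹ᵁ (f ⁻¹ᵁ V)))).comap
        (algebraMap Γ(X, V) Γ(Y, f ⁻¹ᵁ V)) =
        RingHom.ker (algebraMap Γ(X, V) Γ(Y', j ⁻¹ᵁ (f ⁻¹ᵁ V))) := by
      ext x
      rw [Ideal.mem_comap, RingHom.mem_ker, RingHom.mem_ker, ← IsScalarTower.algebraMap_apply]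
    rw [← hcomap, Ideal.map_comap_of_surjective _ hAB']
  have hinter := Groth.Agent.Lib.Helper47.inf_sq_le_mul_of_isH1Regular
    (algebraMap Γ(X, V) Γ(Y, f ⁻¹ᵁ V)) hAB'
    (RingHom.ker (algebraMap Γ(X, V) Γ(Y, f ⁻¹ᵁ V)))
    (RingHom.ker (algebraMap Γ(X, V) Γ(Y', j ⁻¹ᵁ (f ⁻¹ᵁ V)))) rfl g hg
    (by rw [hmapker, hkerBC])
  have hker0 : ∀ m, φ₁.app (j ⁻¹ᵁ (f ⁻¹ᵁ V)) m = 0 → m = 0 := by
    intro m hm
    obtain ⟨τ, rfl⟩ := e₁.surjective m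
    obtain ⟨t, rfl⟩ := exists_one_tmul hBC' τ
    obtain ⟨σ, rfl⟩ := e₀.surjective t
    obtain ⟨s', rfl⟩ := exists_one_tmul hAB' σ
    have hjf : (j ≫ f).app V (idealSect f.ker V s') = 0 := by
      change j.app (f ⁻¹ᵁ V) (f.app V (idealSect f.ker V s')) = 0
      rw [app_idealSect f hV s', map_zero]
    obtain ⟨s, hs⟩ := exists_idealSect_eq (j ≫ f) hV _ hjf
    have hm' := hm
    rw [he₁, one_smul, he₀, one_smul] at hm'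
    have hres : (Omega.conormal f).presheaf.map (homOfLE (le_refl (f ⁻¹ᵁ V))).op
        (conormalSect f V s') = conormalSect f V s' := mres_self _ _
    rw [hres, conormalMap₁_app f j hφ₁ V s' s hs _ le_rfl] at hm'
    have h1 : e₂ (1 ⊗ₜ s) = 0 := by
      rw [he₂, one_smul]
      exact hm'
    have h2 : (1 : Γ(Y', j ⁻¹ᵁ (f ⁻¹ᵁ V))) ⊗ₜ[Γ(X, V)] s = 0 :=
      e₂.injective (h1.trans (map_zero e₂).symm)
    have h3 := KAlg.mem_sq_of_one_tmul_eq_zero (idealSect (j ≫ f).ker V)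
      (idealSect_smul (j ≫ f).ker V)
      (fun n => (hmapAC _).trans (app_idealSect (j ≫ f) hV n)) hAC' s h2
    rw [hs] at h3
    have h4 : idealSect f.ker V s' ∈ RingHom.ker (algebraMap Γ(X, V) Γ(Y, f ⁻¹ᵁ V)) := by
      rw [RingHom.mem_ker, hmapAB]
      exact app_idealSect f hV s'
    have h5 := hinter ⟨h4, h3⟩
    have h6 : (1 : Γ(Y', j ⁻¹ᵁ (f ⁻¹ᵁ V))) ⊗ₜ[Γ(Y, f ⁻¹ᵁ V)]
        ((1 : Γ(Y, f ⁻¹ᵁ V)) ⊗ₜ[Γ(X, V)] s') = 0 :=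
      KAlg.one_tmul_one_tmul_eq_zero_of_mem_mul (idealSect f.ker V) (idealSect_smul f.ker V)
        (idealSect_injective f.ker V)
        (fun y hy => exists_idealSect_eq f hV y ((hmapAB y).symm.trans hy)) s' h5
    have h7 : (1 : Γ(Y', j ⁻¹ᵁ (f ⁻¹ᵁ V))) ⊗ₜ[Γ(Y, f ⁻¹ᵁ V)]
        (e₀ ((1 : Γ(Y, f ⁻¹ᵁ V)) ⊗ₜ[Γ(X, V)] s')) =
        LinearMap.lTensor Γ(Y', j ⁻¹ᵁ (f ⁻¹ᵁ V)) e₀.toLinearMap
          ((1 : Γ(Y', j ⁻¹ᵁ (f ⁻¹ᵁ V))) ⊗ₜ[Γ(Y, f ⁻¹ᵁ V)]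
            ((1 : Γ(Y, f ⁻¹ᵁ V)) ⊗ₜ[Γ(X, V)] s')) := by
      rw [LinearMap.lTensor_tmul]
      rfl
    rw [h7, h6, map_zero, map_zero]
  intro m m' h
  have : φ₁.app (j ⁻¹ᵁ (f ⁻¹ᵁ V)) (m - m') = 0 := by
    rw [map_sub, h, sub_self]
  exact sub_eq_zero.mp (hker0 _ this)

end TripleMono

section H1Charts

variable {Y' Y X : Scheme.{u}}

/-- `H₁`-regular generators of the ideal of `j` over an affine open `U` restrict to `H₁`-regular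
generators over every basic open of `U`. -/
theorem h1_data_basicOpen (j : Y' ⟶ Y) (U : Y.affineOpens) [IsClosedImmersion (j ∣_ U.1)]
    (rs : List Γ(Y, U.1)) (hrs : CAlgX.IsH1Regular rs.get)
    (hker : RingHom.ker (j.app U.1).hom = Ideal.ofList rs) (a : Γ(Y, U.1))
    (W : Y.Opens) (hW : W = Y.basicOpen a) :
    ∃ (c : ℕ) (g : Fin c → Γ(Y, W)), CAlgX.IsH1Regular g ∧
      RingHom.ker (j.app W).hom = Ideal.span (Set.range g) := by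
  subst hW
  obtain ⟨hV, -⟩ := Groth.Agent.H8.RegImmStalk3.affine_and_surjective_of_isClosedImmersion_restrict j U
  haveI := U.2.isLocalization_basicOpen a
  refine ⟨rs.length, fun i => algebraMap Γ(Y, U.1) Γ(Y, Y.basicOpen a) (rs.get i),
    Groth.Agent.Lib.Helper10.LciJacobian.isH1Regular_of_isLocalization (Submonoid.powers a)
      rs.get hrs, ?_⟩
  have h1 : Ideal.ofList rs = Ideal.span (Set.range rs.get) := by
    rw [Set.range_list_get, Ideal.ofList]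
  rw [Groth.Agent.H8.QuasiRegSch.ker_app_basicOpen j U.2 hV a, hker, h1, Ideal.map_span,
    ← Set.range_comp]
  rfl

/-- Charts adapted to `Y' → Y → X` with `j : Y' → Y` `H₁`-regular at `y'`. -/
theorem exists_triple_h1_chart (f : Y ⟶ X) (j : Y' ⟶ Y) [IsImmersion f] [IsImmersion j]
    (y' : Y') (h : RegImm.IsRegularImmersionAt RegImm.Kind.h1 j y') :
    ∃ V : X.Opens, IsAffineOpen V ∧ y' ∈ j ⁻¹ᵁ (f ⁻¹ᵁ V) ∧ IsAffineOpen (f ⁻¹ᵁ V) ∧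
      Function.Surjective (f.app V).hom ∧ IsAffineOpen (j ⁻¹ᵁ (f ⁻¹ᵁ V)) ∧
      Function.Surjective ((j ≫ f).app V).hom ∧
      ∃ (c : ℕ) (g : Fin c → Γ(Y, f ⁻¹ᵁ V)), CAlgX.IsH1Regular g ∧
        RingHom.ker (j.app (f ⁻¹ᵁ V)).hom = Ideal.span (Set.range g) := by
  obtain ⟨U, hzU, hcl, rs, hrs, hker⟩ := h
  haveI := hcl
  have hmem : f (j y') ∈ f.coborderRange ⊓ (j ≫ f).coborderRange :=
    ⟨range_le_coborderRange f (j y'), range_le_coborderRange (j ≫ f) y'⟩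
  obtain ⟨V₀, hV₀, hyV₀, hV₀c⟩ := exists_isAffineOpen_mem_and_subset
    (x := f (j y')) (U := f.coborderRange ⊓ (j ≫ f).coborderRange) hmem
  obtain ⟨hU₀, hAB₀⟩ := closedImm_chart_of_le f hV₀ (fun y hy => (hV₀c hy).1)
  obtain ⟨a, b, hab, hya⟩ := exists_basicOpen_le_affine_inter U.2 hU₀ (j y') ⟨hzU, hyV₀⟩
  obtain ⟨a', rfl⟩ := hAB₀ b
  have hV : IsAffineOpen (X.basicOpen a') := hV₀.basicOpen a'
  have hVle : X.basicOpen a' ≤ V₀ := X.basicOpen_le a'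
  have hpre : f ⁻¹ᵁ X.basicOpen a' = Y.basicOpen a := by
    rw [Scheme.preimage_basicOpen, hab]
  obtain ⟨hU₁, hAB₁⟩ := closedImm_chart_of_le f hV (fun y hy => (hV₀c (hVle hy)).1)
  obtain ⟨hW₁, hAC₁⟩ := closedImm_chart_of_le (j ≫ f) hV (fun y hy => (hV₀c (hVle hy)).2)
  refine ⟨X.basicOpen a', hV, ?_, hU₁, hAB₁, hW₁, hAC₁,
    h1_data_basicOpen j U rs hrs hker a _ hpre⟩
  change j y' ∈ f ⁻¹ᵁ X.basicOpen a'
  rw [hpre]
  exact hya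

/-- Over a chart on which the ideal of `j` is generated by an `H₁`-regular sequence, the conormal
sheaf of `j` has free sections. -/
theorem conormal_sections_free_of_isH1Regular (j : Y' ⟶ Y) [QuasiCompact j]
    {U : Y.Opens} (hU : IsAffineOpen U) (hW : IsAffineOpen (j ⁻¹ᵁ U))
    (hBC : Function.Surjective (j.app U).hom)
    {c : ℕ} (g : Fin c → Γ(Y, U)) (hg : CAlgX.IsH1Regular g)
    (hspan : RingHom.ker (j.app U).hom = Ideal.span (Set.range g)) :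
    Nonempty (Γ(Omega.conormal j, j ⁻¹ᵁ U) ≃ₗ[Γ(Y', j ⁻¹ᵁ U)] (Fin c → Γ(Y', j ⁻¹ᵁ U))) := by
  letI : Algebra Γ(Y, U) Γ(Y', j ⁻¹ᵁ U) := (j.appLE U (j ⁻¹ᵁ U) le_rfl).hom.toAlgebra
  have hmapBC : ∀ y : Γ(Y, U), algebraMap Γ(Y, U) Γ(Y', j ⁻¹ᵁ U) y = j.app U y := by
    intro y
    change (j.appLE U (j ⁻¹ᵁ U) le_rfl).hom y = _
    rw [Scheme.Hom.appLE_eq_app]
  have hBC' : Function.Surjective (algebraMap Γ(Y, U) Γ(Y', j ⁻¹ᵁ U)) := by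
    intro c
    obtain ⟨a, ha⟩ := hBC c
    exact ⟨a, (hmapBC a).trans ha⟩
  have hkerBC : RingHom.ker (algebraMap Γ(Y, U) Γ(Y', j ⁻¹ᵁ U)) = Ideal.span (Set.range g) := by
    rw [← hspan]
    ext y
    rw [RingHom.mem_ker, RingHom.mem_ker, hmapBC]
  obtain ⟨e, -⟩ := exists_conormal_sections_equiv j hU hW le_rfl
  obtain ⟨e'⟩ := KAlg.exists_equiv_of_isH1Regular (idealSect j.ker U) (idealSect_smul j.ker U)
    (idealSect_injective j.ker U)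
    (fun n => (hmapBC _).trans (app_idealSect j hU n))
    (fun y hy => exists_idealSect_eq j hU y ((hmapBC y).symm.trans hy)) hBC' g hg hkerBC
  exact ⟨(e'.trans e).symm⟩

/-- The conormal sheaf of an `H₁`-regular (quasi-compact) immersion is finite locally free. -/
theorem isFinLocFree_conormal_of_h1 (j : Y' ⟶ Y) [QuasiCompact j]
    (hj : ∀ y' : Y', RegImm.IsRegularImmersionAt RegImm.Kind.h1 j y') :
    FlatMod.IsFinLocFree (Omega.conormal j) := by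
  haveI : (Omega.conormal j).IsQuasicoherent :=
    Groth.Agent.Lib.Helper16.FlatPull.isQuasicoherent_pullback j (ClSub.idealMod j.ker)
  rw [Groth.Agent.Lib.Helper49.isFinLocFree_iff_affine]
  intro y'
  obtain ⟨U, hzU, hcl, rs, hrs, hker⟩ := hj y'
  haveI := hcl
  obtain ⟨hW, hsurj⟩ :=
    Groth.Agent.H8.RegImmStalk3.affine_and_surjective_of_isClosedImmersion_restrict j U
  have h1 : Ideal.ofList rs = Ideal.span (Set.range rs.get) := by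
    rw [Set.range_list_get, Ideal.ofList]
  exact ⟨j ⁻¹ᵁ U.1, rs.length, hW, hzU,
    conormal_sections_free_of_isH1Regular j U.2 hW hsurj rs.get hrs (hker.trans h1)⟩

end H1Charts

end Groth.Agent.Lib.Helper51.OmegaUniv
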