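import Mathlib
import Groth.Agent.Lib.Helper49.AffineHom

/-!
# Local retractions of morphisms of quasi-coherent modules from retractions on sections
-/

set_option autoImplicit false
set_option linter.style.haveILetI false
universe u
open AlgebraicGeometry CategoryTheory Limits TopologicalSpace

namespace Groth.Agent.Lib.Helper51.OmegaUniv

open Groth.Agent.Lib.Helper49

/-- If `ψ : M ⟶ N` (quasi-coherent) has a linear retraction on sections over an affine open `W`,
then `ψ|_W` has a retraction. -/
theorem exists_retraction_restrict {X : Scheme.{u}} {M N : X.Modules} [M.IsQuasicoherent]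
    [N.IsQuasicoherent] (ψ : M ⟶ N) {W : X.Opens} (hW : IsAffineOpen W)
    (ρ : Γ(N, W) →ₗ[Γ(X, W)] Γ(M, W)) (hρ : ∀ m, ρ (ψ.app W m) = m) :
    ∃ r : (Scheme.Modules.restrictFunctor W.ι).obj N ⟶ (Scheme.Modules.restrictFunctor W.ι).obj M,
      (Scheme.Modules.restrictFunctor W.ι).map ψ ≫ r = 𝟙 _ := by
  obtain ⟨r, hr⟩ := exists_hom_restrict_of_linearMap hW N M ρ
  refine ⟨r, ?_⟩
  apply hom_ext_restrict hW M M
  intro s
  have hs : s = M.presheaf.map (eqToHom W.ι_image_top).op
      (M.presheaf.map (eqToHom W.ι_image_top.symm).op s) := (map_map_id M _ _ s).symm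
  set m := M.presheaf.map (eqToHom W.ι_image_top.symm).op s with hm
  have h1 : ((Scheme.Modules.restrictFunctor W.ι).map ψ).app ⊤ s =
      N.presheaf.map (eqToHom W.ι_image_top).op (ψ.app W m) := by
    rw [hs]
    exact app_map ψ (eqToHom W.ι_image_top) m
  change r.app ⊤ (((Scheme.Modules.restrictFunctor W.ι).map ψ).app ⊤ s) = s
  rw [h1, hr, hρ, ← hs]

end Groth.Agent.Lib.Helper51.OmegaUniv
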