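import Mathlib
import Groth.Agent.Lib.Helper51.OmegaUniv.LocalRetract

set_option autoImplicit false
set_option linter.style.haveILetI false
universe u
open AlgebraicGeometry CategoryTheory Limits TopologicalSpace

namespace Groth.Agent.Lib.Helper51.OmegaUniv

/-- A retraction of `ψ|_U` gives linear retractions of `ψ` on sections over every open `W ≤ U`. -/
theorem exists_linear_retraction_of_restrict {X : Scheme.{u}} {M N : X.Modules} (ψ : M ⟶ N)
    (U : X.Opens)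
    (ρ : (Scheme.Modules.restrictFunctor U.ι).obj N ⟶ (Scheme.Modules.restrictFunctor U.ι).obj M)
    (hρ : (Scheme.Modules.restrictFunctor U.ι).map ψ ≫ ρ = 𝟙 _) (W : X.Opens) (hW : W ≤ U) :
    ∃ r : Γ(N, W) →ₗ[Γ(X, W)] Γ(M, W), ∀ m, r (ψ.app W m) = m := by
  have hWeq : U.ι ''ᵁ (U.ι ⁻¹ᵁ W) = W := by
    rw [Scheme.Hom.image_preimage_eq_opensRange_inf, Scheme.Opens.opensRange_ι]
    exact inf_eq_right.mpr hW
  have key : ∀ W' : X.Opens, U.ι ''ᵁ (U.ι ⁻¹ᵁ W) = W' →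
      ∃ r : Γ(N, W') →ₗ[Γ(X, W')] Γ(M, W'), ∀ m, r (ψ.app W' m) = m := by
    rintro _ rfl
    refine ⟨{ toFun := fun n => (ρ.app (U.ι ⁻¹ᵁ W)).hom n
              map_add' := fun a b => map_add (ρ.app (U.ι ⁻¹ᵁ W)).hom a b
              map_smul' := fun c n => ?_ }, fun m => ?_⟩
    · have h1 := Scheme.Modules.Hom.app_smul ρ ((U.ι.appIso (U.ι ⁻¹ᵁ W)).hom c)
        (show Γ((Scheme.Modules.restrictFunctor U.ι).obj N, U.ι ⁻¹ᵁ W) from n)
      have h2 : ∀ (L : X.Modules) (x : Γ(L, U.ι ''ᵁ (U.ι ⁻¹ᵁ W))),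
          ((U.ι.appIso (U.ι ⁻¹ᵁ W)).hom c) •
            (show Γ((Scheme.Modules.restrictFunctor U.ι).obj L, U.ι ⁻¹ᵁ W) from x) =
          (show Γ((Scheme.Modules.restrictFunctor U.ι).obj L, U.ι ⁻¹ᵁ W) from c • x) := by
        intro L x
        change ((U.ι.appIso (U.ι ⁻¹ᵁ W)).inv ((U.ι.appIso (U.ι ⁻¹ᵁ W)).hom c)) • x = c • x
        congr 1
        exact congr($((U.ι.appIso (U.ι ⁻¹ᵁ W)).hom_inv_id) c)
      rw [h2 N n, h2 M] at h1
      exact h1
    · have h := congr(($hρ).app (U.ι ⁻¹ᵁ W))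
      have h' := congr(($h).hom m)
      exact h'
  exact key W hWeq

end Groth.Agent.Lib.Helper51.OmegaUniv
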