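import Mathlib
import Groth.Agent.Lib.Helper49.AffineHom

/-!
# Splittings of restricted short complexes of quasi-coherent modules from data on sections
-/

set_option autoImplicit false
set_option linter.style.haveILetI false
universe u
open AlgebraicGeometry CategoryTheory Limits TopologicalSpace

namespace Groth.Agent.Lib.Helper51.OmegaUniv

open Groth.Agent.Lib.Helper49

/-- the value of a restricted morphism on the top open. -/
theorem restrict_map_app_top {X : Scheme.{u}} {M N : X.Modules} (ψ : M ⟶ N) (W : X.Opens)
    (m : Γ(M, W)) :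
    ((Scheme.Modules.restrictFunctor W.ι).map ψ).app ⊤
        (M.presheaf.map (eqToHom W.ι_image_top).op m) =
      N.presheaf.map (eqToHom W.ι_image_top).op (ψ.app W m) :=
  app_map ψ (eqToHom W.ι_image_top) m

theorem exists_eq_map_top {X : Scheme.{u}} (M : X.Modules) (W : X.Opens)
    (s : Γ(M.restrict W.ι, ⊤)) :
    ∃ m : Γ(M, W), s = M.presheaf.map (eqToHom W.ι_image_top).op m :=
  ⟨M.presheaf.map (eqToHom W.ι_image_top.symm).op s, (map_map_id M _ _ s).symm⟩

/-- A left exact sequence of quasi-coherent modules whose sections over an affine open `W` admit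
a linear section of the second map restricts to a split short complex on `W`. -/
theorem nonempty_splitting_restrict {X : Scheme.{u}} {M N Q : X.Modules} [M.IsQuasicoherent]
    [N.IsQuasicoherent] [Q.IsQuasicoherent] (a : M ⟶ N) (b : N ⟶ Q) {W : X.Opens}
    (hW : IsAffineOpen W) (hinj : Function.Injective (a.app W))
    (hex : ∀ n : Γ(N, W), b.app W n = 0 → ∃ m, a.app W m = n)
    (s : Γ(Q, W) →ₗ[Γ(X, W)] Γ(N, W)) (hs : ∀ q, b.app W (s q) = q)
    (w : (Scheme.Modules.restrictFunctor W.ι).map a ≫
      (Scheme.Modules.restrictFunctor W.ι).map b = 0) :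
    Nonempty (ShortComplex.mk ((Scheme.Modules.restrictFunctor W.ι).map a)
      ((Scheme.Modules.restrictFunctor W.ι).map b) w).Splitting := by
  have hex' : ∀ n : Γ(N, W), ∃ m : Γ(M, W), a.app W m = n - s (b.app W n) := by
    intro n
    apply hex
    rw [map_sub, hs, sub_self]
  choose ρ hρ using hex'
  have hzero : ∀ m, b.app W (a.app W m) = 0 := by
    intro m
    have h1 := congrArg (fun φ => φ.app ⊤ (M.presheaf.map (eqToHom W.ι_image_top).op m)) w
    simp only [Scheme.Modules.Hom.comp_app, CategoryTheory.comp_apply] at h1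
    rw [restrict_map_app_top, restrict_map_app_top] at h1
    have h2 : Function.Injective (Q.presheaf.map (eqToHom W.ι_image_top).op) :=
      map_injective_of_eq Q _ W.ι_image_top
    apply h2
    rw [h1, map_zero]
    rfl
  let ρL : Γ(N, W) →ₗ[Γ(X, W)] Γ(M, W) :=
    { toFun := ρ
      map_add' := fun x y => by
        apply hinj
        rw [map_add, hρ, hρ, hρ, map_add, map_add]
        abel
      map_smul' := fun c x => by
        apply hinj
        rw [RingHom.id_apply, Scheme.Modules.Hom.app_smul, hρ, hρ, Scheme.Modules.Hom.app_smul,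
          map_smul, smul_sub] }
  have hρa : ∀ m, ρL (a.app W m) = m := by
    intro m
    apply hinj
    show a.app W (ρ (a.app W m)) = _
    rw [hρ, hzero, map_zero, sub_zero]
  obtain ⟨r, hr⟩ := exists_hom_restrict_of_linearMap hW N M ρL
  obtain ⟨σ, hσ⟩ := exists_hom_restrict_of_linearMap hW Q N s
  refine ⟨{ r := r, s := σ, f_r := ?_, s_g := ?_, id := ?_ }⟩
  · apply hom_ext_restrict hW M M
    intro t
    obtain ⟨m, rfl⟩ := exists_eq_map_top M W t
    change r.app ⊤ (((Scheme.Modules.restrictFunctor W.ι).map a).app ⊤ _) = _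
    rw [restrict_map_app_top, hr, hρa]
    rfl
  · apply hom_ext_restrict hW Q Q
    intro t
    obtain ⟨q, rfl⟩ := exists_eq_map_top Q W t
    change ((Scheme.Modules.restrictFunctor W.ι).map b).app ⊤ (σ.app ⊤ _) = _
    rw [hσ, restrict_map_app_top, hs]
    rfl
  · apply hom_ext_restrict hW N N
    intro t
    obtain ⟨n, rfl⟩ := exists_eq_map_top N W t
    change ((Scheme.Modules.restrictFunctor W.ι).map a).app ⊤ (r.app ⊤ _) +
      σ.app ⊤ (((Scheme.Modules.restrictFunctor W.ι).map b).app ⊤ _) = _
    rw [hr, restrict_map_app_top, restrict_map_app_top, hσ]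
    have key : N.presheaf.map (eqToHom W.ι_image_top).op (a.app W (ρL n)) +
        N.presheaf.map (eqToHom W.ι_image_top).op (s (b.app W n)) =
        N.presheaf.map (eqToHom W.ι_image_top).op n := by
      rw [← map_add]
      congr 1
      show a.app W (ρ n) + s (b.app W n) = n
      rw [hρ, sub_add_cancel]
    exact key

end Groth.Agent.Lib.Helper51.OmegaUniv
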