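import Mathlib

set_option autoImplicit false
set_option linter.style.haveILetI false
universe u
open TensorProduct KaehlerDifferential

namespace Groth.Agent.Lib.Helper51.OmegaUniv.KAlg

/-- If `A → B` is formally smooth and `A → C` is surjective (with `A → B → C` a tower), then an
element `x` of `A` whose image in `B` lies in `ker (B → C)²` lies in `ker (A → C)²`. -/
theorem mem_sq_of_algebraMap_mem_sq_of_formallySmooth {A B C : Type*} [CommRing A] [CommRing B]
    [CommRing C] [Algebra A B] [Algebra B C] [Algebra A C] [IsScalarTower A B C]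
    [Algebra.FormallySmooth A B] (hAC : Function.Surjective (algebraMap A C)) (x : A)
    (hx : algebraMap A B x ∈ (RingHom.ker (algebraMap B C)) ^ 2) :
    x ∈ (RingHom.ker (algebraMap A C)) ^ 2 := by
  let f : A →ₐ[A] C := Algebra.ofId A C
  have hsurj : Function.Surjective f.kerSquareLift := by
    intro s
    obtain ⟨p, rfl⟩ := hAC s
    exact ⟨Ideal.Quotient.mk _ p, by rw [AlgHom.kerSquareLift_mk]; rfl⟩
  have hker : RingHom.ker (f.kerSquareLift : A ⧸ RingHom.ker f.toRingHom ^ 2 →+* C) =
      (RingHom.ker f.toRingHom).cotangentIdeal := AlgHom.ker_kerSquareLift f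
  have hnil : IsNilpotent (RingHom.ker
      (f.kerSquareLift : A ⧸ RingHom.ker f.toRingHom ^ 2 →+* C)) := by
    refine ⟨2, ?_⟩
    rw [hker, Ideal.cotangentIdeal_square]
    rfl
  let l : B →ₐ[A] A ⧸ RingHom.ker f.toRingHom ^ 2 :=
    Algebra.FormallySmooth.liftOfSurjective (IsScalarTower.toAlgHom A B C) f.kerSquareLift
      hsurj hnil
  have hl : ∀ b, f.kerSquareLift (l b) = algebraMap B C b := fun b =>
    Algebra.FormallySmooth.liftOfSurjective_apply _ _ hsurj hnil b
  have hJ : (RingHom.ker (algebraMap B C)).map (l : B →+* A ⧸ RingHom.ker f.toRingHom ^ 2) ≤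
      (RingHom.ker f.toRingHom).cotangentIdeal := by
    rw [Ideal.map_le_iff_le_comap]
    intro b hb
    rw [Ideal.mem_comap, ← hker, RingHom.mem_ker]
    exact (hl b).trans (RingHom.mem_ker.mp hb)
  have h0 : (l : B →+* A ⧸ RingHom.ker f.toRingHom ^ 2) (algebraMap A B x) = 0 := by
    have h1 : (l : B →+* A ⧸ RingHom.ker f.toRingHom ^ 2) (algebraMap A B x) ∈
        ((RingHom.ker (algebraMap B C)).map (l : B →+* A ⧸ RingHom.ker f.toRingHom ^ 2)) ^ 2 := by
      rw [← Ideal.map_pow]
      exact Ideal.mem_map_of_mem _ hx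
    have h2 := Ideal.pow_right_mono hJ 2 h1
    rw [Ideal.cotangentIdeal_square] at h2
    exact h2
  have h3 : (l : B →+* A ⧸ RingHom.ker f.toRingHom ^ 2) (algebraMap A B x) =
      Ideal.Quotient.mk (RingHom.ker f.toRingHom ^ 2) x := l.commutes x
  rw [h3, Ideal.Quotient.eq_zero_iff_mem] at h0
  exact h0

end Groth.Agent.Lib.Helper51.OmegaUniv.KAlg
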