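import Mathlib
import Groth.Prelude.Def_Omega4
import Groth.Agent.Lib.Helper51.OmegaUniv.ConormalComp
import Groth.Agent.Lib.Helper51.OmegaUniv.KaehlerAlg8
import Groth.Agent.Lib.Helper51.OmegaUniv.KaehlerAlg9

set_option autoImplicit false
set_option linter.style.haveILetI false
universe u
open AlgebraicGeometry CategoryTheory Limits TopologicalSpace Opposite TensorProduct OmegaSh

namespace Groth.Agent.Lib.Helper51.OmegaUniv

open Groth.Agent.Lib.Helper49 Groth.Agent.Lib.Helper49.UnitChart Groth.Agent.Lib.Helper45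
  Groth.Agent.Lib.Helper13.OmegaShYoneda

section Mono

variable {Z X Y : Scheme.{u}} (p : X ⟶ Y) (i : Z ⟶ X) (j : Z ⟶ Y)
  {ψ : (Scheme.Modules.pullback (𝟙 Z)).obj (Omega.conormal j) ⟶ Omega.conormal i}

/-- Generator step with explicit preimage: `ψ` sends the class of `s'` to the class of the
section `n'` of the ideal of `i` with underlying function `p♯ (s')`. -/
theorem conormalMap_generator' [QuasiCompact i] [QuasiCompact j] (hij : i ≫ p = j)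
    (hψ : IsConormalMap i j p (𝟙 Z) ψ) {V : Y.Opens} {U : X.Opens}
    (h₁ : U ≤ p ⁻¹ᵁ V) (s' : Γ(ClSub.idealMod j.ker, V)) (W : Z.Opens) (hWU : W ≤ i ⁻¹ᵁ U)
    (hWV : W ≤ (𝟙 Z) ⁻¹ᵁ (j ⁻¹ᵁ V)) :
    ∃ n' : Γ(ClSub.idealMod i.ker, U),
      idealSect i.ker U n' = p.appLE V U h₁ (idealSect j.ker V s') ∧
      ψ.app W (pullSLE (𝟙 Z) (Omega.conormal j) (j ⁻¹ᵁ V) W hWV (conormalSect j V s')) =
        (Omega.conormal i).presheaf.map (homOfLE hWU).op (conormalSect i U n') := by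
  have hia : i.app (p ⁻¹ᵁ V) (p.app V (idealSect j.ker V s')) = 0 := by
    have h0 : (i ≫ p).app V (idealSect j.ker V s') = 0 :=
      app_eq_zero_of_eq hij V _ (app_idealSect' j V s')
    exact h0
  obtain ⟨sb, hsb⟩ := exists_idealSect_eq' i (p ⁻¹ᵁ V) _ hia
  refine ⟨(ClSub.idealMod i.ker).presheaf.map (homOfLE h₁).op sb, ?_, ?_⟩
  · rw [idealSect_map, hsb]
    rfl
  · have h₂ : W ≤ i ⁻¹ᵁ (p ⁻¹ᵁ V) := fun y hy => h₁ (hWU hy)
    refine (conormalMap_app p i j hψ V s' sb hsb W hWV h₂).trans ?_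
    rw [conormalSect_map i h₁ sb, conormal_res_res]

/-- On adapted charts with `Γ(Y, V) → Γ(X, U)` formally smooth, the map of conormal sheaves
`ψ : C_{Z/Y} → C_{Z/X}` is injective on sections. -/
theorem conormalMap_app_injective_chart [QuasiCompact i] [QuasiCompact j] (hij : i ≫ p = j)
    (hψ : IsConormalMap i j p (𝟙 Z) ψ)
    {V : Y.Opens} (hV : IsAffineOpen V) {U : X.Opens} (hU : IsAffineOpen U)
    (h₁ : U ≤ p ⁻¹ᵁ V) (hsm : (p.appLE V U h₁).hom.FormallySmooth)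
    (hsurjB : Function.Surjective (i.app U).hom) (hWW : i ⁻¹ᵁ U = j ⁻¹ᵁ V)
    (hW : IsAffineOpen (j ⁻¹ᵁ V))
    (hsurjA : Function.Surjective (j.app V).hom) :
    Function.Injective (ψ.app (j ⁻¹ᵁ V)) := by
  have hWle : j ⁻¹ᵁ V ≤ i ⁻¹ᵁ U := hWW.ge
  letI : Algebra Γ(Y, V) Γ(X, U) := (p.appLE V U h₁).hom.toAlgebra
  letI : Algebra Γ(X, U) Γ(Z, j ⁻¹ᵁ V) := (i.appLE U (j ⁻¹ᵁ V) hWle).hom.toAlgebra
  letI : Algebra Γ(Y, V) Γ(Z, j ⁻¹ᵁ V) := (j.appLE V (j ⁻¹ᵁ V) le_rfl).hom.toAlgebra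
  haveI : IsScalarTower Γ(Y, V) Γ(X, U) Γ(Z, j ⁻¹ᵁ V) := by
    refine IsScalarTower.of_algebraMap_eq' ?_
    change (j.appLE V (j ⁻¹ᵁ V) le_rfl).hom =
      (p.appLE V U h₁ ≫ i.appLE U (j ⁻¹ᵁ V) hWle).hom
    rw [Scheme.Hom.appLE_comp_appLE]
    exact congrArg _ (appLE_congr_hom' hij.symm V (j ⁻¹ᵁ V) _ _)
  haveI : Algebra.FormallySmooth Γ(Y, V) Γ(X, U) := hsm
  have hBC : Function.Surjective (algebraMap Γ(X, U) Γ(Z, j ⁻¹ᵁ V)) := by
    change Function.Surjective ((i.app U ≫ Z.presheaf.map (homOfLE hWle).op).hom)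
    rw [CommRingCat.hom_comp]
    exact (res_bijective_of_eq hWW.symm).2.comp hsurjB
  have hkerB : ∀ y : Γ(X, U), i.app U y = 0 → algebraMap Γ(X, U) Γ(Z, j ⁻¹ᵁ V) y = 0 := by
    intro y hy
    change (Z.presheaf.map (homOfLE hWle).op).hom ((i.app U).hom y) = 0
    have : (i.app U).hom y = 0 := hy
    rw [this, map_zero]
  have hAC : Function.Surjective (algebraMap Γ(Y, V) Γ(Z, j ⁻¹ᵁ V)) := by
    change Function.Surjective (j.appLE V (j ⁻¹ᵁ V) le_rfl).hom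
    rw [Scheme.Hom.appLE_eq_app]
    exact hsurjA
  have hkerA : ∀ a : Γ(Y, V), algebraMap Γ(Y, V) Γ(Z, j ⁻¹ᵁ V) a = 0 ↔ j.app V a = 0 := by
    intro a
    change (j.appLE V (j ⁻¹ᵁ V) le_rfl).hom a = 0 ↔ _
    rw [Scheme.Hom.appLE_eq_app]
  obtain ⟨eNj, heNj⟩ := exists_conormal_sections_equiv j hV hW le_rfl
  obtain ⟨eNi, heNi⟩ := exists_conormal_sections_equiv i hU hW hWle
  -- kernel is trivial
  have hker0 : ∀ m, ψ.app (j ⁻¹ᵁ V) m = 0 → m = 0 := by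
    intro m hm
    have hinv : ((Scheme.Modules.pullbackId Z).inv.app (Omega.conormal j)).app (j ⁻¹ᵁ V)
        (((Scheme.Modules.pullbackId Z).hom.app (Omega.conormal j)).app (j ⁻¹ᵁ V) m) = m := by
      have := congrArg (fun k => (Scheme.Modules.Hom.app k (j ⁻¹ᵁ V)) m)
        ((Scheme.Modules.pullbackId Z).hom_inv_id_app (Omega.conormal j))
      exact this
    obtain ⟨τ, hτ⟩ := eNj.surjective
      (((Scheme.Modules.pullbackId Z).hom.app (Omega.conormal j)).app (j ⁻¹ᵁ V) m)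
    obtain ⟨s', rfl⟩ := exists_one_tmul hAC τ
    have hm₀ : ((Scheme.Modules.pullbackId Z).hom.app (Omega.conormal j)).app (j ⁻¹ᵁ V) m =
        conormalSect j V s' := by
      rw [← hτ, heNj, one_smul]
      exact mres_self _ _
    have hmeq : m = pullSLE (𝟙 Z) (Omega.conormal j) (j ⁻¹ᵁ V) (j ⁻¹ᵁ V) le_rfl
        (conormalSect j V s') := by
      rw [← hinv, hm₀, pullbackId_inv_app_eq]
    obtain ⟨n', hn', hψn⟩ := conormalMap_generator' p i j hij hψ h₁ s' (j ⁻¹ᵁ V) hWle le_rfl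
    rw [← hmeq, hm] at hψn
    have h1 : eNi (1 ⊗ₜ n') = 0 := by
      rw [heNi, one_smul]
      exact hψn.symm
    have h2 : (1 : Γ(Z, j ⁻¹ᵁ V)) ⊗ₜ[Γ(X, U)] n' = 0 :=
      eNi.injective (h1.trans (map_zero eNi).symm)
    have h3 := KAlg.mem_sq_of_one_tmul_eq_zero (idealSect i.ker U) (idealSect_smul i.ker U)
      (fun n => hkerB _ (app_idealSect i hU n)) hBC n' h2
    rw [hn'] at h3
    have h4 : idealSect j.ker V s' ∈ (RingHom.ker (algebraMap Γ(Y, V) Γ(Z, j ⁻¹ᵁ V))) ^ 2 :=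
      KAlg.mem_sq_of_algebraMap_mem_sq_of_formallySmooth hAC _ h3
    have h5 : (1 : Γ(Z, j ⁻¹ᵁ V)) ⊗ₜ[Γ(Y, V)] s' = 0 :=
      KAlg.one_tmul_eq_zero_of_mem_sq (idealSect j.ker V) (idealSect_smul j.ker V)
        (idealSect_injective j.ker V)
        (fun y hy => exists_idealSect_eq j hV y ((hkerA y).mp hy)) s' h4
    rw [← hinv, ← hτ, h5, map_zero, map_zero]
  intro m m' h
  have : ψ.app (j ⁻¹ᵁ V) (m - m') = 0 := by
    rw [map_sub, h, sub_self]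
  exact sub_eq_zero.mp (hker0 _ this)

end Mono

end Groth.Agent.Lib.Helper51.OmegaUniv
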