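import Mathlib
import Groth.Prelude.Def_Omega4
import Groth.Agent.Lib.Helper51.OmegaUniv.ConormalTriple2
import Groth.Agent.Lib.Helper51.OmegaUniv.ConormalMono

set_option autoImplicit false
set_option linter.style.haveILetI false
universe u
open AlgebraicGeometry CategoryTheory Limits TopologicalSpace Opposite TensorProduct OmegaSh

namespace Groth.Agent.Lib.Helper51.OmegaUniv

open Groth.Agent.Lib.Helper49 Groth.Agent.Lib.Helper49.UnitChart Groth.Agent.Lib.Helper45
  Groth.Agent.Lib.Helper13.OmegaShYoneda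

section GenSquare

variable {Z Y Z' Y' : Scheme.{u}} (i' : Z ⟶ Z') (j : Y ⟶ Y') (m : Z' ⟶ Y') (i : Z ⟶ Y)
  {ψ₁ : (Scheme.Modules.pullback i).obj (Omega.conormal j) ⟶ Omega.conormal i'}

/-- Generator step for a general commutative square `i' ≫ m = i ≫ j`. -/
theorem conormalMap_gen_generator [QuasiCompact i'] [QuasiCompact j]
    (hψ₁ : IsConormalMap i' j m i ψ₁) {VY' : Y'.Opens} {VZ' : Z'.Opens}
    (hVZ' : VZ' ≤ m ⁻¹ᵁ VY') (s : Γ(ClSub.idealMod j.ker, VY')) (W : Z.Opens)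
    (hWZ' : W ≤ i' ⁻¹ᵁ VZ') (hWY : W ≤ i ⁻¹ᵁ (j ⁻¹ᵁ VY')) :
    ∃ n' : Γ(ClSub.idealMod i'.ker, VZ'),
      idealSect i'.ker VZ' n' = m.appLE VY' VZ' hVZ' (idealSect j.ker VY' s) ∧
      ψ₁.app W (pullSLE i (Omega.conormal j) (j ⁻¹ᵁ VY') W hWY (conormalSect j VY' s)) =
        (Omega.conormal i').presheaf.map (homOfLE hWZ').op (conormalSect i' VZ' n') := by
  have hsq : i ≫ j = i' ≫ m := hψ₁.1
  have hia : i'.app (m ⁻¹ᵁ VY') (m.app VY' (idealSect j.ker VY' s)) = 0 := by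
    have h0 : (i' ≫ m).app VY' (idealSect j.ker VY' s) = 0 := by
      refine app_eq_zero_of_eq hsq.symm VY' _ ?_
      change i.app (j ⁻¹ᵁ VY') (j.app VY' (idealSect j.ker VY' s)) = 0
      rw [app_idealSect' j VY' s, map_zero]
    exact h0
  obtain ⟨sb, hsb⟩ := exists_idealSect_eq' i' (m ⁻¹ᵁ VY') _ hia
  refine ⟨(ClSub.idealMod i'.ker).presheaf.map (homOfLE hVZ').op sb, ?_, ?_⟩
  · rw [idealSect_map, hsb]
    rfl
  · have h₂ : W ≤ i' ⁻¹ᵁ (m ⁻¹ᵁ VY') := fun y hy => hVZ' (hWZ' hy)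
    refine (conormalMap_app_gen i' j m i hψ₁ VY' s sb hsb W hWY h₂).trans ?_
    rw [conormalSect_map i' hVZ' sb, conormal_res_res]

/-- If the classes of the ideal of `j` admit a semilinear retraction `t` through the ideal of `i'`,
then `ψ₁ : i^* C_{Y/Y'} → C_{Z/Z'}` is injective on sections over `W`. -/
theorem conormalMap_gen_injective_of_retraction [QuasiCompact i'] [QuasiCompact j]
    (hψ₁ : IsConormalMap i' j m i ψ₁)
    {VY' : Y'.Opens} (hVY' : IsAffineOpen VY') (hVY : IsAffineOpen (j ⁻¹ᵁ VY'))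
    {VZ' : Z'.Opens} (hVZ'a : IsAffineOpen VZ') (hVZ' : VZ' ≤ m ⁻¹ᵁ VY')
    {W : Z.Opens} (hW : IsAffineOpen W) (hWZ' : W ≤ i' ⁻¹ᵁ VZ') (hWY : W ≤ i ⁻¹ᵁ (j ⁻¹ᵁ VY'))
    (t : Γ(Z', VZ') → Γ((Scheme.Modules.pullback i).obj (Omega.conormal j), W))
    (ht_add : ∀ x x', i'.appLE VZ' W hWZ' x = 0 → i'.appLE VZ' W hWZ' x' = 0 →
      t (x + x') = t x + t x')
    (ht_smul : ∀ b' x, i'.appLE VZ' W hWZ' x = 0 →
      t (b' * x) = (i'.appLE VZ' W hWZ').hom b' • t x)
    (ht : ∀ s : Γ(ClSub.idealMod j.ker, VY'),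
      t (m.appLE VY' VZ' hVZ' (idealSect j.ker VY' s)) =
        pullSLE i (Omega.conormal j) (j ⁻¹ᵁ VY') W hWY (conormalSect j VY' s)) :
    Function.Injective (ψ₁.app W) := by
  haveI hqj : (Omega.conormal j).IsQuasicoherent :=
    Groth.Agent.Lib.Helper16.FlatPull.isQuasicoherent_pullback j (ClSub.idealMod j.ker)
  letI : Algebra Γ(Y', VY') Γ(Y, j ⁻¹ᵁ VY') := (j.appLE VY' (j ⁻¹ᵁ VY') le_rfl).hom.toAlgebra
  letI : Algebra Γ(Y, j ⁻¹ᵁ VY') Γ(Z, W) := (i.appLE (j ⁻¹ᵁ VY') W hWY).hom.toAlgebra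
  letI : Algebra Γ(Z', VZ') Γ(Z, W) := (i'.appLE VZ' W hWZ').hom.toAlgebra
  obtain ⟨e₀, he₀⟩ := exists_conormal_sections_equiv j hVY' hVY le_rfl
  obtain ⟨e₁, he₁⟩ := exists_tensor_sections_equiv i (Omega.conormal j) hVY hW hWY
  obtain ⟨e₂, he₂⟩ := exists_conormal_sections_equiv i' hVZ'a hW hWZ'
  have hkerN : ∀ n' : Γ(ClSub.idealMod i'.ker, VZ'),
      i'.appLE VZ' W hWZ' (idealSect i'.ker VZ' n') = 0 := by
    intro n'
    change (Z.presheaf.map (homOfLE hWZ').op).hom ((i'.app VZ').hom (idealSect i'.ker VZ' n')) = 0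
    have : (i'.app VZ').hom (idealSect i'.ker VZ' n') = 0 := app_idealSect i' hVZ'a n'
    rw [this, map_zero]
  letI : Module Γ(Z', VZ') Γ((Scheme.Modules.pullback i).obj (Omega.conormal j), W) :=
    Module.compHom _ (algebraMap Γ(Z', VZ') Γ(Z, W))
  haveI : IsScalarTower Γ(Z', VZ') Γ(Z, W)
      Γ((Scheme.Modules.pullback i).obj (Omega.conormal j), W) :=
    IsScalarTower.of_compHom _ _ _
  let t₀ : Γ(ClSub.idealMod i'.ker, VZ') →ₗ[Γ(Z', VZ')]
      Γ((Scheme.Modules.pullback i).obj (Omega.conormal j), W) :=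
    { toFun := fun n' => t (idealSect i'.ker VZ' n')
      map_add' := fun n₁ n₂ => by
        rw [map_add]
        exact ht_add _ _ (hkerN n₁) (hkerN n₂)
      map_smul' := fun b' n' => by
        rw [idealSect_smul, RingHom.id_apply]
        exact ht_smul b' _ (hkerN n') }
  let T : Γ(Omega.conormal i', W) →ₗ[Γ(Z, W)]
      Γ((Scheme.Modules.pullback i).obj (Omega.conormal j), W) :=
    (LinearMap.liftBaseChange Γ(Z, W) t₀) ∘ₗ e₂.symm.toLinearMap
  have hgen : ∀ s : Γ(ClSub.idealMod j.ker, VY'),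
      T (ψ₁.app W (pullSLE i (Omega.conormal j) (j ⁻¹ᵁ VY') W hWY (conormalSect j VY' s))) =
        pullSLE i (Omega.conormal j) (j ⁻¹ᵁ VY') W hWY (conormalSect j VY' s) := by
    intro s
    obtain ⟨n', hn', hψn⟩ := conormalMap_gen_generator i' j m i hψ₁ hVZ' s W hWZ' hWY
    have h1 : ψ₁.app W (pullSLE i (Omega.conormal j) (j ⁻¹ᵁ VY') W hWY (conormalSect j VY' s)) =
        e₂ (1 ⊗ₜ n') := by
      rw [he₂, one_smul]
      exact hψn
    rw [h1, LinearMap.comp_apply, LinearEquiv.coe_coe, LinearEquiv.symm_apply_apply,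
      LinearMap.liftBaseChange_tmul, one_smul]
    change t (idealSect i'.ker VZ' n') = _
    rw [hn', ht]
  have hspan : ∀ x : Γ((Scheme.Modules.pullback i).obj (Omega.conormal j), W),
      x ∈ Submodule.span Γ(Z, W) (Set.range fun s : Γ(ClSub.idealMod j.ker, VY') =>
        pullSLE i (Omega.conormal j) (j ⁻¹ᵁ VY') W hWY (conormalSect j VY' s)) := by
    intro x
    obtain ⟨τ, rfl⟩ := e₁.surjective x
    induction τ using TensorProduct.induction_on with
    | zero => rw [map_zero]; exact Submodule.zero_mem _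
    | tmul b y =>
      rw [he₁]
      refine Submodule.smul_mem _ _ ?_
      obtain ⟨σ, rfl⟩ := e₀.surjective y
      induction σ using TensorProduct.induction_on with
      | zero =>
        rw [map_zero]
        have : pullSLE i (Omega.conormal j) (j ⁻¹ᵁ VY') W hWY 0 = 0 := by
          have := pullSLE_add i (Omega.conormal j) (j ⁻¹ᵁ VY') W hWY 0 0
          rw [add_zero] at this
          exact left_eq_add.mp this
        rw [this]
        exact Submodule.zero_mem _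
      | tmul a s =>
        rw [he₀, pullSLE_smul]
        refine Submodule.smul_mem _ _ ?_
        refine Submodule.subset_span ⟨s, ?_⟩
        change pullSLE i (Omega.conormal j) (j ⁻¹ᵁ VY') W hWY (conormalSect j VY' s) = _
        congr 1
        exact (mres_self _ _).symm
      | add σ₁ σ₂ h₁ h₂ =>
        rw [map_add, pullSLE_add]
        exact Submodule.add_mem _ h₁ h₂
    | add τ₁ τ₂ h₁ h₂ =>
      rw [map_add]
      exact Submodule.add_mem _ h₁ h₂
  have hall : ∀ x, T (ψ₁.app W x) = x := by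
    intro x
    refine Submodule.span_induction ?_ ?_ ?_ ?_ (hspan x)
    · rintro _ ⟨s, rfl⟩
      exact hgen s
    · rw [map_zero, map_zero]
    · intro x y _ _ hx hy
      rw [map_add, map_add, hx, hy]
    · intro b x _ hx
      rw [Scheme.Modules.Hom.app_smul, map_smul, hx]
  exact Function.LeftInverse.injective (g := T) hall

end GenSquare

end Groth.Agent.Lib.Helper51.OmegaUniv
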