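import Mathlib
import Groth.Prelude.Def_Omega4
import Groth.Agent.Lib.Helper51.OmegaUniv.ConormalThickMono
import Groth.Agent.Lib.Helper51.ConormalIndepAlg

set_option autoImplicit false
set_option linter.style.haveILetI false
universe u
open AlgebraicGeometry CategoryTheory Limits TopologicalSpace Opposite TensorProduct OmegaSh

namespace Groth.Agent.Lib.Helper51.OmegaUniv

open Groth.Agent.Lib.Helper49 Groth.Agent.Lib.Helper49.UnitChart Groth.Agent.Lib.Helper45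
  Groth.Agent.Lib.Helper13.OmegaShYoneda Groth.Agent.Lib.Helper51.ConormalIndep

/-- If the conormal map `j^* C_{Y/X} → C_{Z/X}` has a linear retraction on sections over the chart
`j⁻¹ i⁻¹ D`, then an `H_1`-regular generating family of the ideal of `Y` on `D` stays independent
in the ideal `K` of `Z` modulo `𝔓 K`, for every ideal `𝔓 ⊇ K`. -/
theorem indep_of_conormal_retraction {X Y Z : Scheme.{u}} (i : Y ⟶ X) (j : Z ⟶ Y)
    [QuasiCompact i] [QuasiCompact (j ≫ i)]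
    {φ₁ : (Scheme.Modules.pullback j).obj (Omega.conormal i) ⟶ Omega.conormal (j ≫ i)}
    (hφ₁ : IsConormalMap (j ≫ i) i (𝟙 X) j φ₁)
    {D : X.Opens} (hD : IsAffineOpen D) (hDY : IsAffineOpen (i ⁻¹ᵁ D))
    (hW : IsAffineOpen (j ⁻¹ᵁ (i ⁻¹ᵁ D)))
    (hAC : Function.Surjective ((j ≫ i).app D).hom)
    (r : Γ(Omega.conormal (j ≫ i), j ⁻¹ᵁ (i ⁻¹ᵁ D)) →ₗ[Γ(Z, j ⁻¹ᵁ (i ⁻¹ᵁ D))]
        Γ((Scheme.Modules.pullback j).obj (Omega.conormal i), j ⁻¹ᵁ (i ⁻¹ᵁ D)))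
    (hr : ∀ m, r (φ₁.app (j ⁻¹ᵁ (i ⁻¹ᵁ D)) m) = m)
    {n : ℕ} (f : Fin n → Γ(X, D)) (hf : CAlgX.IsH1Regular f)
    (hker : RingHom.ker (i.app D).hom = Ideal.span (Set.range f))
    (𝔓 : Ideal Γ(X, D)) (hK𝔓 : RingHom.ker ((j ≫ i).app D).hom ≤ 𝔓)
    (c : Fin n → Γ(X, D))
    (hc : ∑ k, c k * f k ∈ 𝔓 * RingHom.ker ((j ≫ i).app D).hom) : ∀ k, c k ∈ 𝔓 := by
  have hWle : j ⁻¹ᵁ (i ⁻¹ᵁ D) ≤ (j ≫ i) ⁻¹ᵁ D := le_rfl
  letI : Algebra Γ(X, D) Γ(Y, i ⁻¹ᵁ D) := (i.appLE D (i ⁻¹ᵁ D) le_rfl).hom.toAlgebra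
  letI : Algebra Γ(Y, i ⁻¹ᵁ D) Γ(Z, j ⁻¹ᵁ (i ⁻¹ᵁ D)) :=
    (j.appLE (i ⁻¹ᵁ D) (j ⁻¹ᵁ (i ⁻¹ᵁ D)) le_rfl).hom.toAlgebra
  letI : Algebra Γ(X, D) Γ(Z, j ⁻¹ᵁ (i ⁻¹ᵁ D)) :=
    ((j ≫ i).appLE D (j ⁻¹ᵁ (i ⁻¹ᵁ D)) hWle).hom.toAlgebra
  haveI hqi : (Omega.conormal i).IsQuasicoherent :=
    Groth.Agent.Lib.Helper16.FlatPull.isQuasicoherent_pullback i (ClSub.idealMod i.ker)
  obtain ⟨e₀, he₀⟩ := exists_conormal_sections_equiv i hD hDY le_rfl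
  obtain ⟨e₁, he₁⟩ := exists_tensor_sections_equiv j (Omega.conormal i) hDY hW le_rfl
  obtain ⟨e₂, he₂⟩ := exists_conormal_sections_equiv (j ≫ i) hD hW hWle
  have hmapAB : ∀ a : Γ(X, D), algebraMap Γ(X, D) Γ(Y, i ⁻¹ᵁ D) a = i.app D a := by
    intro a
    change (i.appLE D (i ⁻¹ᵁ D) le_rfl).hom a = _
    rw [Scheme.Hom.appLE_eq_app]
  have hmapAC : ∀ a : Γ(X, D),
      algebraMap Γ(X, D) Γ(Z, j ⁻¹ᵁ (i ⁻¹ᵁ D)) a = (j ≫ i).app D a := by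
    intro a
    change ((j ≫ i).appLE D ((j ≫ i) ⁻¹ᵁ D) le_rfl).hom a = _
    rw [Scheme.Hom.appLE_eq_app]
  let ιS : Γ(ClSub.idealMod i.ker, D) →ₗ[Γ(X, D)] Γ(X, D) :=
    { toFun := idealSect i.ker D
      map_add' := map_add _
      map_smul' := fun a s => by rw [idealSect_smul]; rfl }
  let ιT : Γ(ClSub.idealMod (j ≫ i).ker, D) →ₗ[Γ(X, D)] Γ(X, D) :=
    { toFun := idealSect (j ≫ i).ker D
      map_add' := map_add _
      map_smul' := fun a s => by rw [idealSect_smul]; rfl }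
  have hfker : ∀ k, i.app D (f k) = 0 := by
    intro k
    have : f k ∈ RingHom.ker (i.app D).hom := by
      rw [hker]
      exact Ideal.subset_span ⟨k, rfl⟩
    exact this
  have hfker' : ∀ k, (j ≫ i).app D (f k) = 0 := by
    intro k
    change (j.app (i ⁻¹ᵁ D)) (i.app D (f k)) = 0
    rw [hfker k, map_zero]
  choose s hs using fun k => exists_idealSect_eq i hD (f k) (hfker k)
  choose t ht using fun k => exists_idealSect_eq (j ≫ i) hD (f k) (hfker' k)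
  let φ : Γ((Scheme.Modules.pullback j).obj (Omega.conormal i), j ⁻¹ᵁ (i ⁻¹ᵁ D))
      →ₗ[Γ(Z, j ⁻¹ᵁ (i ⁻¹ᵁ D))] Γ(Omega.conormal (j ≫ i), j ⁻¹ᵁ (i ⁻¹ᵁ D)) :=
    { toFun := fun m => φ₁.app (j ⁻¹ᵁ (i ⁻¹ᵁ D)) m
      map_add' := fun a b => map_add (φ₁.app (j ⁻¹ᵁ (i ⁻¹ᵁ D))).hom a b
      map_smul' := fun c m => Scheme.Modules.Hom.app_smul φ₁ c m }
  have hrange : (LinearMap.range ιT : Ideal Γ(X, D)) = RingHom.ker ((j ≫ i).app D).hom := by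
    ext x
    constructor
    · rintro ⟨tx, rfl⟩
      exact app_idealSect (j ≫ i) hD tx
    · intro hx
      obtain ⟨tx, htx⟩ := exists_idealSect_eq (j ≫ i) hD x hx
      exact ⟨tx, htx⟩
  refine coeff_mem_of_retraction ιS ιT (idealSect_injective _ _) e₀ e₁ e₂ φ r hr f hf ?_ ?_ s hs
    t ht ?_ ?_ 𝔓 ?_ c ?_
  · intro k
    rw [hmapAB]
    exact hfker k
  · intro x
    rw [← hker]
    exact app_idealSect i hD x
  · intro k
    rw [he₀, he₁, he₂, one_smul, one_smul, one_smul]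
    have h0 : (𝟙 X : X ⟶ X).app D (idealSect i.ker D (s k)) = idealSect i.ker D (s k) := by
      rw [Scheme.Hom.id_app]
      rfl
    have hs' : idealSect (j ≫ i).ker ((𝟙 X) ⁻¹ᵁ D) (t k) =
        (𝟙 X : X ⟶ X).app D (idealSect i.ker D (s k)) := by
      rw [h0, hs k]
      exact ht k
    have hgen := conormalMap_app_gen (j ≫ i) i (𝟙 X) j hφ₁ D (s k) (t k) hs'
      (j ⁻¹ᵁ (i ⁻¹ᵁ D)) le_rfl hWle
    have hid : (Omega.conormal i).presheaf.map (homOfLE (le_refl (i ⁻¹ᵁ D))).op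
        (conormalSect i D (s k)) = conormalSect i D (s k) := by
      have : (homOfLE (le_refl (i ⁻¹ᵁ D))).op = 𝟙 (op (i ⁻¹ᵁ D)) := rfl
      rw [this, CategoryTheory.Functor.map_id]
      rfl
    rw [hid]
    exact hgen
  · intro y
    obtain ⟨a, ha⟩ := hAC y
    exact ⟨a, (hmapAC a).trans ha⟩
  · intro x hx
    apply hK𝔓
    rw [RingHom.mem_ker] at hx ⊢
    rw [← hmapAC]
    exact hx
  · rw [hrange]
    exact hc

end Groth.Agent.Lib.Helper51.OmegaUniv
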