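import Mathlib
import Groth.Prelude.Def_Omega4
import Groth.Agent.Lib.Helper51.OmegaUniv.ConormalThickMono
import Groth.Agent.Lib.Helper51.ConormalIndepAlg2

set_option autoImplicit false
set_option linter.style.haveILetI false
universe u
open AlgebraicGeometry CategoryTheory Limits TopologicalSpace Opposite TensorProduct OmegaSh

namespace Groth.Agent.Lib.Helper51.OmegaUniv

open Groth.Agent.Lib.Helper49 Groth.Agent.Lib.Helper49.UnitChart Groth.Agent.Lib.Helper45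
  Groth.Agent.Lib.Helper13.OmegaShYoneda Groth.Agent.Lib.Helper51.ConormalIndep

/-- If the conormal map `j^* C_{Y/X} → C_{Z/X}` has a linear retraction on sections over the chart
`j⁻¹ i⁻¹ D`, then `I ∩ 𝔓 K ⊆ 𝔓 I` for the ideals `I ⊆ K` of `Y` and `Z` on `D` and every ideal
`𝔓 ⊇ K`. -/
theorem mem_mul_ker_of_conormal_retraction {X Y Z : Scheme.{u}} (i : Y ⟶ X) (j : Z ⟶ Y)
    [QuasiCompact i] [QuasiCompact (j ≫ i)]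
    {φ₁ : (Scheme.Modules.pullback j).obj (Omega.conormal i) ⟶ Omega.conormal (j ≫ i)}
    (hφ₁ : IsConormalMap (j ≫ i) i (𝟙 X) j φ₁)
    {D : X.Opens} (hD : IsAffineOpen D)
    (hW : IsAffineOpen (j ⁻¹ᵁ (i ⁻¹ᵁ D)))
    (hAC : Function.Surjective ((j ≫ i).app D).hom)
    (r : Γ(Omega.conormal (j ≫ i), j ⁻¹ᵁ (i ⁻¹ᵁ D)) →ₗ[Γ(Z, j ⁻¹ᵁ (i ⁻¹ᵁ D))]
        Γ((Scheme.Modules.pullback j).obj (Omega.conormal i), j ⁻¹ᵁ (i ⁻¹ᵁ D)))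
    (hr : ∀ m, r (φ₁.app (j ⁻¹ᵁ (i ⁻¹ᵁ D)) m) = m)
    (𝔓 : Ideal Γ(X, D)) (hK𝔓 : RingHom.ker ((j ≫ i).app D).hom ≤ 𝔓)
    (x : Γ(X, D)) (hxI : x ∈ RingHom.ker (i.app D).hom)
    (hx : x ∈ 𝔓 * RingHom.ker ((j ≫ i).app D).hom) :
    x ∈ 𝔓 * RingHom.ker (i.app D).hom := by
  have hWle : j ⁻¹ᵁ (i ⁻¹ᵁ D) ≤ (j ≫ i) ⁻¹ᵁ D := le_rfl
  letI : Algebra Γ(X, D) Γ(Z, j ⁻¹ᵁ (i ⁻¹ᵁ D)) :=
    ((j ≫ i).appLE D (j ⁻¹ᵁ (i ⁻¹ᵁ D)) hWle).hom.toAlgebra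
  letI : Module Γ(X, D) Γ((Scheme.Modules.pullback j).obj (Omega.conormal i), j ⁻¹ᵁ (i ⁻¹ᵁ D)) :=
    Module.compHom _ (algebraMap Γ(X, D) Γ(Z, j ⁻¹ᵁ (i ⁻¹ᵁ D)))
  haveI : IsScalarTower Γ(X, D) Γ(Z, j ⁻¹ᵁ (i ⁻¹ᵁ D))
      Γ((Scheme.Modules.pullback j).obj (Omega.conormal i), j ⁻¹ᵁ (i ⁻¹ᵁ D)) :=
    IsScalarTower.of_compHom _ _ _
  letI : Module Γ(X, D) Γ(Omega.conormal (j ≫ i), j ⁻¹ᵁ (i ⁻¹ᵁ D)) :=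
    Module.compHom _ (algebraMap Γ(X, D) Γ(Z, j ⁻¹ᵁ (i ⁻¹ᵁ D)))
  haveI : IsScalarTower Γ(X, D) Γ(Z, j ⁻¹ᵁ (i ⁻¹ᵁ D))
      Γ(Omega.conormal (j ≫ i), j ⁻¹ᵁ (i ⁻¹ᵁ D)) :=
    IsScalarTower.of_compHom _ _ _
  obtain ⟨e', he'⟩ := exists_tensor_sections_equiv (j ≫ i) (ClSub.idealMod i.ker) hD hW hWle
  obtain ⟨e₂, he₂⟩ := exists_conormal_sections_equiv (j ≫ i) hD hW hWle
  have hmapAC : ∀ a : Γ(X, D),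
      algebraMap Γ(X, D) Γ(Z, j ⁻¹ᵁ (i ⁻¹ᵁ D)) a = (j ≫ i).app D a := by
    intro a
    change ((j ≫ i).appLE D ((j ≫ i) ⁻¹ᵁ D) le_rfl).hom a = _
    rw [Scheme.Hom.appLE_eq_app]
  -- the comparison isomorphism on sections
  let κ := (Scheme.Modules.pullbackComp j i).inv.app (ClSub.idealMod i.ker)
  have hκbij : Function.Bijective (κ.app (j ⁻¹ᵁ (i ⁻¹ᵁ D))) :=
    ConcreteCategory.bijective_of_isIso (κ.app (j ⁻¹ᵁ (i ⁻¹ᵁ D)))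
  let κL : Γ((Scheme.Modules.pullback (j ≫ i)).obj (ClSub.idealMod i.ker), j ⁻¹ᵁ (i ⁻¹ᵁ D))
      ≃ₗ[Γ(Z, j ⁻¹ᵁ (i ⁻¹ᵁ D))]
      Γ((Scheme.Modules.pullback j).obj (Omega.conormal i), j ⁻¹ᵁ (i ⁻¹ᵁ D)) :=
    LinearEquiv.ofBijective
      { toFun := fun m => κ.app (j ⁻¹ᵁ (i ⁻¹ᵁ D)) m
        map_add' := fun a b => map_add (κ.app (j ⁻¹ᵁ (i ⁻¹ᵁ D))).hom a b
        map_smul' := fun c m => Scheme.Modules.Hom.app_smul κ c m } hκbij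
  let eC : Γ(Z, j ⁻¹ᵁ (i ⁻¹ᵁ D)) ⊗[Γ(X, D)] Γ(ClSub.idealMod i.ker, D)
      ≃ₗ[Γ(Z, j ⁻¹ᵁ (i ⁻¹ᵁ D))]
      Γ((Scheme.Modules.pullback j).obj (Omega.conormal i), j ⁻¹ᵁ (i ⁻¹ᵁ D)) := e' ≪≫ₗ κL
  have heC : ∀ s : Γ(ClSub.idealMod i.ker, D), eC (1 ⊗ₜ s) =
      pullSLE j (Omega.conormal i) (i ⁻¹ᵁ D) (j ⁻¹ᵁ (i ⁻¹ᵁ D)) le_rfl (conormalSect i D s) := by
    intro s
    change κ.app (j ⁻¹ᵁ (i ⁻¹ᵁ D)) (e' (1 ⊗ₜ s)) = _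
    rw [he', one_smul]
    have h1 := pullSLE_comp j i (ClSub.idealMod i.ker) D (i ⁻¹ᵁ D) (j ⁻¹ᵁ (i ⁻¹ᵁ D)) le_rfl
      le_rfl s
    have h2 : pullSLE i (ClSub.idealMod i.ker) D (i ⁻¹ᵁ D) le_rfl s = conormalSect i D s :=
      mres_self _ _
    rw [h2] at h1
    exact h1.symm
  let φ : Γ((Scheme.Modules.pullback j).obj (Omega.conormal i), j ⁻¹ᵁ (i ⁻¹ᵁ D))
      →ₗ[Γ(Z, j ⁻¹ᵁ (i ⁻¹ᵁ D))] Γ(Omega.conormal (j ≫ i), j ⁻¹ᵁ (i ⁻¹ᵁ D)) :=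
    { toFun := fun m => φ₁.app (j ⁻¹ᵁ (i ⁻¹ᵁ D)) m
      map_add' := fun a b => map_add (φ₁.app (j ⁻¹ᵁ (i ⁻¹ᵁ D))).hom a b
      map_smul' := fun c m => Scheme.Modules.Hom.app_smul φ₁ c m }
  let τ : Γ(ClSub.idealMod (j ≫ i).ker, D) →ₗ[Γ(X, D)]
      Γ(Omega.conormal (j ≫ i), j ⁻¹ᵁ (i ⁻¹ᵁ D)) :=
    (e₂.toLinearMap.restrictScalars Γ(X, D)) ∘ₗ
      (TensorProduct.mk Γ(X, D) Γ(Z, j ⁻¹ᵁ (i ⁻¹ᵁ D)) Γ(ClSub.idealMod (j ≫ i).ker, D) 1)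
  obtain ⟨sx, hsx⟩ := exists_idealSect_eq i hD x hxI
  have hxK : x ∈ RingHom.ker ((j ≫ i).app D).hom := by
    rw [RingHom.mem_ker]
    change (j.app (i ⁻¹ᵁ D)) (i.app D x) = 0
    rw [RingHom.mem_ker.mp hxI, map_zero]
  obtain ⟨tx, htx⟩ := exists_idealSect_eq (j ≫ i) hD x hxK
  -- `tx ∈ 𝔓 • ⊤`
  have htx𝔓 : tx ∈ (𝔓 • ⊤ : Submodule Γ(X, D) Γ(ClSub.idealMod (j ≫ i).ker, D)) := by
    have : ∃ t ∈ (𝔓 • ⊤ : Submodule Γ(X, D) Γ(ClSub.idealMod (j ≫ i).ker, D)),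
        idealSect (j ≫ i).ker D t = x := by
      refine Submodule.mul_induction_on hx ?_ ?_
      · intro p hp k hk
        obtain ⟨tk, rfl⟩ := exists_idealSect_eq (j ≫ i) hD k hk
        exact ⟨p • tk, Submodule.smul_mem_smul hp Submodule.mem_top, idealSect_smul _ _ _ _⟩
      · rintro _ _ ⟨t1, h1, rfl⟩ ⟨t2, h2, rfl⟩
        exact ⟨t1 + t2, Submodule.add_mem _ h1 h2, map_add _ _ _⟩
    obtain ⟨t, ht, htx'⟩ := this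
    have : t = tx := idealSect_injective _ _ (htx'.trans htx.symm)
    rw [← this]
    exact ht
  have key := mem_smul_top_of_retraction (A := Γ(X, D)) (C := Γ(Z, j ⁻¹ᵁ (i ⁻¹ᵁ D)))
    (idealSect i.ker D) (idealSect (j ≫ i).ker D) (eC.restrictScalars Γ(X, D)) τ
    (φ.restrictScalars Γ(X, D)) (r.restrictScalars Γ(X, D)) hr ?_ ?_ 𝔓 ?_ sx tx
    (hsx.trans htx.symm) htx𝔓
  · -- conclude
    have : ∃ y ∈ 𝔓 * RingHom.ker (i.app D).hom, y = idealSect i.ker D sx := by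
      refine Submodule.smul_induction_on key ?_ ?_
      · intro p hp s _
        refine ⟨_, Ideal.mul_mem_mul hp ?_, (idealSect_smul _ _ p s).symm⟩
        exact app_idealSect i hD s
      · rintro s₁ s₂ ⟨y₁, hy₁, e₁⟩ ⟨y₂, hy₂, e₂⟩
        exact ⟨y₁ + y₂, Ideal.add_mem _ hy₁ hy₂, by rw [map_add, e₁, e₂]⟩
    obtain ⟨y, hy, rfl⟩ := this
    rw [hsx] at hy
    exact hy
  · intro s t hst
    change φ₁.app (j ⁻¹ᵁ (i ⁻¹ᵁ D)) (eC (1 ⊗ₜ s)) = e₂ (1 ⊗ₜ t)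
    rw [heC, he₂, one_smul]
    have h0 : (𝟙 X : X ⟶ X).app D (idealSect i.ker D s) = idealSect i.ker D s := by
      rw [Scheme.Hom.id_app]
      rfl
    have hs' : idealSect (j ≫ i).ker ((𝟙 X) ⁻¹ᵁ D) t =
        (𝟙 X : X ⟶ X).app D (idealSect i.ker D s) := by
      rw [h0, hst]
      rfl
    exact conormalMap_app_gen (j ≫ i) i (𝟙 X) j hφ₁ D s t hs'
      (j ⁻¹ᵁ (i ⁻¹ᵁ D)) le_rfl hWle
  · intro y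
    obtain ⟨a, ha⟩ := hAC y
    exact ⟨a, (hmapAC a).trans ha⟩
  · intro y hy
    apply hK𝔓
    rw [RingHom.mem_ker] at hy ⊢
    rw [← hmapAC]
    exact hy

end Groth.Agent.Lib.Helper51.OmegaUniv
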