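import Mathlib
import Groth.Agent.Lib.Helper45.ModulesExact

set_option autoImplicit false
set_option linter.style.haveILetI false
universe u
open AlgebraicGeometry CategoryTheory Limits TopologicalSpace

namespace Groth.Agent.Lib.Helper51.OmegaUniv

/-- A section of `ψ|_U` gives linear sections of `ψ` on sections over every open `W ≤ U`. -/
theorem exists_linear_section_of_restrict {X : Scheme.{u}} {N Q : X.Modules} (ψ : N ⟶ Q)
    (U : X.Opens)
    (σ : (Scheme.Modules.restrictFunctor U.ι).obj Q ⟶ (Scheme.Modules.restrictFunctor U.ι).obj N)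
    (hσ : σ ≫ (Scheme.Modules.restrictFunctor U.ι).map ψ = 𝟙 _) (W : X.Opens) (hW : W ≤ U) :
    ∃ s : Γ(Q, W) →ₗ[Γ(X, W)] Γ(N, W), ∀ q, ψ.app W (s q) = q := by
  have hWeq : U.ι ''ᵁ (U.ι ⁻¹ᵁ W) = W := by
    rw [Scheme.Hom.image_preimage_eq_opensRange_inf, Scheme.Opens.opensRange_ι]
    exact inf_eq_right.mpr hW
  have key : ∀ W' : X.Opens, U.ι ''ᵁ (U.ι ⁻¹ᵁ W) = W' →
      ∃ s : Γ(Q, W') →ₗ[Γ(X, W')] Γ(N, W'), ∀ q, ψ.app W' (s q) = q := by
    rintro _ rfl
    refine ⟨{ toFun := fun n => (σ.app (U.ι ⁻¹ᵁ W)).hom n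
              map_add' := fun a b => map_add (σ.app (U.ι ⁻¹ᵁ W)).hom a b
              map_smul' := fun c n => ?_ }, fun m => ?_⟩
    · have h1 := Scheme.Modules.Hom.app_smul σ ((U.ι.appIso (U.ι ⁻¹ᵁ W)).hom c)
        (show Γ((Scheme.Modules.restrictFunctor U.ι).obj Q, U.ι ⁻¹ᵁ W) from n)
      have h2 : ∀ (L : X.Modules) (x : Γ(L, U.ι ''ᵁ (U.ι ⁻¹ᵁ W))),
          ((U.ι.appIso (U.ι ⁻¹ᵁ W)).hom c) •
            (show Γ((Scheme.Modules.restrictFunctor U.ι).obj L, U.ι ⁻¹ᵁ W) from x) =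
          (show Γ((Scheme.Modules.restrictFunctor U.ι).obj L, U.ι ⁻¹ᵁ W) from c • x) := by
        intro L x
        change ((U.ι.appIso (U.ι ⁻¹ᵁ W)).inv ((U.ι.appIso (U.ι ⁻¹ᵁ W)).hom c)) • x = c • x
        congr 1
        exact congr($((U.ι.appIso (U.ι ⁻¹ᵁ W)).hom_inv_id) c)
      rw [h2 Q n, h2 N] at h1
      exact h1
    · have h := congr(($hσ).app (U.ι ⁻¹ᵁ W))
      have h' := congr(($h).hom m)
      exact h'
  exact key W hWeq

/-- For a short exact sequence of modules, a linear section of the epimorphism on sections over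
`W` gives a linear retraction of the monomorphism on sections over `W`. -/
theorem exists_linear_retraction_of_shortExact_of_section {X : Scheme.{u}} {M N Q : X.Modules}
    (a : M ⟶ N) (b : N ⟶ Q) (w : a ≫ b = 0) (hex : (ShortComplex.mk a b w).ShortExact)
    (W : X.Opens) (s : Γ(Q, W) →ₗ[Γ(X, W)] Γ(N, W)) (hs : ∀ q, b.app W (s q) = q) :
    ∃ r : Γ(N, W) →ₗ[Γ(X, W)] Γ(M, W), ∀ m, r (a.app W m) = m := by
  have hmono : Mono a := hex.mono_f
  have hinj : Function.Injective (a.app W) :=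
    Groth.Agent.Lib.Helper45.app_injective_of_mono a W
  have hexact : Function.Exact (a.app W) (b.app W) :=
    Groth.Agent.Lib.Helper45.app_exact_of_shortExact _ hex W
  have hzero : ∀ m, b.app W (a.app W m) = 0 := fun m => (hexact _).2 ⟨m, rfl⟩
  have hex' : ∀ n : Γ(N, W), ∃ m : Γ(M, W), a.app W m = n - s (b.app W n) := by
    intro n
    apply (hexact _).1
    rw [map_sub, hs, sub_self]
  choose ρ hρ using hex'
  refine ⟨{ toFun := ρ, map_add' := fun x y => ?_, map_smul' := fun c x => ?_ }, fun m => ?_⟩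
  · apply hinj
    rw [map_add, hρ, hρ, hρ, map_add, map_add]
    abel
  · apply hinj
    rw [RingHom.id_apply, Scheme.Modules.Hom.app_smul, hρ, hρ, Scheme.Modules.Hom.app_smul,
      map_smul, smul_sub]
  · apply hinj
    change a.app W (ρ (a.app W m)) = a.app W m
    rw [hρ, hzero, map_zero, sub_zero]

end Groth.Agent.Lib.Helper51.OmegaUniv
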