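import Mathlib
import Groth.Prelude.Def_Omega3

set_option autoImplicit false
universe u
open CategoryTheory CategoryTheory.Limits AlgebraicGeometry TopologicalSpace Opposite

namespace Groth.Agent.Lib.Helper51.OmegaUniv
open OmegaSh

variable {X Y : Scheme.{u}}

noncomputable abbrev strAb (X : Scheme.{u}) : TopCat.Presheaf Ab X :=
  X.presheaf ⋙ forget₂ CommRingCat RingCat ⋙ forget₂ RingCat Ab

noncomputable abbrev shAb (F : X.Modules) : TopCat.Sheaf Ab X := ⟨F.presheaf, F.isSheaf⟩

/-- Sections of an `O_X`-module are equal if they agree locally. -/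
theorem section_ext (F : X.Modules) {U : X.Opens} (s t : Γ(F, U))
    (h : ∀ x ∈ U, ∃ (V : X.Opens) (hV : V ≤ U), x ∈ V ∧
      F.presheaf.map (homOfLE hV).op s = F.presheaf.map (homOfLE hV).op t) : s = t := by
  apply TopCat.Presheaf.IsSheaf.section_ext F.isSheaf
  intro x hx
  obtain ⟨V, hV, hxV, e⟩ := h x hx
  exact ⟨V, hV, hxV, e⟩

theorem der_ext {f : X ⟶ Y} {F : X.Modules} (D D' : Der f F)
    (h : ∀ (U : X.Opens) (s : Γ(X, U)), D.app U s = D'.app U s) : D = D' := by
  apply PresheafOfModules.Derivation.ext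
  funext U
  ext s
  exact h U.unop s

theorem der_app_map {f : X ⟶ Y} {F : X.Modules} (D : Der f F) {U V : X.Opens} (i : op U ⟶ op V)
    (s : Γ(X, U)) : D.app V (X.presheaf.map i s) = F.presheaf.map i (D.app U s) :=
  D.d_map i s

theorem der_app_mul {f : X ⟶ Y} {F : X.Modules} (D : Der f F) {U : X.Opens}
    (a b : Γ(X, U)) : D.app U (a * b) = a • D.app U b + b • D.app U a :=
  D.d_mul a b

theorem der_app_app {f : X ⟶ Y} {F : X.Modules} (D : Der f F) (V : Y.Opens)
    (a : Γ(Y, V)) : D.app (f ⁻¹ᵁ V) (f.app V a) = 0 :=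
  D.d_app a

theorem der_app_appLE {f : X ⟶ Y} {F : X.Modules} (D : Der f F) (V : Y.Opens) (U : X.Opens)
    (h : U ≤ f ⁻¹ᵁ V) (a : Γ(Y, V)) : D.app U (f.appLE V U h a) = 0 := by
  have e : f.appLE V U h a = X.presheaf.map (homOfLE h).op (f.app V a) := rfl
  rw [e, der_app_map, der_app_app, map_zero]

section Basis

variable {f : X ⟶ Y} {F : X.Modules} {ι : Type u} (B : ι → X.Opens)
  (hB : Opens.IsBasis (Set.range B))
  (δ : ∀ i, Γ(X, B i) →+ Γ(F, B i))
  (hres : ∀ i j (h : B j ≤ B i) (s : Γ(X, B i)),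
    δ j (X.presheaf.map (homOfLE h).op s) = F.presheaf.map (homOfLE h).op (δ i s))

noncomputable def basisHom :
    (inducedFunctor B).op ⋙ strAb X ⟶ (inducedFunctor B).op ⋙ (shAb F).1 where
  app i := AddCommGrpCat.ofHom (δ i.unop)
  naturality i j g := by
    ext s
    exact hres i.unop j.unop (leOfHom g.unop.hom) s

noncomputable def extendHom : strAb X ⟶ F.presheaf :=
  TopCat.Sheaf.restrictHomEquivHom (strAb X) (shAb F) hB (basisHom B δ hres)

theorem extendHom_app (i : ι) (s : Γ(X, B i)) :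
    (extendHom B hB δ hres).app (op (B i)) s = δ i s := by
  have := TopCat.Sheaf.extend_hom_app (strAb X) (shAb F) hB (basisHom B δ hres) i
  exact congr($this s)

theorem extendHom_res {U V : X.Opens} (h : V ≤ U) (s : Γ(X, U)) :
    (extendHom B hB δ hres).app (op V) (X.presheaf.map (homOfLE h).op s) =
      F.presheaf.map (homOfLE h).op ((extendHom B hB δ hres).app (op U) s) := by
  have := (extendHom B hB δ hres).naturality (homOfLE h).op
  exact congr($this s)

variable {κ : Type u} (C : κ → Y.Opens) (hC : Opens.IsBasis (Set.range C))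
  (hmul : ∀ i (a b : Γ(X, B i)), δ i (a * b) = a • δ i b + b • δ i a)
  (hvan : ∀ i k (h : B i ≤ f ⁻¹ᵁ C k) (a : Γ(Y, C k)), δ i (f.appLE (C k) (B i) h a) = 0)

/-- A derivation of `O_X` into a sheaf of modules, glued from data on a basis. -/
noncomputable def derOfBasis : Der f F where
  d {U} := ((extendHom B hB δ hres).app U).hom
  d_map {U V} g s := by
    have := (extendHom B hB δ hres).naturality g
    exact congr($this s)
  d_mul {U} a b := by
    obtain ⟨U⟩ := U
    apply section_ext F
    intro x hx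
    obtain ⟨_, ⟨i, rfl⟩, hxi, hle⟩ := (Opens.isBasis_iff_nbhd.mp hB) hx
    refine ⟨B i, hle, hxi, ?_⟩
    change F.presheaf.map (homOfLE hle).op ((extendHom B hB δ hres).app (op U) (a * b)) =
      F.presheaf.map (homOfLE hle).op
        (a • (extendHom B hB δ hres).app (op U) b + b • (extendHom B hB δ hres).app (op U) a)
    rw [← extendHom_res, map_mul, extendHom_app, hmul, map_add, Scheme.Modules.map_smul,
      Scheme.Modules.map_smul, ← extendHom_res, ← extendHom_res, extendHom_app, extendHom_app]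
  d_app {V} a := by
    obtain ⟨V⟩ := V
    apply section_ext F
    intro x hx
    have hfx : f x ∈ V := hx
    obtain ⟨_, ⟨k, rfl⟩, hxk, hkle⟩ := (Opens.isBasis_iff_nbhd.mp hC) hfx
    obtain ⟨_, ⟨i, rfl⟩, hxi, hle⟩ := (Opens.isBasis_iff_nbhd.mp hB)
      (show x ∈ f ⁻¹ᵁ C k from hxk)
    have hle' : B i ≤ f ⁻¹ᵁ V := hle.trans (f.preimage_mono hkle)
    refine ⟨B i, hle', hxi, ?_⟩
    change F.presheaf.map (homOfLE hle').op
      ((extendHom B hB δ hres).app (op (f ⁻¹ᵁ V)) (f.app V a)) = F.presheaf.map (homOfLE hle').op 0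
    rw [← extendHom_res, map_zero, extendHom_app]
    have : X.presheaf.map (homOfLE hle').op (f.app V a) =
        f.appLE (C k) (B i) hle (Y.presheaf.map (homOfLE hkle).op a) := by
      have e : f.app V ≫ X.presheaf.map (homOfLE hle').op =
          Y.presheaf.map (homOfLE hkle).op ≫ f.appLE (C k) (B i) hle := by
        rw [Scheme.Hom.map_appLE]
        rfl
      exact congr($e a)
    rw [this, hvan]

theorem derOfBasis_app (i : ι) (s : Γ(X, B i)) :
    (derOfBasis B hB δ hres C hC hmul hvan).app (B i) s = δ i s :=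
  extendHom_app B hB δ hres i s

include hB in
/-- Two derivations agreeing on a basis are equal. -/
theorem der_ext_of_basis (D D' : Der f F)
    (h : ∀ i (s : Γ(X, B i)), D.app (B i) s = D'.app (B i) s) : D = D' := by
  apply der_ext
  intro U s
  apply section_ext F
  intro x hx
  obtain ⟨_, ⟨i, rfl⟩, hxi, hle⟩ := (Opens.isBasis_iff_nbhd.mp hB) hx
  refine ⟨B i, hle, hxi, ?_⟩
  rw [← der_app_map, ← der_app_map, h]

end Basis

end Groth.Agent.Lib.Helper51.OmegaUniv
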