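import Mathlib
import Groth.Agent.Lib.Helper51.OmegaUniv.Conormal
import Groth.Agent.Lib.Helper51.OmegaUniv.KaehlerAlg5

set_option autoImplicit false
set_option linter.style.haveILetI false
universe u
open AlgebraicGeometry CategoryTheory Limits TopologicalSpace Opposite TensorProduct OmegaSh

namespace Groth.Agent.Lib.Helper51.OmegaUniv

open Groth.Agent.Lib.Helper49 Groth.Agent.Lib.Helper49.UnitChart Groth.Agent.Lib.Helper45

variable {X Y Z : Scheme.{u}} (f : Y ⟶ Z) (j : X ⟶ Y)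
  {ΩY : Y.Modules} {dY : Der f ΩY}
  {φ : Omega.conormal j ⟶ (Scheme.Modules.pullback j).obj ΩY}

/-- On a chart where `j` is a closed immersion, the conormal differential
`C_{X/Y} → j^*Ω_{Y/Z}` is injective on sections as soon as the algebraic map
`I/I² → A ⊗[B] Ω[B/R]` is. -/
theorem conormalDiff_app_injective_chart [QuasiCompact j] (hY : IsUniversal dY)
    (hφ : IsConormalDiff j dY φ) {U : Y.Opens} (hU : IsAffineOpen U) {V : Z.Opens}
    (hV : IsAffineOpen V) (h₁ : U ≤ f ⁻¹ᵁ V) (hW : IsAffineOpen (j ⁻¹ᵁ U))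
    (hsurj : Function.Surjective (j.app U).hom)
    (hinj : letI := (f.appLE V U h₁).hom.toAlgebra
      letI := (j.appLE U (j ⁻¹ᵁ U) le_rfl).hom.toAlgebra
      Function.Injective (KaehlerDifferential.kerCotangentToTensor Γ(Z, V) Γ(Y, U)
        Γ(X, j ⁻¹ᵁ U))) :
    Function.Injective (φ.app (j ⁻¹ᵁ U)) := by
  letI : Algebra Γ(Z, V) Γ(Y, U) := (f.appLE V U h₁).hom.toAlgebra
  letI : Algebra Γ(Y, U) Γ(X, j ⁻¹ᵁ U) := (j.appLE U (j ⁻¹ᵁ U) le_rfl).hom.toAlgebra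
  have hsurj' : Function.Surjective (algebraMap Γ(Y, U) Γ(X, j ⁻¹ᵁ U)) := by
    change Function.Surjective (j.appLE U (j ⁻¹ᵁ U) le_rfl).hom
    rw [Scheme.Hom.appLE_eq_app]
    exact hsurj
  have hker : ∀ y : Γ(Y, U), algebraMap Γ(Y, U) Γ(X, j ⁻¹ᵁ U) y = 0 ↔ j.app U y = 0 := by
    intro y
    change (j.appLE U (j ⁻¹ᵁ U) le_rfl).hom y = 0 ↔ _
    rw [Scheme.Hom.appLE_eq_app]
  obtain ⟨eN, heN⟩ := exists_conormal_sections_equiv j hU hW le_rfl
  obtain ⟨eΩ, heΩ⟩ := exists_pullback_sections_equiv j hY hU hV h₁ hW le_rfl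
  rw [injective_iff_map_eq_zero]
  intro n hn
  obtain ⟨τ, rfl⟩ := eN.surjective n
  obtain ⟨s, rfl⟩ := exists_one_tmul hsurj' τ
  rw [heN, one_smul, conormalDiff_app_res j hφ le_rfl s] at hn
  have hmem : idealSect j.ker U s ∈ RingHom.ker (algebraMap Γ(Y, U) Γ(X, j ⁻¹ᵁ U)) := by
    rw [RingHom.mem_ker, hker]
    exact app_idealSect j hU s
  have h1 : eΩ (1 ⊗ₜ KaehlerDifferential.D Γ(Z, V) Γ(Y, U) (idealSect j.ker U s)) = 0 := by
    rw [heΩ, one_smul]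
    exact hn
  have h2 : (1 : Γ(X, j ⁻¹ᵁ U)) ⊗ₜ[Γ(Y, U)]
      KaehlerDifferential.D Γ(Z, V) Γ(Y, U) (idealSect j.ker U s) = 0 :=
    eΩ.injective (h1.trans (map_zero eΩ).symm)
  have h3 : KaehlerDifferential.kerCotangentToTensor Γ(Z, V) Γ(Y, U) Γ(X, j ⁻¹ᵁ U)
      (Ideal.toCotangent _ ⟨idealSect j.ker U s, hmem⟩) = 0 := by
    rw [KaehlerDifferential.kerCotangentToTensor_toCotangent]
    exact h2
  have h4 : Ideal.toCotangent _ (⟨idealSect j.ker U s, hmem⟩ :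
      RingHom.ker (algebraMap Γ(Y, U) Γ(X, j ⁻¹ᵁ U))) = 0 :=
    hinj (h3.trans (map_zero _).symm)
  rw [Ideal.toCotangent_eq_zero] at h4
  have h5 : (1 : Γ(X, j ⁻¹ᵁ U)) ⊗ₜ[Γ(Y, U)] s = 0 :=
    KAlg.one_tmul_eq_zero_of_mem_sq (idealSect j.ker U) (idealSect_smul j.ker U)
      (idealSect_injective j.ker U)
      (fun y hy => exists_idealSect_eq j hU y ((hker y).mp hy)) s h4
  rw [h5, map_zero]

end Groth.Agent.Lib.Helper51.OmegaUniv
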