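import Mathlib
import Groth.Agent.Lib.Helper51.OmegaUniv.ConormalComp

set_option autoImplicit false
set_option linter.style.haveILetI false
universe u
open AlgebraicGeometry CategoryTheory Limits TopologicalSpace Opposite

namespace Groth.Agent.Lib.Helper51.OmegaUniv

/-- Ring level: in a pushout square of commutative rings with one leg `π` surjective, the kernel
of the opposite leg is contained in the extension of `ker π`. -/
theorem ker_le_map_of_isPushout {A B C D : CommRingCat.{u}} {φ : A ⟶ B} {π : A ⟶ C}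
    {β : B ⟶ D} {γ : C ⟶ D} (h : IsPushout φ π β γ) (hπ : Function.Surjective π.hom) :
    RingHom.ker β.hom ≤ (RingHom.ker π.hom).map φ.hom := by
  set J : Ideal B := (RingHom.ker π.hom).map φ.hom with hJ
  have hle : RingHom.ker π.hom ≤ RingHom.ker ((Ideal.Quotient.mk J).comp φ.hom) := by
    intro a ha
    rw [RingHom.mem_ker, RingHom.comp_apply, Ideal.Quotient.eq_zero_iff_mem]
    exact Ideal.mem_map_of_mem _ ha
  let ψ : C →+* B ⧸ J := RingHom.liftOfSurjective π.hom hπ ⟨_, hle⟩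
  have hψ : ψ.comp π.hom = (Ideal.Quotient.mk J).comp φ.hom :=
    RingHom.liftOfRightInverse_comp _ _ _ _
  have hcomm : φ ≫ CommRingCat.ofHom (Ideal.Quotient.mk J) = π ≫ CommRingCat.ofHom ψ := by
    ext x
    exact (congr($hψ x)).symm
  have hβ : β ≫ h.desc _ _ hcomm = CommRingCat.ofHom (Ideal.Quotient.mk J) := h.inl_desc _ _ _
  intro b hb
  have : (β ≫ h.desc _ _ hcomm).hom b = 0 := by
    rw [CommRingCat.hom_comp, RingHom.comp_apply, (RingHom.mem_ker).mp hb, map_zero]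
  rw [hβ] at this
  exact Ideal.Quotient.eq_zero_iff_mem.mp this

/-- In a cartesian square of schemes with `i` a closed immersion, the ideal of the base change
`j` of `i` is generated, over affine charts, by the pullback of the ideal of `i`. -/
theorem ker_app_le_map_of_isPullback {Q P Z Z' : Scheme.{u}} {j : Q ⟶ P} {q : Q ⟶ Z}
    {p : P ⟶ Z'} {i : Z ⟶ Z'} [IsClosedImmersion i] (H : IsPullback j q p i)
    {W : P.Opens} (hW : IsAffineOpen W) {V : Z'.Opens} (hV : IsAffineOpen V)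
    (hWV : W ≤ p ⁻¹ᵁ V) :
    RingHom.ker (j.app W).hom ≤ (RingHom.ker (i.app V).hom).map (p.appLE V W hWV).hom := by
  have hiV : IsAffineOpen (i ⁻¹ᵁ V) := hV.preimage i
  have hpo := (isIso_pushoutSection_iff H (le_refl (i ⁻¹ᵁ V)) hWV rfl).mp
    (isIso_pushoutSection_of_isAffineOpen H (le_refl (i ⁻¹ᵁ V)) hWV rfl hV hiV hW)
  have hsurj : Function.Surjective (i.appLE V (i ⁻¹ᵁ V) le_rfl).hom := by
    rw [Scheme.Hom.appLE_eq_app]
    exact i.app_surjective V hV
  have h1 := ker_le_map_of_isPushout hpo hsurj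
  have hle : j ⁻¹ᵁ W ⊓ q ⁻¹ᵁ (i ⁻¹ᵁ V) ≤ j ⁻¹ᵁ W := inf_le_left
  have heq : j ⁻¹ᵁ W ⊓ q ⁻¹ᵁ (i ⁻¹ᵁ V) = j ⁻¹ᵁ W := by
    apply le_antisymm hle
    intro x hx
    refine ⟨hx, ?_⟩
    change i (q x) ∈ V
    rw [← Scheme.Hom.comp_apply, ← H.w, Scheme.Hom.comp_apply]
    exact hWV hx
  intro x hx
  have hx' : (j.appLE W (j ⁻¹ᵁ W ⊓ q ⁻¹ᵁ (i ⁻¹ᵁ V)) hle).hom x = 0 := by
    change (Q.presheaf.map (homOfLE hle).op).hom ((j.app W).hom x) = 0
    rw [RingHom.mem_ker.mp hx, map_zero]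
  have h2 := h1 (RingHom.mem_ker.mpr hx')
  rw [Scheme.Hom.appLE_eq_app] at h2
  exact h2

end Groth.Agent.Lib.Helper51.OmegaUniv
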