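import Mathlib
import Groth.Agent.Lib.Helper51.OmegaUniv.ConormalTriple2
import Groth.Agent.Lib.Helper51.OmegaUniv.PullbackKer
import Groth.Agent.Lib.Helper51.OmegaUniv.ExactCover

set_option autoImplicit false
set_option linter.style.haveILetI false
universe u
open AlgebraicGeometry CategoryTheory Limits TopologicalSpace Opposite TensorProduct OmegaSh

namespace Groth.Agent.Lib.Helper51.OmegaUniv

open Groth.Agent.Lib.Helper49 Groth.Agent.Lib.Helper49.UnitChart Groth.Agent.Lib.Helper45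
  Groth.Agent.Lib.Helper13.OmegaShYoneda

section PullbackTriple

variable {Z Z'' Z' Y Y' : Scheme.{u}} (jY : Y ⟶ Y') (m : Z' ⟶ Y') (e : Z'' ⟶ Y) (n : Z'' ⟶ Z')
  (i'' : Z ⟶ Z'') (i : Z ⟶ Y)
  {ψ₁ : (Scheme.Modules.pullback i).obj (Omega.conormal jY) ⟶ Omega.conormal (i'' ≫ n)}
  {ψ₂ : (Scheme.Modules.pullback (𝟙 Z)).obj (Omega.conormal (i'' ≫ n)) ⟶ Omega.conormal i''}

/-- The composite `i^* C_{Y/Y'} → C_{Z/Z'} → C_{Z/Z''}` vanishes when `Z'' → Z'` is the base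
change of `Y → Y'`. -/
theorem conormal_pullback_triple_comp_zero [IsClosedImmersion jY] [IsClosedImmersion i'']
    (hpb : IsPullback n e m jY)
    (hψ₁ : IsConormalMap (i'' ≫ n) jY m i ψ₁)
    (hψ₂ : IsConormalMap i'' (i'' ≫ n) n (𝟙 Z) ψ₂) :
    ψ₁ ≫ ((Scheme.Modules.pullbackId Z).inv.app (Omega.conormal (i'' ≫ n)) ≫ ψ₂) = 0 := by
  haveI : IsClosedImmersion n := MorphismProperty.of_isPullback hpb.flip inferInstance
  have hsq : (i'' ≫ n) ≫ m = i ≫ jY := hψ₁.1.symm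
  apply pullback_pullback_hom_ext i jY
  intro V s'
  have hia : (i'' ≫ n).app (m ⁻¹ᵁ V) (m.app V (idealSect jY.ker V s')) = 0 := by
    have h0 : ((i'' ≫ n) ≫ m).app V (idealSect jY.ker V s') = 0 := by
      apply app_eq_zero_of_eq hsq V
      change i.app (jY ⁻¹ᵁ V) (jY.app V (idealSect jY.ker V s')) = 0
      rw [app_idealSect' jY V s', map_zero]
    exact h0
  obtain ⟨sb, hsb⟩ := exists_idealSect_eq' (i'' ≫ n) (m ⁻¹ᵁ V) _ hia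
  have h₁ : i ⁻¹ᵁ (jY ⁻¹ᵁ V) ≤ i ⁻¹ᵁ (jY ⁻¹ᵁ V) := le_rfl
  have h₂ : i ⁻¹ᵁ (jY ⁻¹ᵁ V) ≤ (i'' ≫ n) ⁻¹ᵁ (m ⁻¹ᵁ V) := by
    intro y hy
    change m ((i'' ≫ n) y) ∈ V
    rw [← Scheme.Hom.comp_apply, hsq]
    exact hy
  have e1 := conormalMap_app_gen (i'' ≫ n) jY m i hψ₁ V s' sb hsb (i ⁻¹ᵁ (jY ⁻¹ᵁ V)) h₁ h₂
  have hn0 : n.app (m ⁻¹ᵁ V) (idealSect (i'' ≫ n).ker (m ⁻¹ᵁ V) sb) = 0 := by
    rw [hsb]
    have h0 : (n ≫ m).app V (idealSect jY.ker V s') = 0 := by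
      apply app_eq_zero_of_eq hpb.w V
      change e.app (jY ⁻¹ᵁ V) (jY.app V (idealSect jY.ker V s')) = 0
      rw [app_idealSect' jY V s', map_zero]
    exact h0
  have ht : idealSect i''.ker (n ⁻¹ᵁ (m ⁻¹ᵁ V)) 0 =
      n.app (m ⁻¹ᵁ V) (idealSect (i'' ≫ n).ker (m ⁻¹ᵁ V) sb) := by
    rw [hn0, map_zero]
  have e2 := conormalMap₂_app n i'' hψ₂ (m ⁻¹ᵁ V) sb 0 ht (i ⁻¹ᵁ (jY ⁻¹ᵁ V)) h₂
  refine Eq.trans (?_ : _ = ((Scheme.Modules.pullbackId Z).inv.app (Omega.conormal (i'' ≫ n)) ≫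
    ψ₂).app (i ⁻¹ᵁ (jY ⁻¹ᵁ V)) (ψ₁.app (i ⁻¹ᵁ (jY ⁻¹ᵁ V))
      (pullSLE i (Omega.conormal jY) (jY ⁻¹ᵁ V) (i ⁻¹ᵁ (jY ⁻¹ᵁ V)) h₁
        (conormalSect jY V s')))) ?_
  · have : pullSLE i (Omega.conormal jY) (jY ⁻¹ᵁ V) (i ⁻¹ᵁ (jY ⁻¹ᵁ V)) h₁
        (conormalSect jY V s') =
        pullSect i (Omega.conormal jY) (jY ⁻¹ᵁ V) (conormalSect jY V s') := mres_self _ _
    rw [this]
    rfl
  · rw [e1, e2, map_zero, map_zero]
    rfl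

/-- Chart-level exactness of `i^* C_{Y/Y'} → C_{Z/Z'} → C_{Z/Z''} → 0`. -/
theorem conormal_pullback_triple_chart [IsClosedImmersion jY] [IsClosedImmersion i'']
    (hpb : IsPullback n e m jY)
    (hψ₁ : IsConormalMap (i'' ≫ n) jY m i ψ₁)
    (hψ₂ : IsConormalMap i'' (i'' ≫ n) n (𝟙 Z) ψ₂)
    {VY' : Y'.Opens} (hVY' : IsAffineOpen VY') {V : Z'.Opens} (hV : IsAffineOpen V)
    (hVV : V ≤ m ⁻¹ᵁ VY') :
    IsAffineOpen (i'' ⁻¹ᵁ (n ⁻¹ᵁ V)) ∧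
    Function.Surjective (((Scheme.Modules.pullbackId Z).inv.app (Omega.conormal (i'' ≫ n)) ≫
        ψ₂).app (i'' ⁻¹ᵁ (n ⁻¹ᵁ V))) ∧
      ∀ x : Γ(Omega.conormal (i'' ≫ n), i'' ⁻¹ᵁ (n ⁻¹ᵁ V)),
        ((Scheme.Modules.pullbackId Z).inv.app (Omega.conormal (i'' ≫ n)) ≫
          ψ₂).app (i'' ⁻¹ᵁ (n ⁻¹ᵁ V)) x = 0 → ∃ μ, ψ₁.app (i'' ⁻¹ᵁ (n ⁻¹ᵁ V)) μ = x := by
  haveI : IsClosedImmersion n := MorphismProperty.of_isPullback hpb.flip inferInstance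
  have hsq : (i'' ≫ n) ≫ m = i ≫ jY := hψ₁.1.symm
  have hU : IsAffineOpen (n ⁻¹ᵁ V) := hV.preimage n
  have hAB : Function.Surjective (n.app V).hom := n.app_surjective V hV
  have hW : IsAffineOpen (i'' ⁻¹ᵁ (n ⁻¹ᵁ V)) := hU.preimage i''
  have hAC : Function.Surjective ((i'' ≫ n).app V).hom := (i'' ≫ n).app_surjective V hV
  obtain ⟨hs, hk⟩ := conormal_triple_chart₂ n i'' hψ₂ hV hU hAB hW hAC
  refine ⟨hW, hs, ?_⟩
  intro x hx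
  obtain ⟨sx, hsx0, rfl⟩ := hk x hx
  have hle : i'' ⁻¹ᵁ (n ⁻¹ᵁ V) ≤ (i'' ≫ n) ⁻¹ᵁ V := le_rfl
  letI : Algebra Γ(Z', V) Γ(Z, i'' ⁻¹ᵁ (n ⁻¹ᵁ V)) :=
    ((i'' ≫ n).appLE V (i'' ⁻¹ᵁ (n ⁻¹ᵁ V)) hle).hom.toAlgebra
  obtain ⟨eN, heN⟩ := exists_conormal_sections_equiv (i'' ≫ n) hV hW hle
  have hmem : idealSect (i'' ≫ n).ker V sx ∈
      (RingHom.ker (jY.app VY').hom).map (m.appLE VY' V hVV).hom :=
    ker_app_le_map_of_isPullback hpb hV hVY' hVV (RingHom.mem_ker.mpr hsx0)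
  have h₁ : i'' ⁻¹ᵁ (n ⁻¹ᵁ V) ≤ i ⁻¹ᵁ (jY ⁻¹ᵁ VY') := by
    intro y hy
    change jY (i y) ∈ VY'
    rw [← Scheme.Hom.comp_apply, ← hsq]
    exact hVV hy
  have h₂ : i'' ⁻¹ᵁ (n ⁻¹ᵁ V) ≤ (i'' ≫ n) ⁻¹ᵁ (m ⁻¹ᵁ VY') := fun y hy => hVV hy
  have hP : ∀ y' ∈ (RingHom.ker (jY.app VY').hom).map (m.appLE VY' V hVV).hom,
      ∃ n' : Γ(ClSub.idealMod (i'' ≫ n).ker, V), idealSect (i'' ≫ n).ker V n' = y' ∧
        ∃ μ, ψ₁.app (i'' ⁻¹ᵁ (n ⁻¹ᵁ V)) μ = eN (1 ⊗ₜ n') := by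
    intro y' hy'
    refine Submodule.span_induction ?_ ?_ ?_ ?_ hy'
    · rintro _ ⟨y, hy, rfl⟩
      have hy0 : jY.app VY' y = 0 := RingHom.mem_ker.mp hy
      obtain ⟨s', hs'⟩ := exists_idealSect_eq jY hVY' y hy0
      have hia : (i'' ≫ n).app (m ⁻¹ᵁ VY') (m.app VY' y) = 0 := by
        have h0 : ((i'' ≫ n) ≫ m).app VY' y = 0 := by
          apply app_eq_zero_of_eq hsq VY'
          change i.app (jY ⁻¹ᵁ VY') (jY.app VY' y) = 0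
          rw [hy0, map_zero]
        exact h0
      obtain ⟨sb, hsb⟩ := exists_idealSect_eq' (i'' ≫ n) (m ⁻¹ᵁ VY') _ hia
      refine ⟨(ClSub.idealMod (i'' ≫ n).ker).presheaf.map (homOfLE hVV).op sb, ?_, ?_⟩
      · rw [idealSect_map, hsb]
        rfl
      · refine ⟨_, (conormalMap_app_gen (i'' ≫ n) jY m i hψ₁ VY' s' sb (by rw [hsb, hs'])
          (i'' ⁻¹ᵁ (n ⁻¹ᵁ V)) h₁ h₂).trans ?_⟩
        rw [heN, one_smul, conormalSect_map (i'' ≫ n) hVV sb, conormal_res_res]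
    · exact ⟨0, map_zero _, 0, by rw [tmul_zero, map_zero, map_zero]⟩
    · rintro x y _ _ ⟨nx, hnx, mx, hmx⟩ ⟨ny, hny, my, hmy⟩
      exact ⟨nx + ny, by rw [map_add, hnx, hny], mx + my,
        by rw [map_add, hmx, hmy, tmul_add, map_add]⟩
    · rintro b x _ ⟨nx, hnx, mx, hmx⟩
      refine ⟨b • nx, by rw [idealSect_smul, hnx, smul_eq_mul],
        algebraMap Γ(Z', V) Γ(Z, i'' ⁻¹ᵁ (n ⁻¹ᵁ V)) b • mx, ?_⟩
      have hten : (1 : Γ(Z, i'' ⁻¹ᵁ (n ⁻¹ᵁ V))) ⊗ₜ[Γ(Z', V)] (b • nx) =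
          algebraMap Γ(Z', V) Γ(Z, i'' ⁻¹ᵁ (n ⁻¹ᵁ V)) b •
            ((1 : Γ(Z, i'' ⁻¹ᵁ (n ⁻¹ᵁ V))) ⊗ₜ[Γ(Z', V)] nx) := by
        rw [TensorProduct.smul_tmul', ← TensorProduct.smul_tmul, Algebra.smul_def, mul_one,
          smul_eq_mul, mul_one]
      rw [Scheme.Modules.Hom.app_smul, hmx, hten, map_smul]
  obtain ⟨n', hn'1, μ, hμ⟩ := hP _ hmem
  have : n' = sx := idealSect_injective (i'' ≫ n).ker V hn'1
  subst this
  refine ⟨μ, hμ.trans ?_⟩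
  rw [heN, one_smul]

/-- `i^* C_{Y/Y'} → C_{Z/Z'} → C_{Z/Z''} → 0` is exact when `Z'' → Z'` is the base change of the
closed immersion `Y → Y'` along `Z' → Y'`. -/
theorem conormal_pullback_triple [IsClosedImmersion jY] [IsClosedImmersion i'']
    (hpb : IsPullback n e m jY)
    (hψ₁ : IsConormalMap (i'' ≫ n) jY m i ψ₁)
    (hψ₂ : IsConormalMap i'' (i'' ≫ n) n (𝟙 Z) ψ₂) :
    ∃ w : ψ₁ ≫ ((Scheme.Modules.pullbackId Z).inv.app (Omega.conormal (i'' ≫ n)) ≫ ψ₂) = 0,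
      (ShortComplex.mk _ _ w).Exact ∧ Epi ψ₂ := by
  haveI : IsClosedImmersion n := MorphismProperty.of_isPullback hpb.flip inferInstance
  have hqj : (Omega.conormal jY).IsQuasicoherent :=
    Groth.Agent.Lib.Helper16.FlatPull.isQuasicoherent_pullback jY (ClSub.idealMod jY.ker)
  have hq₁ : ((Scheme.Modules.pullback i).obj (Omega.conormal jY)).IsQuasicoherent :=
    Groth.Agent.Lib.Helper16.FlatPull.isQuasicoherent_pullback i (Omega.conormal jY)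
  have hq₂ : (Omega.conormal (i'' ≫ n)).IsQuasicoherent :=
    Groth.Agent.Lib.Helper16.FlatPull.isQuasicoherent_pullback (i'' ≫ n)
      (ClSub.idealMod (i'' ≫ n).ker)
  have hq₂' : ((𝟭 Z.Modules).obj (Omega.conormal (i'' ≫ n))).IsQuasicoherent := hq₂
  have hq₃ : (Omega.conormal i'').IsQuasicoherent :=
    Groth.Agent.Lib.Helper16.FlatPull.isQuasicoherent_pullback i'' (ClSub.idealMod i''.ker)
  have w := conormal_pullback_triple_comp_zero jY m e n i'' i hpb hψ₁ hψ₂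
  have chart : ∀ z : Z, ∃ W : Z.Opens, IsAffineOpen W ∧ z ∈ W ∧
      Function.Surjective (((Scheme.Modules.pullbackId Z).inv.app (Omega.conormal (i'' ≫ n)) ≫
        ψ₂).app W) ∧
      ∀ x : Γ(Omega.conormal (i'' ≫ n), W),
        ((Scheme.Modules.pullbackId Z).inv.app (Omega.conormal (i'' ≫ n)) ≫ ψ₂).app W x = 0 →
          ∃ μ, ψ₁.app W μ = x := by
    intro z
    obtain ⟨VY', hVY', hzVY', -⟩ := exists_isAffineOpen_mem_and_subset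
      (x := m ((i'' ≫ n) z)) (U := ⊤) trivial
    obtain ⟨V, hV, hzV, hVV⟩ := exists_isAffineOpen_mem_and_subset
      (x := (i'' ≫ n) z) (U := m ⁻¹ᵁ VY') hzVY'
    obtain ⟨hW, hs, hk⟩ := conormal_pullback_triple_chart jY m e n i'' i hpb hψ₁ hψ₂ hVY' hV hVV
    exact ⟨i'' ⁻¹ᵁ (n ⁻¹ᵁ V), hW, hzV, hs, hk⟩
  refine ⟨w, ?_, ?_⟩
  · apply exact_of_app_exact_of_cover
    intro z
    obtain ⟨W, hW, hzW, -, hk⟩ := chart z
    exact ⟨W, hW, hzW, hk⟩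
  · have hepi : Epi ((Scheme.Modules.pullbackId Z).inv.app (Omega.conormal (i'' ≫ n)) ≫ ψ₂) := by
      apply epi_of_app_surjective_of_cover
      intro z
      obtain ⟨W, hW, hzW, hs, -⟩ := chart z
      exact ⟨W, hW, hzW, hs⟩
    exact epi_of_epi ((Scheme.Modules.pullbackId Z).inv.app (Omega.conormal (i'' ≫ n))) ψ₂

end PullbackTriple

end Groth.Agent.Lib.Helper51.OmegaUniv
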