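import Mathlib
import Groth.Agent.Lib.Helper51.OmegaUniv.Conormal
import Groth.Agent.Lib.Helper51.OmegaUniv.KaehlerAlg2

set_option autoImplicit false
set_option linter.style.haveILetI false
universe u
open AlgebraicGeometry CategoryTheory Limits TopologicalSpace Opposite TensorProduct OmegaSh

namespace Groth.Agent.Lib.Helper51.OmegaUniv

open Groth.Agent.Lib.Helper49 Groth.Agent.Lib.Helper49.UnitChart Groth.Agent.Lib.Helper45

variable {X Y Z : Scheme.{u}} (f : Y ⟶ Z) (j : X ⟶ Y)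
  {ΩY : Y.Modules} {dY : Der f ΩY} {ΩX : X.Modules} {dX : Der (j ≫ f) ΩX}
  {φ : Omega.conormal j ⟶ (Scheme.Modules.pullback j).obj ΩY}
  {c : (Scheme.Modules.pullback j).obj ΩY ⟶ ΩX}

/-- `C_{X/Y} → j^*Ω_{Y/Z} → Ω_{X/Z}` is a complex. -/
theorem conormal_comp_zero (hφ : IsConormalDiff j dY φ) (hc : IsDiffCompat j dY dX c) :
    φ ≫ c = 0 := by
  apply pullback_hom_ext j
  intro U s
  refine Eq.trans (?_ : _ = c.app (j ⁻¹ᵁ U) (φ.app (j ⁻¹ᵁ U) (conormalSect j U s))) ?_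
  · rfl
  · rw [hφ U s, hc U, app_idealSect' j U s, map_zero]
    rfl

/-- Around every point there is an affine chart on which `c` is surjective on sections and the
sequence `C_{X/Y} → j^*Ω_{Y/Z} → Ω_{X/Z}` is exact on sections. -/
theorem conormal_seq_chart [IsImmersion j] [QuasiCompact j] (hY : IsUniversal dY)
    (hX : IsUniversal dX) (hφ : IsConormalDiff j dY φ) (hc : IsDiffCompat j dY dX c) (x : X) :
    ∃ W : X.Opens, IsAffineOpen W ∧ x ∈ W ∧ Function.Surjective (c.app W) ∧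
      ∀ t : Γ((Scheme.Modules.pullback j).obj ΩY, W), c.app W t = 0 → ∃ n, φ.app W n = t := by
  obtain ⟨V, hV, hxV, -⟩ := exists_isAffineOpen_mem_and_subset (x := f (j x)) (U := ⊤) trivial
  obtain ⟨U, hU, hxU, h₁, hW, hsurj⟩ := exists_closedImm_chart j x (f ⁻¹ᵁ V) hxV
  have h₂ : j ⁻¹ᵁ U ≤ (j ≫ f) ⁻¹ᵁ V := fun y hy => h₁ hy
  obtain ⟨e, e₂, L, he, hL, he₂, hsq⟩ :=
    exists_chart_square' j hY hX hc hU hV h₁ hW hV h₂ le_rfl
  refine ⟨j ⁻¹ᵁ U, hW, hxU, ?_, ?_⟩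
  all_goals
    letI : Algebra Γ(Z, V) Γ(Y, U) := (f.appLE V U h₁).hom.toAlgebra
    letI : Algebra Γ(Z, V) Γ(X, j ⁻¹ᵁ U) := ((j ≫ f).appLE V (j ⁻¹ᵁ U) h₂).hom.toAlgebra
    letI : Algebra Γ(Y, U) Γ(X, j ⁻¹ᵁ U) := (j.appLE U (j ⁻¹ᵁ U) le_rfl).hom.toAlgebra
    haveI : IsScalarTower Γ(Z, V) Γ(Y, U) Γ(X, j ⁻¹ᵁ U) := by
      refine IsScalarTower.of_algebraMap_eq' ?_
      change ((j ≫ f).appLE V (j ⁻¹ᵁ U) h₂).hom =
        (f.appLE V U h₁ ≫ j.appLE U (j ⁻¹ᵁ U) le_rfl).hom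
      rw [Scheme.Hom.appLE_comp_appLE]
    have hsurj' : Function.Surjective (algebraMap Γ(Y, U) Γ(X, j ⁻¹ᵁ U)) := by
      change Function.Surjective (j.appLE U (j ⁻¹ᵁ U) le_rfl).hom
      rw [Scheme.Hom.appLE_eq_app]
      exact hsurj
    have hLeq := KAlg.eq_mapBaseChange L hL
  · intro z
    obtain ⟨ω, rfl⟩ := e₂.surjective z
    obtain ⟨τ, hτ⟩ := KaehlerDifferential.mapBaseChange_surjective Γ(Z, V) Γ(Y, U)
      Γ(X, j ⁻¹ᵁ U) hsurj' ω
    exact ⟨e τ, by rw [hsq, hLeq, hτ]⟩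
  · intro t ht
    obtain ⟨τ, rfl⟩ := e.surjective t
    rw [hsq] at ht
    have hτ : L τ = 0 := e₂.injective (ht.trans (map_zero e₂).symm)
    rw [hLeq] at hτ
    obtain ⟨κ, hκ⟩ := (KaehlerDifferential.exact_kerCotangentToTensor_mapBaseChange Γ(Z, V)
      Γ(Y, U) Γ(X, j ⁻¹ᵁ U) hsurj' τ).mp hτ
    obtain ⟨y, rfl⟩ := Ideal.toCotangent_surjective _ κ
    rw [KaehlerDifferential.kerCotangentToTensor_toCotangent] at hκ
    have hy : j.app U y.1 = 0 := by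
      have := y.2
      rw [RingHom.mem_ker] at this
      change (j.appLE U (j ⁻¹ᵁ U) le_rfl).hom y.1 = 0 at this
      rw [Scheme.Hom.appLE_eq_app] at this
      exact this
    obtain ⟨s, hs⟩ := exists_idealSect_eq j hU y.1 hy
    refine ⟨(Omega.conormal j).presheaf.map (homOfLE le_rfl).op (conormalSect j U s), ?_⟩
    rw [conormalDiff_app_res j hφ le_rfl s, hs, ← hκ, he, one_smul]

end Groth.Agent.Lib.Helper51.OmegaUniv
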