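import Mathlib
import Groth.Prelude.Def_Omega4
import Groth.Agent.Lib.Helper51.OmegaUniv.ConormalMono

set_option autoImplicit false
set_option linter.style.haveILetI false
universe u
open AlgebraicGeometry CategoryTheory Limits TopologicalSpace Opposite TensorProduct OmegaSh

namespace Groth.Agent.Lib.Helper51.OmegaUniv

open Groth.Agent.Lib.Helper49 Groth.Agent.Lib.Helper49.UnitChart Groth.Agent.Lib.Helper45
  Groth.Agent.Lib.Helper13.OmegaShYoneda

section Split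

variable {Z X Y : Scheme.{u}} (p : X ⟶ Y) (i : Z ⟶ X) (j : Z ⟶ Y)
  {ψ : (Scheme.Modules.pullback (𝟙 Z)).obj (Omega.conormal j) ⟶ Omega.conormal i}

/-- On adapted charts where `p♯ : Γ(Y, V) → Γ(X, U)` has a ring retraction `l` compatible with the
projections to `Γ(Z, W)`, the map of conormal sheaves `ψ : C_{Z/Y} → C_{Z/X}` has a linear
retraction on sections over `W`. -/
theorem conormalMap_retraction_chart [QuasiCompact i] [QuasiCompact j] (hij : i ≫ p = j)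
    (hψ : IsConormalMap i j p (𝟙 Z) ψ)
    {V : Y.Opens} (hV : IsAffineOpen V) {U : X.Opens} (hU : IsAffineOpen U)
    (h₁ : U ≤ p ⁻¹ᵁ V) (hWW : i ⁻¹ᵁ U = j ⁻¹ᵁ V)
    (hW : IsAffineOpen (j ⁻¹ᵁ V))
    (hsurjA : Function.Surjective (j.app V).hom)
    (l : Γ(X, U) →+* Γ(Y, V))
    (hl₁ : ∀ y, l (p.appLE V U h₁ y) = y)
    (hl₂ : ∀ x, j.app V (l x) = i.appLE U (j ⁻¹ᵁ V) hWW.ge x) :
    ∃ ρ : Γ(Omega.conormal i, j ⁻¹ᵁ V) →ₗ[Γ(Z, j ⁻¹ᵁ V)]
        Γ((Scheme.Modules.pullback (𝟙 Z)).obj (Omega.conormal j), j ⁻¹ᵁ V),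
      ∀ m, ρ (ψ.app (j ⁻¹ᵁ V) m) = m := by
  have hWle : j ⁻¹ᵁ V ≤ i ⁻¹ᵁ U := hWW.ge
  letI : Algebra Γ(X, U) Γ(Z, j ⁻¹ᵁ V) := (i.appLE U (j ⁻¹ᵁ V) hWle).hom.toAlgebra
  letI : Algebra Γ(Y, V) Γ(Z, j ⁻¹ᵁ V) := (j.appLE V (j ⁻¹ᵁ V) le_rfl).hom.toAlgebra
  have hAC : Function.Surjective (algebraMap Γ(Y, V) Γ(Z, j ⁻¹ᵁ V)) := by
    change Function.Surjective (j.appLE V (j ⁻¹ᵁ V) le_rfl).hom
    rw [Scheme.Hom.appLE_eq_app]
    exact hsurjA
  obtain ⟨eNj, heNj⟩ := exists_conormal_sections_equiv j hV hW le_rfl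
  obtain ⟨eNi, heNi⟩ := exists_conormal_sections_equiv i hU hW hWle
  -- the induced map on ideal sections
  have hlt : ∀ n : Γ(ClSub.idealMod i.ker, U), ∃ s : Γ(ClSub.idealMod j.ker, V),
      idealSect j.ker V s = l (idealSect i.ker U n) := by
    intro n
    apply exists_idealSect_eq j hV
    rw [hl₂]
    change (Z.presheaf.map (homOfLE hWle).op).hom ((i.app U).hom (idealSect i.ker U n)) = 0
    have : (i.app U).hom (idealSect i.ker U n) = 0 := app_idealSect i hU n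
    rw [this, map_zero]
  choose lt hlt using hlt
  have lt_add : ∀ n n', lt (n + n') = lt n + lt n' := by
    intro n n'
    apply idealSect_injective j.ker V
    rw [hlt, map_add, map_add, map_add, hlt, hlt]
  have lt_smul : ∀ (b : Γ(X, U)) n, lt (b • n) = l b • lt n := by
    intro b n
    apply idealSect_injective j.ker V
    rw [hlt, idealSect_smul, idealSect_smul, map_mul, hlt]
  letI : Module Γ(X, U) Γ((Scheme.Modules.pullback (𝟙 Z)).obj (Omega.conormal j), j ⁻¹ᵁ V) :=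
    Module.compHom _ (algebraMap Γ(X, U) Γ(Z, j ⁻¹ᵁ V))
  haveI : IsScalarTower Γ(X, U) Γ(Z, j ⁻¹ᵁ V)
      Γ((Scheme.Modules.pullback (𝟙 Z)).obj (Omega.conormal j), j ⁻¹ᵁ V) :=
    IsScalarTower.of_compHom _ _ _
  have cs_add : ∀ s t : Γ(ClSub.idealMod j.ker, V),
      (conormalSect j V (s + t) : Γ(Omega.conormal j, j ⁻¹ᵁ V)) =
        conormalSect j V s + conormalSect j V t := fun s t => map_add _ s t
  have cs_smul : ∀ (r : Γ(Y, V)) (s : Γ(ClSub.idealMod j.ker, V)),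
      (conormalSect j V (r • s) : Γ(Omega.conormal j, j ⁻¹ᵁ V)) =
        (j.appLE V (j ⁻¹ᵁ V) le_rfl).hom r • (conormalSect j V s : Γ(Omega.conormal j, j ⁻¹ᵁ V)) := by
    intro r s
    have h := pullSLE_smul j (ClSub.idealMod j.ker) V (j ⁻¹ᵁ V) le_rfl r s
    have e1 : ∀ t, pullSLE j (ClSub.idealMod j.ker) V (j ⁻¹ᵁ V) le_rfl t = conormalSect j V t :=
      fun t => mres_self _ _
    rw [e1, e1] at h
    exact h
  let g : Γ(ClSub.idealMod i.ker, U) →ₗ[Γ(X, U)]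
      Γ((Scheme.Modules.pullback (𝟙 Z)).obj (Omega.conormal j), j ⁻¹ᵁ V) :=
    { toFun := fun n => ((Scheme.Modules.pullbackId Z).inv.app (Omega.conormal j)).app (j ⁻¹ᵁ V)
        (conormalSect j V (lt n) : Γ(Omega.conormal j, j ⁻¹ᵁ V))
      map_add' := fun n n' => by
        rw [lt_add, cs_add, map_add]
      map_smul' := fun b n => by
        rw [lt_smul, cs_smul, Scheme.Modules.Hom.app_smul, RingHom.id_apply]
        have : (j.appLE V (j ⁻¹ᵁ V) le_rfl).hom (l b) = algebraMap Γ(X, U) Γ(Z, j ⁻¹ᵁ V) b := by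
          rw [Scheme.Hom.appLE_eq_app]
          exact hl₂ b
        rw [this]
        rfl }
  refine ⟨(LinearMap.liftBaseChange Γ(Z, j ⁻¹ᵁ V) g) ∘ₗ eNi.symm.toLinearMap, ?_⟩
  intro m
  have hinv : ((Scheme.Modules.pullbackId Z).inv.app (Omega.conormal j)).app (j ⁻¹ᵁ V)
      (((Scheme.Modules.pullbackId Z).hom.app (Omega.conormal j)).app (j ⁻¹ᵁ V) m) = m := by
    have := congrArg (fun k => (Scheme.Modules.Hom.app k (j ⁻¹ᵁ V)) m)
      ((Scheme.Modules.pullbackId Z).hom_inv_id_app (Omega.conormal j))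
    exact this
  obtain ⟨τ, hτ⟩ := eNj.surjective
    (((Scheme.Modules.pullbackId Z).hom.app (Omega.conormal j)).app (j ⁻¹ᵁ V) m)
  obtain ⟨s', rfl⟩ := exists_one_tmul hAC τ
  have hm₀ : ((Scheme.Modules.pullbackId Z).hom.app (Omega.conormal j)).app (j ⁻¹ᵁ V) m =
      conormalSect j V s' := by
    rw [← hτ, heNj, one_smul]
    exact mres_self _ _
  have hmeq : m = pullSLE (𝟙 Z) (Omega.conormal j) (j ⁻¹ᵁ V) (j ⁻¹ᵁ V) le_rfl
      (conormalSect j V s') := by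
    rw [← hinv, hm₀, pullbackId_inv_app_eq]
  obtain ⟨n', hn', hψn⟩ := conormalMap_generator' p i j hij hψ h₁ s' (j ⁻¹ᵁ V) hWle le_rfl
  rw [← hmeq] at hψn
  have h1 : ψ.app (j ⁻¹ᵁ V) m = eNi (1 ⊗ₜ n') := by
    rw [heNi, one_smul]
    exact hψn
  have hlt' : lt n' = s' := by
    apply idealSect_injective j.ker V
    rw [hlt, hn', hl₁]
  rw [LinearMap.comp_apply, LinearEquiv.coe_coe, h1, LinearEquiv.symm_apply_apply,
    LinearMap.liftBaseChange_tmul, one_smul]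
  change ((Scheme.Modules.pullbackId Z).inv.app (Omega.conormal j)).app (j ⁻¹ᵁ V)
      (conormalSect j V (lt n') : Γ(Omega.conormal j, j ⁻¹ᵁ V)) = m
  rw [hlt', ← hinv, hm₀]

end Split

end Groth.Agent.Lib.Helper51.OmegaUniv
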