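import Mathlib
import Groth.Prelude.Def_Omega4
import Groth.Agent.Lib.Helper51.OmegaUniv.ConormalThickMono
import Groth.Agent.Lib.Helper51.UnivThickRing
import Groth.Agent.Lib.Helper51.UnivThickTrans
import Groth.Agent.Lib.Helper51.LciFlatLift
import Groth.Agent.Lib.Helper10.LciMor

set_option autoImplicit false
set_option linter.style.haveILetI false
universe u
open AlgebraicGeometry CategoryTheory Limits TopologicalSpace Opposite TensorProduct OmegaSh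

namespace Groth.Agent.Lib.Helper51.OmegaUniv

open Groth.Agent.Lib.Helper49 Groth.Agent.Lib.Helper49.UnitChart Groth.Agent.Lib.Helper45
  Groth.Agent.Lib.Helper13.OmegaShYoneda

/-- Ring-level universal thickening on affine charts, with explicit algebra instances. -/
theorem isUnivThickeningRing_chart {Z X Z' : Scheme.{u}} (h : Z ⟶ X) (i : Z ⟶ Z') (h' : Z' ⟶ X)
    (hu : OmegaSh.IsUnivThickening h i h') {U : X.Opens} (hU : IsAffineOpen U)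
    {V' : Z'.Opens} (hV' : IsAffineOpen V') (hV'U : V' ≤ h' ⁻¹ᵁ U)
    [Algebra Γ(X, U) Γ(Z', V')] [Algebra Γ(Z', V') Γ(Z, i ⁻¹ᵁ V')]
    [Algebra Γ(X, U) Γ(Z, i ⁻¹ᵁ V')] [IsScalarTower Γ(X, U) Γ(Z', V') Γ(Z, i ⁻¹ᵁ V')]
    (h₁ : algebraMap Γ(X, U) Γ(Z', V') = (h'.appLE U V' hV'U).hom)
    (h₂ : algebraMap Γ(Z', V') Γ(Z, i ⁻¹ᵁ V') = (i.app V').hom) :
    OmegaSh.IsUnivThickeningRing Γ(X, U) Γ(Z, i ⁻¹ᵁ V') Γ(Z', V')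
      (IsScalarTower.toAlgHom Γ(X, U) Γ(Z', V') Γ(Z, i ⁻¹ᵁ V')) := by
  have hic : IsClosedImmersion i := hu.1.1.1
  have hsq : i.ker * i.ker = ⊥ := hu.1.2
  apply Groth.Agent.Lib.Helper51.UnivThickRing.isUnivThickeningRing_of_ringUniv
  · rw [h₂]
    exact i.app_surjective V' hV'
  · rw [h₂]
    exact Groth.Agent.Lib.Helper7.ker_app_sq_eq_bot i hsq hV'
  · have := Groth.Agent.Lib.Helper51.UnivThickRing.ringUniv_of_isUnivThickening h i h' hu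
      hU hV' hV'U
    have e₁ : CommRingCat.ofHom (algebraMap Γ(X, U) Γ(Z', V')) = h'.appLE U V' hV'U := by
      rw [h₁]; rfl
    have e₂ : CommRingCat.ofHom (algebraMap Γ(Z', V') Γ(Z, i ⁻¹ᵁ V')) = i.app V' := by
      rw [h₂]; rfl
    have e₃ : CommRingCat.ofHom (algebraMap Γ(X, U) Γ(Z, i ⁻¹ᵁ V')) =
        h'.appLE U V' hV'U ≫ i.app V' := by
      rw [IsScalarTower.algebraMap_eq Γ(X, U) Γ(Z', V') Γ(Z, i ⁻¹ᵁ V'), h₁, h₂]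
      rfl
    rw [e₁, e₂, e₃]
    exact this

/-- Chart-level injectivity of `ψ₁ : i^* C_{Y/Y'} → C_{Z/Z'}` for lci `i`. -/
theorem conormalMap_injective_chart {Z Y X Z' Y' : Scheme.{u}} (i : Z ⟶ Y) (b : Y ⟶ X)
    (i' : Z ⟶ Z') (c : Z' ⟶ X) (hZ' : OmegaSh.IsUnivThickening (i ≫ b) i' c)
    (j : Y ⟶ Y') (d : Y' ⟶ X) (hY' : OmegaSh.IsUnivThickening b j d)
    (m : Z' ⟶ Y') (hm₁ : i' ≫ m = i ≫ j) (hm₂ : m ≫ d = c)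
    {ψ₁ : (Scheme.Modules.pullback i).obj (Omega.conormal j) ⟶ Omega.conormal i'}
    (hψ₁ : OmegaSh.IsConormalMap i' j m i ψ₁)
    {VX : X.Opens} (hVX : IsAffineOpen VX) {VY' : Y'.Opens} (hVY' : IsAffineOpen VY')
    (hVY'X : VY' ≤ d ⁻¹ᵁ VX)
    {VZ'0 : Z'.Opens} (hVZ'0 : IsAffineOpen VZ'0) (hVZ'0Y : VZ'0 ≤ m ⁻¹ᵁ VY')
    (hW₀Y : i' ⁻¹ᵁ VZ'0 ≤ i ⁻¹ᵁ (j ⁻¹ᵁ VY'))
    (hlci : letI := (i.appLE (j ⁻¹ᵁ VY') (i' ⁻¹ᵁ VZ'0) hW₀Y).hom.toAlgebra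
      LCI.IsLCI Γ(Y, j ⁻¹ᵁ VY') Γ(Z, i' ⁻¹ᵁ VZ'0))
    (z : Z) (hz : z ∈ i' ⁻¹ᵁ VZ'0) :
    ∃ W : Z.Opens, IsAffineOpen W ∧ z ∈ W ∧ Function.Injective (ψ₁.app W) := by
  subst hm₂
  haveI hcj : IsClosedImmersion j := hY'.1.1.1
  haveI hci' : IsClosedImmersion i' := hZ'.1.1.1
  have hVY : IsAffineOpen (j ⁻¹ᵁ VY') := hVY'.preimage j
  have hW₀ : IsAffineOpen (i' ⁻¹ᵁ VZ'0) := hVZ'0.preimage i'
  letI aAB₀ : Algebra Γ(Y, j ⁻¹ᵁ VY') Γ(Z, i' ⁻¹ᵁ VZ'0) :=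
    (i.appLE (j ⁻¹ᵁ VY') (i' ⁻¹ᵁ VZ'0) hW₀Y).hom.toAlgebra
  have hα₀ : Function.Surjective (j.app VY').hom := j.app_surjective VY' hVY'
  haveI := (hW₀.primeIdealOf ⟨z, hz⟩).isPrime
  obtain ⟨n, Gt, φ, cc, l, hφ, hGq, hl, hkl⟩ :=
    Groth.Agent.Lib.Helper51.UnivThickRing.exists_lci_localized_presentation (j.app VY').hom hα₀ hlci
      (hW₀.primeIdealOf ⟨z, hz⟩).asIdeal
  have hzb : z ∈ Z.basicOpen (φ (MvPolynomial.map (j.app VY').hom Gt)) :=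
    (Groth.Agent.Lib.Helper10.RegImmDescent.mem_basicOpen_iff_notMem_primeIdealOf hW₀ z hz _).mpr hGq
  obtain ⟨g', hg'⟩ := i'.app_surjective VZ'0 hVZ'0 (φ (MvPolynomial.map (j.app VY').hom Gt))
  have hVZ'a : IsAffineOpen (Z'.basicOpen g') := hVZ'0.basicOpen g'
  have hVZ'le : Z'.basicOpen g' ≤ VZ'0 := Z'.basicOpen_le g'
  have hW : IsAffineOpen (i' ⁻¹ᵁ Z'.basicOpen g') := hVZ'a.preimage i'
  have hWeq : i' ⁻¹ᵁ Z'.basicOpen g' = Z.basicOpen (φ (MvPolynomial.map (j.app VY').hom Gt)) := by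
    rw [← hg']
    exact Scheme.preimage_basicOpen i' g'
  have hzW : z ∈ i' ⁻¹ᵁ Z'.basicOpen g' := by rw [hWeq]; exact hzb
  have hWW₀ : i' ⁻¹ᵁ Z'.basicOpen g' ≤ i' ⁻¹ᵁ VZ'0 := fun y hy => hVZ'le hy
  have hWY : i' ⁻¹ᵁ Z'.basicOpen g' ≤ i ⁻¹ᵁ (j ⁻¹ᵁ VY') := hWW₀.trans hW₀Y
  have hVZ'Y : Z'.basicOpen g' ≤ m ⁻¹ᵁ VY' := hVZ'le.trans hVZ'0Y
  have hVZ'X : Z'.basicOpen g' ≤ (m ≫ d) ⁻¹ᵁ VX := fun y hy => hVY'X (hVZ'Y hy)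
  refine ⟨i' ⁻¹ᵁ Z'.basicOpen g', hW, hzW, ?_⟩
  -- algebra instances
  letI aRA' : Algebra Γ(X, VX) Γ(Y', VY') := (d.appLE VX VY' hVY'X).hom.toAlgebra
  letI aA'A : Algebra Γ(Y', VY') Γ(Y, j ⁻¹ᵁ VY') := (j.app VY').hom.toAlgebra
  letI aRA : Algebra Γ(X, VX) Γ(Y, j ⁻¹ᵁ VY') := (d.appLE VX VY' hVY'X ≫ j.app VY').hom.toAlgebra
  haveI tRA'A : IsScalarTower Γ(X, VX) Γ(Y', VY') Γ(Y, j ⁻¹ᵁ VY') :=
    IsScalarTower.of_algebraMap_eq' rfl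
  letI aRB' : Algebra Γ(X, VX) Γ(Z', Z'.basicOpen g') :=
    ((m ≫ d).appLE VX (Z'.basicOpen g') hVZ'X).hom.toAlgebra
  letI aB'B : Algebra Γ(Z', Z'.basicOpen g') Γ(Z, i' ⁻¹ᵁ Z'.basicOpen g') :=
    (i'.appLE (Z'.basicOpen g') (i' ⁻¹ᵁ Z'.basicOpen g') le_rfl).hom.toAlgebra
  letI aRB : Algebra Γ(X, VX) Γ(Z, i' ⁻¹ᵁ Z'.basicOpen g') :=
    ((m ≫ d).appLE VX (Z'.basicOpen g') hVZ'X ≫
      i'.appLE (Z'.basicOpen g') (i' ⁻¹ᵁ Z'.basicOpen g') le_rfl).hom.toAlgebra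
  haveI tRB'B : IsScalarTower Γ(X, VX) Γ(Z', Z'.basicOpen g') Γ(Z, i' ⁻¹ᵁ Z'.basicOpen g') :=
    IsScalarTower.of_algebraMap_eq' rfl
  letI aAB : Algebra Γ(Y, j ⁻¹ᵁ VY') Γ(Z, i' ⁻¹ᵁ Z'.basicOpen g') :=
    (i.appLE (j ⁻¹ᵁ VY') (i' ⁻¹ᵁ Z'.basicOpen g') hWY).hom.toAlgebra
  have key : ∀ (p q : Z ⟶ Y') (_ : p = q) (U : Y'.Opens) (W : Z.Opens) (h1 : W ≤ p ⁻¹ᵁ U)
      (h2 : W ≤ q ⁻¹ᵁ U), p.appLE U W h1 = q.appLE U W h2 := by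
    rintro p q rfl _ _ _ _; rfl
  have hsq : m.appLE VY' (Z'.basicOpen g') hVZ'Y ≫
      i'.appLE (Z'.basicOpen g') (i' ⁻¹ᵁ Z'.basicOpen g') le_rfl =
      j.app VY' ≫ i.appLE (j ⁻¹ᵁ VY') (i' ⁻¹ᵁ Z'.basicOpen g') hWY := by
    rw [Scheme.Hom.app_eq_appLE, Scheme.Hom.appLE_comp_appLE, Scheme.Hom.appLE_comp_appLE]
    exact key _ _ hm₁ _ _ _ _
  have hdm : d.appLE VX VY' hVY'X ≫ m.appLE VY' (Z'.basicOpen g') hVZ'Y =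
      (m ≫ d).appLE VX (Z'.basicOpen g') hVZ'X :=
    Scheme.Hom.appLE_comp_appLE m d _ _ _ _ _
  haveI tRAB : IsScalarTower Γ(X, VX) Γ(Y, j ⁻¹ᵁ VY') Γ(Z, i' ⁻¹ᵁ Z'.basicOpen g') := by
    apply IsScalarTower.of_algebraMap_eq'
    change ((m ≫ d).appLE VX (Z'.basicOpen g') hVZ'X ≫
      i'.appLE (Z'.basicOpen g') (i' ⁻¹ᵁ Z'.basicOpen g') le_rfl).hom =
      ((d.appLE VX VY' hVY'X ≫ j.app VY') ≫
        i.appLE (j ⁻¹ᵁ VY') (i' ⁻¹ᵁ Z'.basicOpen g') hWY).hom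
    rw [← hdm, Category.assoc, Category.assoc, hsq]
  -- ring-level universal thickenings
  have hα : OmegaSh.IsUnivThickeningRing Γ(X, VX) Γ(Y, j ⁻¹ᵁ VY') Γ(Y', VY')
      (IsScalarTower.toAlgHom Γ(X, VX) Γ(Y', VY') Γ(Y, j ⁻¹ᵁ VY')) :=
    isUnivThickeningRing_chart b j d hY' hVX hVY' hVY'X rfl rfl
  have hβ : OmegaSh.IsUnivThickeningRing Γ(X, VX) Γ(Z, i' ⁻¹ᵁ Z'.basicOpen g')
      Γ(Z', Z'.basicOpen g')
      (IsScalarTower.toAlgHom Γ(X, VX) Γ(Z', Z'.basicOpen g') Γ(Z, i' ⁻¹ᵁ Z'.basicOpen g')) :=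
    isUnivThickeningRing_chart (i ≫ b) i' (m ≫ d) hZ' hVX hVZ'a hVZ'X rfl
      (congrArg CommRingCat.Hom.hom (Scheme.Hom.appLE_eq_app i'))
  let μ : Γ(Y', VY') →ₐ[Γ(X, VX)] Γ(Z', Z'.basicOpen g') :=
    { toRingHom := (m.appLE VY' (Z'.basicOpen g') hVZ'Y).hom
      commutes' := fun r => congr($(hdm).hom r) }
  have hμ : ∀ y, (IsScalarTower.toAlgHom Γ(X, VX) Γ(Z', Z'.basicOpen g')
      Γ(Z, i' ⁻¹ᵁ Z'.basicOpen g')) (μ y) =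
      algebraMap Γ(Y, j ⁻¹ᵁ VY') Γ(Z, i' ⁻¹ᵁ Z'.basicOpen g')
        ((IsScalarTower.toAlgHom Γ(X, VX) Γ(Y', VY') Γ(Y, j ⁻¹ᵁ VY')) y) :=
    fun y => congr($(hsq).hom y)
  -- the localization structure
  letI aB₀B : Algebra Γ(Z, i' ⁻¹ᵁ VZ'0) Γ(Z, i' ⁻¹ᵁ Z'.basicOpen g') :=
    (Z.presheaf.map (homOfLE hWW₀).op).hom.toAlgebra
  haveI tAB₀B : IsScalarTower Γ(Y, j ⁻¹ᵁ VY') Γ(Z, i' ⁻¹ᵁ VZ'0) Γ(Z, i' ⁻¹ᵁ Z'.basicOpen g') := by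
    apply IsScalarTower.of_algebraMap_eq'
    change (i.appLE (j ⁻¹ᵁ VY') (i' ⁻¹ᵁ Z'.basicOpen g') hWY).hom =
      (i.appLE (j ⁻¹ᵁ VY') (i' ⁻¹ᵁ VZ'0) hW₀Y ≫ Z.presheaf.map (homOfLE hWW₀).op).hom
    rw [Scheme.Hom.appLE_map]
  haveI hloc : IsLocalization.Away (φ.toRingHom (MvPolynomial.map (j.app VY').hom Gt))
      Γ(Z, i' ⁻¹ᵁ Z'.basicOpen g') :=
    hW₀.isLocalization_of_eq_basicOpen _ (homOfLE hWW₀) hWeq
  obtain ⟨θ, ρ, hθ, hθk, hρ, hρθ, hρk⟩ :=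
    Groth.Agent.Lib.Helper51.UnivThickRing.exists_flat_lift_maps (j.app VY').hom hα₀ Gt φ hφ
      (B := Γ(Z, i' ⁻¹ᵁ Z'.basicOpen g'))
  haveI tRA'Pt : IsScalarTower Γ(X, VX) Γ(Y', VY') (Localization.Away Gt) := inferInstance
  haveI hflat₁ : Module.Flat (MvPolynomial (Fin n) Γ(Y', VY')) (Localization.Away Gt) :=
    IsLocalization.flat _ (Submonoid.powers Gt)
  haveI hflat : Module.Flat Γ(Y', VY') (Localization.Away Gt) :=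
    Module.Flat.trans Γ(Y', VY') (MvPolynomial (Fin n) Γ(Y', VY')) (Localization.Away Gt)
  -- the map ν on the kernel of α
  have hsx : ∀ x : ↥(RingHom.ker (IsScalarTower.toAlgHom Γ(X, VX) Γ(Y', VY')
      Γ(Y, j ⁻¹ᵁ VY')).toRingHom), ∃ s : Γ(ClSub.idealMod j.ker, VY'),
      idealSect j.ker VY' s = (x : Γ(Y', VY')) := by
    intro x
    exact exists_idealSect_eq j hVY' _ x.2
  choose sx hsx using hsx
  have sx_add : ∀ x x', sx (x + x') = sx x + sx x' := by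
    intro x x'
    apply idealSect_injective j.ker VY'
    rw [hsx, map_add, hsx, hsx]
    rfl
  have sx_smul : ∀ (a : Γ(Y', VY')) x, sx (a • x) = a • sx x := by
    intro a x
    apply idealSect_injective j.ker VY'
    rw [hsx, idealSect_smul, hsx]
    rfl
  have cs_add : ∀ s t : Γ(ClSub.idealMod j.ker, VY'),
      (conormalSect j VY' (s + t) : Γ(Omega.conormal j, j ⁻¹ᵁ VY')) =
        conormalSect j VY' s + conormalSect j VY' t := fun s t => map_add _ s t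
  have cs_smul : ∀ (r : Γ(Y', VY')) (s : Γ(ClSub.idealMod j.ker, VY')),
      (conormalSect j VY' (r • s) : Γ(Omega.conormal j, j ⁻¹ᵁ VY')) =
        (j.appLE VY' (j ⁻¹ᵁ VY') le_rfl).hom r •
          (conormalSect j VY' s : Γ(Omega.conormal j, j ⁻¹ᵁ VY')) := by
    intro r s
    have h := pullSLE_smul j (ClSub.idealMod j.ker) VY' (j ⁻¹ᵁ VY') le_rfl r s
    have e1 : ∀ t, pullSLE j (ClSub.idealMod j.ker) VY' (j ⁻¹ᵁ VY') le_rfl t =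
        conormalSect j VY' t := fun t => mres_self _ _
    rw [e1, e1] at h
    exact h
  let ν : ↥(RingHom.ker (IsScalarTower.toAlgHom Γ(X, VX) Γ(Y', VY')
      Γ(Y, j ⁻¹ᵁ VY')).toRingHom) →+
      Γ((Scheme.Modules.pullback i).obj (Omega.conormal j), i' ⁻¹ᵁ Z'.basicOpen g') :=
    AddMonoidHom.mk' (fun x => pullSLE i (Omega.conormal j) (j ⁻¹ᵁ VY')
      (i' ⁻¹ᵁ Z'.basicOpen g') hWY (conormalSect j VY' (sx x))) (by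
        intro x x'
        rw [sx_add, cs_add, pullSLE_add])
  have hν : ∀ (a : Γ(Y', VY')) (x : ↥(RingHom.ker (IsScalarTower.toAlgHom Γ(X, VX) Γ(Y', VY')
      Γ(Y, j ⁻¹ᵁ VY')).toRingHom)),
      ν (a • x) = algebraMap Γ(Y, j ⁻¹ᵁ VY') Γ(Z, i' ⁻¹ᵁ Z'.basicOpen g')
        ((IsScalarTower.toAlgHom Γ(X, VX) Γ(Y', VY') Γ(Y, j ⁻¹ᵁ VY')) a) • ν x := by
    intro a x
    change pullSLE i (Omega.conormal j) (j ⁻¹ᵁ VY') (i' ⁻¹ᵁ Z'.basicOpen g') hWY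
      (conormalSect j VY' (sx (a • x))) = _
    rw [sx_smul, cs_smul, pullSLE_smul, Scheme.Hom.appLE_eq_app]
    rfl
  obtain ⟨t, ht_add, ht_smul, ht⟩ :=
    Groth.Agent.Lib.Helper51.UnivThickRing.exists_conormal_retraction
      (IsScalarTower.toAlgHom Γ(X, VX) Γ(Y', VY') Γ(Y, j ⁻¹ᵁ VY')) hα
      (IsScalarTower.toAlgHom Γ(X, VX) Γ(Z', Z'.basicOpen g') Γ(Z, i' ⁻¹ᵁ Z'.basicOpen g')) hβ
      μ hμ θ hθ hθk ρ hρ hρθ l hl (hρk.trans hkl) ν hν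
  refine conormalMap_gen_injective_of_retraction i' j m i hψ₁ hVY' hVY hVZ'a hVZ'Y hW le_rfl hWY t
    ?_ ?_ ?_
  · intro x x' hx hx'
    exact ht_add x hx x' hx'
  · intro b' x hx
    exact ht_smul b' x hx
  · intro s
    have hmem : idealSect j.ker VY' s ∈ RingHom.ker (IsScalarTower.toAlgHom Γ(X, VX) Γ(Y', VY')
        Γ(Y, j ⁻¹ᵁ VY')).toRingHom := app_idealSect j hVY' s
    have h1 := ht ⟨_, hmem⟩
    have h2 : sx ⟨_, hmem⟩ = s := by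
      apply idealSect_injective j.ker VY'
      rw [hsx]
    change t (μ (idealSect j.ker VY' s)) = _
    rw [h1]
    change pullSLE i (Omega.conormal j) (j ⁻¹ᵁ VY') (i' ⁻¹ᵁ Z'.basicOpen g') hWY
      (conormalSect j VY' (sx ⟨_, hmem⟩)) = _
    rw [h2]

/-- For lci `i`, the canonical map `ψ₁ : i^* C_{Y/X} → C_{Z/X}` of conormal sheaves of universal
first order thickenings is a monomorphism. -/
theorem conormalMap_mono_of_lci {Z Y X Z' Y' : Scheme.{u}} (i : Z ⟶ Y) (b : Y ⟶ X)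
    (i' : Z ⟶ Z') (c : Z' ⟶ X) (hZ' : OmegaSh.IsUnivThickening (i ≫ b) i' c)
    (j : Y ⟶ Y') (d : Y' ⟶ X) (hY' : OmegaSh.IsUnivThickening b j d)
    (m : Z' ⟶ Y') (hm₁ : i' ≫ m = i ≫ j) (hm₂ : m ≫ d = c)
    {ψ₁ : (Scheme.Modules.pullback i).obj (Omega.conormal j) ⟶ Omega.conormal i'}
    (hψ₁ : OmegaSh.IsConormalMap i' j m i ψ₁)
    (hlci : ∀ z : Z, Synt.IsKoszulAt i z) : Mono ψ₁ := by
  haveI hcj : IsClosedImmersion j := hY'.1.1.1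
  haveI hci' : IsClosedImmersion i' := hZ'.1.1.1
  haveI hq0 : (Omega.conormal j).IsQuasicoherent :=
    Groth.Agent.Lib.Helper16.FlatPull.isQuasicoherent_pullback j (ClSub.idealMod j.ker)
  haveI hq1 : ((Scheme.Modules.pullback i).obj (Omega.conormal j)).IsQuasicoherent :=
    Groth.Agent.Lib.Helper16.FlatPull.isQuasicoherent_pullback i (Omega.conormal j)
  haveI hq2 : (Omega.conormal i').IsQuasicoherent :=
    Groth.Agent.Lib.Helper16.FlatPull.isQuasicoherent_pullback i' (ClSub.idealMod i'.ker)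
  apply mono_of_app_injective_of_cover
  intro z
  obtain ⟨VX, hVX, hzX⟩ : ∃ VX : X.Opens, IsAffineOpen VX ∧ d (j (i z)) ∈ VX := by
    obtain ⟨_, ⟨V, hV, rfl⟩, hxV, -⟩ := X.isBasis_affineOpens.exists_subset_of_mem_open
      (Set.mem_univ (d (j (i z)))) isOpen_univ
    exact ⟨V, hV, hxV⟩
  obtain ⟨VY', hVY', hzY', hVY'X⟩ : ∃ VY' : Y'.Opens, IsAffineOpen VY' ∧ j (i z) ∈ VY' ∧
      VY' ≤ d ⁻¹ᵁ VX := by
    obtain ⟨_, ⟨V, hV, rfl⟩, hxV, hle⟩ := Y'.isBasis_affineOpens.exists_subset_of_mem_open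
      (show j (i z) ∈ ((d ⁻¹ᵁ VX : Y'.Opens) : Set Y') from hzX) (d ⁻¹ᵁ VX).isOpen
    exact ⟨V, hV, hxV, hle⟩
  have hmz : m (i' z) ∈ VY' := by
    rw [← Scheme.Hom.comp_apply, hm₁]
    exact hzY'
  obtain ⟨VZ'0, hVZ'0, hzZ', hVZ'0Y⟩ : ∃ VZ'0 : Z'.Opens, IsAffineOpen VZ'0 ∧ i' z ∈ VZ'0 ∧
      VZ'0 ≤ m ⁻¹ᵁ VY' := by
    obtain ⟨_, ⟨V, hV, rfl⟩, hxV, hle⟩ := Z'.isBasis_affineOpens.exists_subset_of_mem_open
      (show i' z ∈ ((m ⁻¹ᵁ VY' : Z'.Opens) : Set Z') from hmz) (m ⁻¹ᵁ VY').isOpen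
    exact ⟨V, hV, hxV, hle⟩
  have hW₀Y : i' ⁻¹ᵁ VZ'0 ≤ i ⁻¹ᵁ (j ⁻¹ᵁ VY') := by
    intro y hy
    have h1 : m (i' y) ∈ VY' := hVZ'0Y hy
    rw [← Scheme.Hom.comp_apply, hm₁] at h1
    exact h1
  have hL := (Groth.Agent.Lib.Helper10.LciMor.lciMor_iff_forall i).mp
    (Groth.Agent.Lib.Helper10.LciMor.lciMor_of_forall_isKoszulAt i hlci) (i' ⁻¹ᵁ VZ'0)
    (j ⁻¹ᵁ VY') (hVZ'0.preimage i') (hVY'.preimage j) hW₀Y
  exact conormalMap_injective_chart i b i' c hZ' j d hY' m hm₁ hm₂ hψ₁ hVX hVY' hVY'X hVZ'0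
    hVZ'0Y hW₀Y hL z hzZ'

end Groth.Agent.Lib.Helper51.OmegaUniv
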