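import Mathlib
import Groth.Agent.Lib.Helper42.QCohAffineSections
import Groth.Agent.Lib.Helper49.QCohLocal

set_option autoImplicit false
set_option linter.style.haveILetI false
universe u
open AlgebraicGeometry CategoryTheory Limits TopologicalSpace Opposite

namespace Groth.Agent.Lib.Helper51.OmegaUniv

open Groth.Agent.Lib.Helper49 Groth.Agent.Lib.Helper42

variable {X : Scheme.{u}}

theorem isQuasicoherent_coprod (F G : X.Modules) [hF : F.IsQuasicoherent]
    [hG : G.IsQuasicoherent] : (F ⨿ G).IsQuasicoherent := by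
  have h : (limit (pair F G)).IsQuasicoherent := by
    apply isQuasicoherent_finite_limit
    rintro ⟨j⟩
    cases j
    · exact hF
    · exact hG
  exact isQuasicoherent_of_iso ((biprod.isoProd F G).symm ≪≫ biprod.isoCoprod F G) h

/-- `coprod.desc c₁ c₂` is an isomorphism if on an affine open cover the map
`(a, b) ↦ c₁ a + c₂ b` on sections is bijective. -/
theorem isIso_coprod_desc_of_cover {F G H : X.Modules} [F.IsQuasicoherent] [G.IsQuasicoherent]
    [H.IsQuasicoherent] (c₁ : F ⟶ H) (c₂ : G ⟶ H)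
    (h : ∀ x : X, ∃ U : X.Opens, IsAffineOpen U ∧ x ∈ U ∧
      Function.Bijective (fun p : Γ(F, U) × Γ(G, U) => c₁.app U p.1 + c₂.app U p.2)) :
    IsIso (coprod.desc c₁ c₂) := by
  haveI := isQuasicoherent_coprod F G
  apply isIso_of_app_bijective_of_cover
  intro x
  obtain ⟨U, hU, hxU, hb⟩ := h x
  refine ⟨U, hU, hxU, ?_⟩
  let π₁ : F ⨿ G ⟶ F := coprod.desc (𝟙 F) 0
  let π₂ : F ⨿ G ⟶ G := coprod.desc 0 (𝟙 G)
  have hid : π₁ ≫ coprod.inl + π₂ ≫ coprod.inr = 𝟙 (F ⨿ G) := by
    apply coprod.hom_ext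
    · rw [Preadditive.comp_add, ← Category.assoc, ← Category.assoc, coprod.inl_desc,
        coprod.inl_desc, Category.id_comp, zero_comp, add_zero, Category.comp_id]
    · rw [Preadditive.comp_add, ← Category.assoc, ← Category.assoc, coprod.inr_desc,
        coprod.inr_desc, Category.id_comp, zero_comp, zero_add, Category.comp_id]
  have hdec : ∀ t : Γ(F ⨿ G, U), t = (coprod.inl : F ⟶ F ⨿ G).app U (π₁.app U t) +
      (coprod.inr : G ⟶ F ⨿ G).app U (π₂.app U t) := by
    intro t
    exact (congrArg (fun k : F ⨿ G ⟶ F ⨿ G => k.app U t) hid).symm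
  have hl : ∀ a : Γ(F, U), (coprod.desc c₁ c₂).app U ((coprod.inl : F ⟶ F ⨿ G).app U a) =
      c₁.app U a := by
    intro a
    exact congrArg (fun k : F ⟶ H => k.app U a) (coprod.inl_desc c₁ c₂)
  have hr : ∀ b : Γ(G, U), (coprod.desc c₁ c₂).app U ((coprod.inr : G ⟶ F ⨿ G).app U b) =
      c₂.app U b := by
    intro b
    exact congrArg (fun k : G ⟶ H => k.app U b) (coprod.inr_desc c₁ c₂)
  constructor
  · rw [injective_iff_map_eq_zero]
    intro t ht
    rw [hdec t, map_add, hl, hr] at ht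
    have h0 : (fun p : Γ(F, U) × Γ(G, U) => c₁.app U p.1 + c₂.app U p.2)
        (π₁.app U t, π₂.app U t) =
        (fun p : Γ(F, U) × Γ(G, U) => c₁.app U p.1 + c₂.app U p.2) (0, 0) := by
      simp only [map_zero, add_zero]
      exact ht
    have h1 := hb.1 h0
    rw [Prod.mk.injEq] at h1
    rw [hdec t, h1.1, h1.2, map_zero, map_zero, add_zero]
  · intro z
    obtain ⟨⟨a, b⟩, hab⟩ := hb.2 z
    refine ⟨(coprod.inl : F ⟶ F ⨿ G).app U a + (coprod.inr : G ⟶ F ⨿ G).app U b, ?_⟩
    rw [map_add, hl, hr]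
    exact hab

end Groth.Agent.Lib.Helper51.OmegaUniv
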