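import Mathlib
import Groth.Agent.Lib.Helper51.OmegaUniv.ConormalComp

/-!
# A morphism of thickenings induces a morphism of restricted cotangent sequences (helper51)
-/

set_option autoImplicit false
set_option linter.style.haveILetI false
universe u
open AlgebraicGeometry CategoryTheory Limits TopologicalSpace Opposite TensorProduct OmegaSh

namespace Groth.Agent.Lib.Helper51.OmegaUniv

open Groth.Agent.Lib.Helper49 Groth.Agent.Lib.Helper49.UnitChart Groth.Agent.Lib.Helper45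
  Groth.Agent.Lib.Helper13.OmegaShYoneda

section SeqMap

variable {D C C' S S' SD : Scheme.{u}} (i : D ⟶ C) (i' : D ⟶ C') (g : C ⟶ C')
  {pC : C ⟶ S} {pC' : C' ⟶ S'} {pD : D ⟶ SD}
  {Ω₁ : C.Modules} {d₁ : Der pC Ω₁} {Ω₁' : C'.Modules} {d₁' : Der pC' Ω₁'}
  {Ω₂ : D.Modules} {d₂ : Der pD Ω₂}

/-- The middle map `i'^*Ω_{C'} → i^*Ω_C` attached to `dg : g^*Ω_{C'} → Ω_C`, on pulled back
differentials. -/
theorem middle_app (hgi : i ≫ g = i')
    {dg : (Scheme.Modules.pullback g).obj Ω₁' ⟶ Ω₁} (hdg : IsDiffCompat g d₁' d₁ dg)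
    (V : C'.Opens) (x : Γ(C', V)) (h₂ : i' ⁻¹ᵁ V ≤ i ⁻¹ᵁ (g ⁻¹ᵁ V)) :
    ((Scheme.Modules.pullbackCongr hgi.symm).hom.app Ω₁' ≫
      (Scheme.Modules.pullbackComp i g).inv.app Ω₁' ≫ (Scheme.Modules.pullback i).map dg).app
        (i' ⁻¹ᵁ V) (pullSect i' Ω₁' V (d₁'.app V x)) =
      pullSLE i Ω₁ (g ⁻¹ᵁ V) (i' ⁻¹ᵁ V) h₂ (d₁.app (g ⁻¹ᵁ V) (g.app V x)) := by
  have s1 : pullSect i' Ω₁' V (d₁'.app V x) = pullSLE i' Ω₁' V (i' ⁻¹ᵁ V) le_rfl (d₁'.app V x) :=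
    (mres_self _ _).symm
  have s2 := pullSLE_congr hgi.symm Ω₁' V (i' ⁻¹ᵁ V) le_rfl (d₁'.app V x)
  have s3 := pullSLE_comp i g Ω₁' V (g ⁻¹ᵁ V) (i' ⁻¹ᵁ V) le_rfl h₂ (d₁'.app V x)
  have s4 := pullSLE_naturality i dg (g ⁻¹ᵁ V) (i' ⁻¹ᵁ V) h₂
    (pullSLE g Ω₁' V (g ⁻¹ᵁ V) le_rfl (d₁'.app V x))
  have s5 := diffCompat_app_pullSLE g hdg (le_refl (g ⁻¹ᵁ V)) x
  change ((Scheme.Modules.pullback i).map dg).app (i' ⁻¹ᵁ V)
    (((Scheme.Modules.pullbackComp i g).inv.app Ω₁').app (i' ⁻¹ᵁ V)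
      (((Scheme.Modules.pullbackCongr hgi.symm).hom.app Ω₁').app (i' ⁻¹ᵁ V)
        (pullSect i' Ω₁' V (d₁'.app V x)))) = _
  rw [s1]
  erw [s2]
  erw [← s3]
  erw [s4]
  erw [s5]
  rw [← Scheme.Hom.app_eq_appLE]

/-- A morphism `g : C ⟶ C'` under `D` induces a morphism of the restricted cotangent sequences
`C_{D/C'} → i'^*Ω_{C'} → Ω_D` and `C_{D/C} → i^*Ω_C → Ω_D`. -/
theorem cotangentSeq_map [QuasiCompact i] (hgi : i ≫ g = i') (hd₁' : IsUniversal d₁')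
    {dg : (Scheme.Modules.pullback g).obj Ω₁' ⟶ Ω₁} (hdg : IsDiffCompat g d₁' d₁ dg)
    {φ : Omega.conormal i ⟶ (Scheme.Modules.pullback i).obj Ω₁} (hφ : IsConormalDiff i d₁ φ)
    {c : (Scheme.Modules.pullback i).obj Ω₁ ⟶ Ω₂} (hc : IsDiffCompat i d₁ d₂ c)
    {φ' : Omega.conormal i' ⟶ (Scheme.Modules.pullback i').obj Ω₁'}
    (hφ' : IsConormalDiff i' d₁' φ')
    {c' : (Scheme.Modules.pullback i').obj Ω₁' ⟶ Ω₂} (hc' : IsDiffCompat i' d₁' d₂ c')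
    {α : (Scheme.Modules.pullback (𝟙 D)).obj (Omega.conormal i') ⟶ Omega.conormal i}
    (hα : IsConormalMap i i' g (𝟙 D) α) :
    φ' ≫ ((Scheme.Modules.pullbackCongr hgi.symm).hom.app Ω₁' ≫
        (Scheme.Modules.pullbackComp i g).inv.app Ω₁' ≫ (Scheme.Modules.pullback i).map dg) =
      ((Scheme.Modules.pullbackId D).inv.app (Omega.conormal i') ≫ α) ≫ φ ∧
    ((Scheme.Modules.pullbackCongr hgi.symm).hom.app Ω₁' ≫
        (Scheme.Modules.pullbackComp i g).inv.app Ω₁' ≫ (Scheme.Modules.pullback i).map dg) ≫ c =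
      c' := by
  have hle : ∀ V : C'.Opens, i' ⁻¹ᵁ V ≤ i ⁻¹ᵁ (g ⁻¹ᵁ V) := by
    intro V y hy
    change g (i y) ∈ V
    rw [← Scheme.Hom.comp_apply, hgi]
    exact hy
  constructor
  · apply pullback_hom_ext i'
    intro V s'
    have hia : i.app (g ⁻¹ᵁ V) (g.app V (idealSect i'.ker V s')) = 0 := by
      have h0 : (i ≫ g).app V (idealSect i'.ker V s') = 0 :=
        app_eq_zero_of_eq hgi V _ (app_idealSect' i' V s')
      exact h0
    obtain ⟨sb, hsb⟩ := exists_idealSect_eq' i (g ⁻¹ᵁ V) _ hia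
    have h₁ : i' ⁻¹ᵁ V ≤ (𝟙 D) ⁻¹ᵁ (i' ⁻¹ᵁ V) := le_rfl
    have e1 : (φ' ≫ ((Scheme.Modules.pullbackCongr hgi.symm).hom.app Ω₁' ≫
        (Scheme.Modules.pullbackComp i g).inv.app Ω₁' ≫
          (Scheme.Modules.pullback i).map dg)).app (i' ⁻¹ᵁ V)
        (pullSect i' (ClSub.idealMod i'.ker) V s') =
        ((Scheme.Modules.pullbackCongr hgi.symm).hom.app Ω₁' ≫
        (Scheme.Modules.pullbackComp i g).inv.app Ω₁' ≫
          (Scheme.Modules.pullback i).map dg).app (i' ⁻¹ᵁ V)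
          (φ'.app (i' ⁻¹ᵁ V) (conormalSect i' V s')) := rfl
    have e2 : ((((Scheme.Modules.pullbackId D).inv.app (Omega.conormal i') ≫ α) ≫ φ).app
        (i' ⁻¹ᵁ V)) (pullSect i' (ClSub.idealMod i'.ker) V s') =
        φ.app (i' ⁻¹ᵁ V) (α.app (i' ⁻¹ᵁ V)
          (((Scheme.Modules.pullbackId D).inv.app (Omega.conormal i')).app (i' ⁻¹ᵁ V)
            (conormalSect i' V s'))) := rfl
    refine (e1.trans ?_).trans e2.symm
    rw [hφ' V s', middle_app i i' g hgi hdg V _ (hle V), pullbackId_inv_app_eq,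
      conormalMap_app g i i' hα V s' sb hsb (i' ⁻¹ᵁ V) h₁ (hle V),
      conormalDiff_app_res i hφ (hle V) sb, hsb]
  · apply pullback_hom_ext_of_isUniversal i' hd₁'
    intro V b
    have e1 : (((Scheme.Modules.pullbackCongr hgi.symm).hom.app Ω₁' ≫
        (Scheme.Modules.pullbackComp i g).inv.app Ω₁' ≫
          (Scheme.Modules.pullback i).map dg) ≫ c).app (i' ⁻¹ᵁ V)
        (pullSect i' Ω₁' V (d₁'.app V b)) =
        c.app (i' ⁻¹ᵁ V) (((Scheme.Modules.pullbackCongr hgi.symm).hom.app Ω₁' ≫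
        (Scheme.Modules.pullbackComp i g).inv.app Ω₁' ≫
          (Scheme.Modules.pullback i).map dg).app (i' ⁻¹ᵁ V)
          (pullSect i' Ω₁' V (d₁'.app V b))) := rfl
    refine e1.trans ?_
    rw [middle_app i i' g hgi hdg V b (hle V), hc' V b,
      diffCompat_app_pullSLE i hc (hle V) (g.app V b)]
    congr 1
    have e3 := Scheme.Hom.appLE_comp_appLE i g V (g ⁻¹ᵁ V) (i' ⁻¹ᵁ V) le_rfl (hle V)
    have e4 := congrArg (fun k => k.hom b) e3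
    rw [Scheme.Hom.app_eq_appLE]
    refine e4.trans ?_
    have e5 := appLE_congr_hom' hgi V (i' ⁻¹ᵁ V)
      ((hle V).trans ((Opens.map i.base).map (homOfLE le_rfl)).le) (le_refl _)
    rw [e5, ← Scheme.Hom.app_eq_appLE]

end SeqMap

end Groth.Agent.Lib.Helper51.OmegaUniv
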