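import Mathlib
import Groth.Agent.Lib.Helper51.OmegaUniv.KaehlerAlg2

set_option autoImplicit false
set_option linter.style.haveILetI false
universe u
open TensorProduct KaehlerDifferential

namespace Groth.Agent.Lib.Helper51.OmegaUniv.KAlg

/-- Differentials of a tensor product: for `P = A ⊗[R] B`,
`(P ⊗[A] Ω[A/R]) × (P ⊗[B] Ω[B/R]) → Ω[P/R]` is bijective. -/
theorem bijective_coprod_of_isPushout {R A B P : Type*} [CommRing R] [CommRing A] [CommRing B]
    [CommRing P] [Algebra R A] [Algebra R B] [Algebra R P] [Algebra A P] [Algebra B P]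
    [IsScalarTower R A P] [IsScalarTower R B P] [Algebra.IsPushout R A B P]
    (L₁ : P ⊗[A] Ω[A⁄R] →ₗ[P] Ω[P⁄R])
    (hL₁ : ∀ s : A, L₁ (1 ⊗ₜ D R A s) = D R P (algebraMap A P s))
    (L₂ : P ⊗[B] Ω[B⁄R] →ₗ[P] Ω[P⁄R])
    (hL₂ : ∀ s : B, L₂ (1 ⊗ₜ D R B s) = D R P (algebraMap B P s)) :
    Function.Bijective (fun x : (P ⊗[A] Ω[A⁄R]) × (P ⊗[B] Ω[B⁄R]) => L₁ x.1 + L₂ x.2) := by
  have po' : Algebra.IsPushout R B A P := Algebra.IsPushout.symm inferInstance
  let p₁ : Ω[P⁄R] →ₗ[P] Ω[P⁄B] := KaehlerDifferential.map R B P P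
  let p₂ : Ω[P⁄R] →ₗ[P] Ω[P⁄A] := KaehlerDifferential.map R A P P
  have h11 : p₁ ∘ₗ L₁ = (KaehlerDifferential.tensorKaehlerEquiv R B A P).toLinearMap := by
    apply tensor_kaehler_ext
    intro s
    rw [LinearMap.comp_apply, hL₁, LinearEquiv.coe_coe,
      KaehlerDifferential.tensorKaehlerEquiv_tmul_D, one_smul]
    exact KaehlerDifferential.map_D R B P P _
  have h22 : p₂ ∘ₗ L₂ = (KaehlerDifferential.tensorKaehlerEquiv R A B P).toLinearMap := by
    apply tensor_kaehler_ext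
    intro s
    rw [LinearMap.comp_apply, hL₂, LinearEquiv.coe_coe,
      KaehlerDifferential.tensorKaehlerEquiv_tmul_D, one_smul]
    exact KaehlerDifferential.map_D R A P P _
  have h12 : p₁ ∘ₗ L₂ = 0 := by
    apply tensor_kaehler_ext
    intro s
    rw [LinearMap.comp_apply, hL₂, LinearMap.zero_apply]
    refine (KaehlerDifferential.map_D R B P P _).trans ?_
    exact Derivation.map_algebraMap _ s
  have h21 : p₂ ∘ₗ L₁ = 0 := by
    apply tensor_kaehler_ext
    intro s
    rw [LinearMap.comp_apply, hL₁, LinearMap.zero_apply]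
    refine (KaehlerDifferential.map_D R A P P _).trans ?_
    exact Derivation.map_algebraMap _ s
  have hex : Function.Exact L₁ p₂ := by
    rw [eq_mapBaseChange L₁ hL₁]
    exact KaehlerDifferential.exact_mapBaseChange_map R A P
  constructor
  · intro ⟨x, y⟩ ⟨x', y'⟩ hxy
    simp only at hxy
    have e1 : p₁ (L₁ x + L₂ y) = p₁ (L₁ x' + L₂ y') := congrArg _ hxy
    have e2 : p₂ (L₁ x + L₂ y) = p₂ (L₁ x' + L₂ y') := congrArg _ hxy
    have z1 : ∀ t, p₁ (L₂ t) = 0 := fun t => LinearMap.congr_fun h12 t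
    have z2 : ∀ t, p₂ (L₁ t) = 0 := fun t => LinearMap.congr_fun h21 t
    have a1 : ∀ t, p₁ (L₁ t) = KaehlerDifferential.tensorKaehlerEquiv R B A P t :=
      fun t => LinearMap.congr_fun h11 t
    have a2 : ∀ t, p₂ (L₂ t) = KaehlerDifferential.tensorKaehlerEquiv R A B P t :=
      fun t => LinearMap.congr_fun h22 t
    rw [map_add, map_add, z1, z1, add_zero, add_zero, a1, a1] at e1
    rw [map_add, map_add, z2, z2, zero_add, zero_add, a2, a2] at e2
    rw [(KaehlerDifferential.tensorKaehlerEquiv R B A P).injective e1,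
      (KaehlerDifferential.tensorKaehlerEquiv R A B P).injective e2]
  · intro m
    obtain ⟨y, hy⟩ := (KaehlerDifferential.tensorKaehlerEquiv R A B P).surjective (p₂ m)
    have hy' : p₂ (L₂ y) = p₂ m := (LinearMap.congr_fun h22 y).trans hy
    have hk : p₂ (m - L₂ y) = 0 := by rw [map_sub, hy', sub_self]
    obtain ⟨x, hx⟩ := (hex _).mp hk
    exact ⟨(x, y), by simp only; rw [hx]; abel⟩

end Groth.Agent.Lib.Helper51.OmegaUniv.KAlg
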