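import Mathlib

set_option autoImplicit false
set_option linter.style.haveILetI false
universe u
open TensorProduct KaehlerDifferential

namespace Groth.Agent.Lib.Helper51.OmegaUniv.KAlg

/-- If the surjection `P → S` of `R`-algebras has an `R`-algebra section, then
`I/I² → S ⊗[P] Ω[P/R]` is injective (it is even split). -/
theorem kerCotangentToTensor_injective_of_section {R P S : Type*} [CommRing R]
    [CommRing P] [CommRing S] [Algebra R P] [Algebra P S] [Algebra R S] [IsScalarTower R P S]
    (hf : Function.Surjective (algebraMap P S)) (g : S →ₐ[R] P)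
    (hg : ∀ s, algebraMap P S (g s) = s) :
    Function.Injective (kerCotangentToTensor R P S) := by
  let g' : S →ₐ[R] P ⧸ RingHom.ker (IsScalarTower.toAlgHom R P S).toRingHom ^ 2 :=
    (Ideal.Quotient.mkₐ R _).comp g
  have hg' : (IsScalarTower.toAlgHom R P S).kerSquareLift.comp g' = AlgHom.id R S := by
    ext s
    change (IsScalarTower.toAlgHom R P S).kerSquareLift (Ideal.Quotient.mk _ (g s)) = s
    rw [AlgHom.kerSquareLift_mk]
    exact hg s
  obtain ⟨l, hl⟩ := (retractionKerCotangentToTensorEquivSection (R := R) hf).symm ⟨g', hg'⟩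
  intro x y hxy
  have := congrArg l hxy
  rwa [← LinearMap.comp_apply, ← LinearMap.comp_apply, hl] at this

end Groth.Agent.Lib.Helper51.OmegaUniv.KAlg
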