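import Mathlib
import Groth.Prelude.Def_RegImm
import Groth.Agent.Lib.Helper51.OmegaUniv.ConormalH1
import Groth.Agent.Lib.Helper10.RegImmKinds

/-!
# Ring-level charts of a morphism which is Koszul (lci) at a point
-/

set_option autoImplicit false
set_option linter.style.haveILetI false
universe u
open AlgebraicGeometry CategoryTheory Limits TopologicalSpace

namespace Groth.Agent.Lib.Helper51.OmegaUniv

/-- Around a point where `f` is Koszul, `f` is given on affine charts by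
`Γ(Y, V) → Pr → Γ(X, W)` with `Pr` smooth over `Γ(Y, V)` and `Pr → Γ(X, W)` surjective with
kernel generated by an `H₁`-regular sequence. -/
theorem exists_lci_chart {X Y : Scheme.{u}} (f : X ⟶ Y) (x : X) (hx : Synt.IsKoszulAt f x) :
    ∃ (VY : Y.Opens) (W : X.Opens) (_ : IsAffineOpen VY) (_ : IsAffineOpen W) (_ : x ∈ W)
      (hWV : W ≤ f ⁻¹ᵁ VY) (Pr : CommRingCat.{u}) (πs : Γ(Y, VY) ⟶ Pr) (ρ : Pr ⟶ Γ(X, W))
      (c : ℕ) (g : Fin c → Pr),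
      πs.hom.FormallySmooth ∧ Function.Surjective ρ.hom ∧ CAlgX.IsH1Regular g ∧
        RingHom.ker ρ.hom = Ideal.span (Set.range g) ∧ πs ≫ ρ = f.appLE VY W hWV := by
  obtain ⟨U, P, i₀, π, hxU, -, hreg, hsm, hcomm⟩ := hx
  haveI : IsImmersion i₀ := hreg.1
  obtain ⟨V₀, hzV₀, hcl, rs, hrs, hker⟩ := hreg.2 ⟨x, hxU⟩
  haveI := hcl
  have hrs' : CAlgX.IsH1Regular rs.get :=
    Groth.Agent.Lib.Helper10.RegImmKinds.seq_koszul_h1 _ rs hrs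
  obtain ⟨VY, hVY, hxVY, -⟩ := exists_isAffineOpen_mem_and_subset
    (x := π (i₀ ⟨x, hxU⟩)) (U := ⊤) trivial
  obtain ⟨V₁, hV₁, hzV₁, hV₁le⟩ := exists_isAffineOpen_mem_and_subset
    (x := i₀ ⟨x, hxU⟩) (U := i₀.coborderRange ⊓ π ⁻¹ᵁ VY)
    ⟨range_le_coborderRange i₀ _, hxVY⟩
  obtain ⟨a, b, hab, hza⟩ := exists_basicOpen_le_affine_inter V₀.2 hV₁ (i₀ ⟨x, hxU⟩)
    ⟨hzV₀, hzV₁⟩
  have hVP : IsAffineOpen (P.basicOpen a) := V₀.2.basicOpen a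
  have hVPle : P.basicOpen a ≤ V₁ := by
    rw [hab]
    exact P.basicOpen_le b
  obtain ⟨c, g, hg, hspan⟩ := h1_data_basicOpen i₀ V₀ rs hrs' hker a (P.basicOpen a) rfl
  obtain ⟨hW₀, hsurj⟩ := closedImm_chart_of_le i₀ hVP (fun y hy => (hV₁le (hVPle hy)).1)
  have hle : P.basicOpen a ≤ π ⁻¹ᵁ VY := fun y hy => (hV₁le (hVPle hy)).2
  have hWV : U.ι ''ᵁ (i₀ ⁻¹ᵁ P.basicOpen a) ≤ f ⁻¹ᵁ VY := by
    rintro _ ⟨y, hy, rfl⟩
    change f (U.ι y) ∈ VY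
    rw [← Scheme.Hom.comp_apply, ← hcomm, Scheme.Hom.comp_apply]
    exact hle hy
  refine ⟨VY, U.ι ''ᵁ (i₀ ⁻¹ᵁ P.basicOpen a), hVY, hW₀.image_of_isOpenImmersion U.ι,
    ⟨⟨x, hxU⟩, hza, rfl⟩, hWV, Γ(P, P.basicOpen a), π.appLE VY (P.basicOpen a) hle,
    i₀.app (P.basicOpen a), c, g, ?_, hsurj, hg, hspan, ?_⟩
  · exact (Scheme.Hom.smooth_appLE π hVY hVP hle).formallySmooth
  · have key : ∀ (p q : (U : Scheme.{u}) ⟶ Y) (_ : p = q)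
        (h1 : i₀ ⁻¹ᵁ P.basicOpen a ≤ p ⁻¹ᵁ VY) (h2 : i₀ ⁻¹ᵁ P.basicOpen a ≤ q ⁻¹ᵁ VY),
        p.appLE VY (i₀ ⁻¹ᵁ P.basicOpen a) h1 = q.appLE VY (i₀ ⁻¹ᵁ P.basicOpen a) h2 := by
      rintro p q rfl _ _; rfl
    have e1 : π.appLE VY (P.basicOpen a) hle ≫ i₀.app (P.basicOpen a) =
        (U.ι ≫ f).appLE VY (i₀ ⁻¹ᵁ P.basicOpen a) (fun y hy => by
          change f (U.ι y) ∈ VY
          rw [← Scheme.Hom.comp_apply, ← hcomm, Scheme.Hom.comp_apply]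
          exact hle hy) := by
      rw [Scheme.Hom.app_eq_appLE, Scheme.Hom.appLE_comp_appLE]
      exact key _ _ hcomm _ _
    refine e1.trans ?_
    rw [← Scheme.Hom.appLE_comp_appLE U.ι f VY (U.ι ''ᵁ (i₀ ⁻¹ᵁ P.basicOpen a))
      (i₀ ⁻¹ᵁ P.basicOpen a) hWV (fun y hy => ⟨y, hy, rfl⟩), Scheme.Opens.ι_appLE]
    have : (homOfLE (Set.image_subset_iff.mpr (fun y hy => ⟨y, hy, rfl⟩) :
        U.ι ''ᵁ (i₀ ⁻¹ᵁ P.basicOpen a) ≤ U.ι ''ᵁ (i₀ ⁻¹ᵁ P.basicOpen a))) = 𝟙 _ := rfl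
    erw [X.presheaf.map_id]
    exact Category.comp_id _

end Groth.Agent.Lib.Helper51.OmegaUniv
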