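import Mathlib
import Groth.Agent.Lib.Helper51.OmegaUniv.CotangentSeqMap

/-!
# The restricted differential of an extension lifts the differential (helper51)
-/

set_option autoImplicit false
set_option linter.style.haveILetI false
universe u
open AlgebraicGeometry CategoryTheory Limits TopologicalSpace Opposite TensorProduct OmegaSh

namespace Groth.Agent.Lib.Helper51.OmegaUniv

open Groth.Agent.Lib.Helper49 Groth.Agent.Lib.Helper49.UnitChart Groth.Agent.Lib.Helper45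
  Groth.Agent.Lib.Helper13.OmegaShYoneda

section

variable {D C C' S S' SD : Scheme.{u}} (i : D ⟶ C) (i' : D ⟶ C') (g : C ⟶ C')
  {pC : C ⟶ S} {pC' : C' ⟶ S'} {pD : D ⟶ SD}
  {Ω₁ : C.Modules} {d₁ : Der pC Ω₁} {Ω₁' : C'.Modules} {d₁' : Der pC' Ω₁'}
  {Ω₂ : D.Modules} {d₂ : Der pD Ω₂}

/-- For `g : C ⟶ C'` with `i ≫ g = i'`, the map `i'^*Ω_{C'} → i^*Ω_C` attached to the
differential `dg` of `g` lifts the differential of `i'` through that of `i`. -/
theorem middle_comp (hgi : i ≫ g = i') (hd₁' : IsUniversal d₁')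
    {dg : (Scheme.Modules.pullback g).obj Ω₁' ⟶ Ω₁} (hdg : IsDiffCompat g d₁' d₁ dg)
    {c : (Scheme.Modules.pullback i).obj Ω₁ ⟶ Ω₂} (hc : IsDiffCompat i d₁ d₂ c)
    {c' : (Scheme.Modules.pullback i').obj Ω₁' ⟶ Ω₂} (hc' : IsDiffCompat i' d₁' d₂ c') :
    ((Scheme.Modules.pullbackCongr hgi.symm).hom.app Ω₁' ≫
        (Scheme.Modules.pullbackComp i g).inv.app Ω₁' ≫ (Scheme.Modules.pullback i).map dg) ≫ c =
      c' := by
  have hle : ∀ V : C'.Opens, i' ⁻¹ᵁ V ≤ i ⁻¹ᵁ (g ⁻¹ᵁ V) := by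
    intro V y hy
    change g (i y) ∈ V
    rw [← Scheme.Hom.comp_apply, hgi]
    exact hy
  apply pullback_hom_ext_of_isUniversal i' hd₁'
  intro V b
  have e1 : (((Scheme.Modules.pullbackCongr hgi.symm).hom.app Ω₁' ≫
      (Scheme.Modules.pullbackComp i g).inv.app Ω₁' ≫
        (Scheme.Modules.pullback i).map dg) ≫ c).app (i' ⁻¹ᵁ V)
      (pullSect i' Ω₁' V (d₁'.app V b)) =
      c.app (i' ⁻¹ᵁ V) (((Scheme.Modules.pullbackCongr hgi.symm).hom.app Ω₁' ≫
      (Scheme.Modules.pullbackComp i g).inv.app Ω₁' ≫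
        (Scheme.Modules.pullback i).map dg).app (i' ⁻¹ᵁ V)
        (pullSect i' Ω₁' V (d₁'.app V b))) := rfl
  refine e1.trans ?_
  rw [middle_app i i' g hgi hdg V b (hle V), hc' V b,
    diffCompat_app_pullSLE i hc (hle V) (g.app V b)]
  congr 1
  have e3 := Scheme.Hom.appLE_comp_appLE i g V (g ⁻¹ᵁ V) (i' ⁻¹ᵁ V) le_rfl (hle V)
  have e4 := congrArg (fun k => k.hom b) e3
  rw [Scheme.Hom.app_eq_appLE]
  refine e4.trans ?_
  have e5 := appLE_congr_hom' hgi V (i' ⁻¹ᵁ V)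
    ((hle V).trans ((Opens.map i.base).map (homOfLE le_rfl)).le) (le_refl _)
  rw [e5, ← Scheme.Hom.app_eq_appLE]

end

end Groth.Agent.Lib.Helper51.OmegaUniv
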