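import Mathlib
import Groth.Agent.Lib.Helper51.OmegaUniv.MiddleComp

/-!
# The restricted differentials of mutually inverse morphisms under `D` are inverse (helper51)
-/

set_option autoImplicit false
set_option linter.style.haveILetI false
universe u
open AlgebraicGeometry CategoryTheory Limits TopologicalSpace Opposite TensorProduct OmegaSh

namespace Groth.Agent.Lib.Helper51.OmegaUniv

open Groth.Agent.Lib.Helper49 Groth.Agent.Lib.Helper49.UnitChart Groth.Agent.Lib.Helper45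
  Groth.Agent.Lib.Helper13.OmegaShYoneda

section

variable {D C C' S S' : Scheme.{u}} (i : D ⟶ C) (i' : D ⟶ C') (g : C ⟶ C')
  {pC : C ⟶ S} {pC' : C' ⟶ S'}
  {Ω₁ : C.Modules} {d₁ : Der pC Ω₁} {Ω₁' : C'.Modules} {d₁' : Der pC' Ω₁'}

/-- The middle map attached to `g : C ⟶ C'` under `D`. -/
noncomputable abbrev middle (hgi : i ≫ g = i') (dg : (Scheme.Modules.pullback g).obj Ω₁' ⟶ Ω₁) :
    (Scheme.Modules.pullback i').obj Ω₁' ⟶ (Scheme.Modules.pullback i).obj Ω₁ :=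
  (Scheme.Modules.pullbackCongr hgi.symm).hom.app Ω₁' ≫
    (Scheme.Modules.pullbackComp i g).inv.app Ω₁' ≫ (Scheme.Modules.pullback i).map dg

theorem le_of_comp_eq (hgi : i ≫ g = i') (V : C'.Opens) : i' ⁻¹ᵁ V ≤ i ⁻¹ᵁ (g ⁻¹ᵁ V) := by
  intro y hy
  change g (i y) ∈ V
  rw [← Scheme.Hom.comp_apply, hgi]
  exact hy

/-- `middle_app` over smaller opens. -/
theorem middle_app_LE (hgi : i ≫ g = i')
    {dg : (Scheme.Modules.pullback g).obj Ω₁' ⟶ Ω₁} (hdg : IsDiffCompat g d₁' d₁ dg)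
    (V : C'.Opens) (x : Γ(C', V)) (W : D.Opens) (h : W ≤ i' ⁻¹ᵁ V) (h₂ : W ≤ i ⁻¹ᵁ (g ⁻¹ᵁ V)) :
    (middle i i' g hgi dg).app W (pullSLE i' Ω₁' V W h (d₁'.app V x)) =
      pullSLE i Ω₁ (g ⁻¹ᵁ V) W h₂ (d₁.app (g ⁻¹ᵁ V) (g.app V x)) := by
  have e1 : pullSLE i' Ω₁' V W h (d₁'.app V x) =
      mres _ h (pullSect i' Ω₁' V (d₁'.app V x)) := by
    have : pullSect i' Ω₁' V (d₁'.app V x) = pullSLE i' Ω₁' V (i' ⁻¹ᵁ V) le_rfl (d₁'.app V x) :=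
      (mres_self _ _).symm
    rw [this, mres_pullSLE]
  rw [e1]
  refine (app_mres (middle i i' g hgi dg) h _).trans ?_
  have e2 := middle_app i i' g hgi hdg V x (le_of_comp_eq i i' g hgi V)
  refine (congrArg (mres _ h) e2).trans ?_
  exact mres_pullSLE i Ω₁ (g ⁻¹ᵁ V) (le_of_comp_eq i i' g hgi V) h _

variable (g' : C' ⟶ C)

/-- If `g ≫ g' = 𝟙 C` (both under `D`), the middle map of `g'` followed by that of `g` is the
identity of `i^*Ω_C`. -/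
theorem middle_comp_middle (hgi : i ≫ g = i') (hgi' : i' ≫ g' = i) (hgg : g ≫ g' = 𝟙 C)
    (hd₁ : IsUniversal d₁)
    {dg : (Scheme.Modules.pullback g).obj Ω₁' ⟶ Ω₁} (hdg : IsDiffCompat g d₁' d₁ dg)
    {dg' : (Scheme.Modules.pullback g').obj Ω₁ ⟶ Ω₁'} (hdg' : IsDiffCompat g' d₁ d₁' dg') :
    middle i' i g' hgi' dg' ≫ middle i i' g hgi dg = 𝟙 _ := by
  apply pullback_hom_ext_of_isUniversal i hd₁
  intro V b
  have e1 : (middle i' i g' hgi' dg' ≫ middle i i' g hgi dg).app (i ⁻¹ᵁ V)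
      (pullSect i Ω₁ V (d₁.app V b)) =
      (middle i i' g hgi dg).app (i ⁻¹ᵁ V) ((middle i' i g' hgi' dg').app (i ⁻¹ᵁ V)
        (pullSect i Ω₁ V (d₁.app V b))) := rfl
  have e2 : (𝟙 ((Scheme.Modules.pullback i).obj Ω₁) : _ ⟶ _).app (i ⁻¹ᵁ V)
      (pullSect i Ω₁ V (d₁.app V b)) = pullSect i Ω₁ V (d₁.app V b) := rfl
  refine (e1.trans ?_).trans e2.symm
  rw [middle_app i' i g' hgi' hdg' V b (le_of_comp_eq i' i g' hgi' V),
    middle_app_LE i i' g hgi hdg (g' ⁻¹ᵁ V) (g'.app V b) (i ⁻¹ᵁ V)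
      (le_of_comp_eq i' i g' hgi' V)
      ((le_of_comp_eq i' i g' hgi' V).trans (le_of_comp_eq i i' g hgi (g' ⁻¹ᵁ V)))]
  have key : ∀ (q : C ⟶ C) (_ : q = 𝟙 C) (h : i ⁻¹ᵁ V ≤ i ⁻¹ᵁ (q ⁻¹ᵁ V)),
      pullSLE i Ω₁ (q ⁻¹ᵁ V) (i ⁻¹ᵁ V) h (d₁.app (q ⁻¹ᵁ V) (q.app V b)) =
        pullSect i Ω₁ V (d₁.app V b) := by
    rintro q rfl h
    exact mres_self _ _
  exact key (g ≫ g') hgg _

end

end Groth.Agent.Lib.Helper51.OmegaUniv
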