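import Groth.Agent.Lib.Helper13.OmegaShYoneda
import Groth.Agent.Lib.Helper51.OmegaUniv.Basis

set_option autoImplicit false
universe u
open CategoryTheory CategoryTheory.Limits AlgebraicGeometry TopologicalSpace Opposite

namespace Groth.Agent.Lib.Helper51.OmegaUniv
open OmegaSh Groth.Agent.Lib.Helper13.OmegaShYoneda

variable {X Y : Scheme.{u}}

section Restrict

variable {U' : Scheme.{u}} (j : U' ⟶ X) [IsOpenImmersion j] {f : X ⟶ Y} {F : X.Modules}

/-- Restriction of a derivation along an open immersion. -/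
noncomputable def derRestrict (D : Der f F) : Der (j ≫ f) (F.restrict j) where
  d {W} := (D.d (X := op (j ''ᵁ W.unop))).comp (j.appIso W.unop).inv.hom.toAddMonoidHom
  d_mul {W} a b := by
    change D.d (X := op (j ''ᵁ W.unop)) ((j.appIso W.unop).inv.hom (a * b)) = _
    rw [map_mul, D.d_mul]
    rfl
  d_map {W W'} i x := by
    change D.d (X := op (j ''ᵁ W'.unop)) ((j.appIso W'.unop).inv.hom (U'.presheaf.map i x)) = _
    have hnat : (j.appIso W'.unop).inv.hom (U'.presheaf.map i x) =
        X.presheaf.map (j.opensFunctor.op.map i) ((j.appIso W.unop).inv.hom x) := by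
      have := congrArg (fun k => k.hom x) (j.appIso_inv_naturality i)
      exact this
    rw [hnat, D.d_map]
    rfl
  d_app {V} a := by
    change D.d (X := op (j ''ᵁ ((j ≫ f) ⁻¹ᵁ V.unop)))
      ((j.appIso ((j ≫ f) ⁻¹ᵁ V.unop)).inv.hom (((j ≫ f).app V.unop).hom a)) = 0
    have h1 : (j.appIso ((j ≫ f) ⁻¹ᵁ V.unop)).inv.hom (((j ≫ f).app V.unop).hom a) =
        X.presheaf.map (homOfLE (show j ''ᵁ ((j ≫ f) ⁻¹ᵁ V.unop) ≤ f ⁻¹ᵁ V.unop from
          j.image_preimage_le (f ⁻¹ᵁ V.unop))).op ((f.app V.unop).hom a) := by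
      have e : (j ≫ f).app V.unop ≫ (j.appIso ((j ≫ f) ⁻¹ᵁ V.unop)).inv =
          f.app V.unop ≫ X.presheaf.map (homOfLE (show j ''ᵁ ((j ≫ f) ⁻¹ᵁ V.unop) ≤ f ⁻¹ᵁ V.unop from
            j.image_preimage_le (f ⁻¹ᵁ V.unop))).op := by
        rw [Scheme.Hom.comp_app]
        exact (Category.assoc _ _ _).trans
          (congrArg (f.app V.unop ≫ ·) (j.app_appIso_inv (f ⁻¹ᵁ V.unop)))
      exact congrArg (fun k => k.hom a) e
    rw [h1, D.d_map, D.d_app]
    exact map_zero _

theorem derRestrict_app (D : Der f F) (W : U'.Opens) (s : Γ(U', W)) :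
    (derRestrict j D).app W s = D.app (j ''ᵁ W) ((j.appIso W).inv s) := rfl

/-- The restriction of a universal derivation along an open immersion is universal. -/
theorem isUniversal_derRestrict {Ω : X.Modules} {d : Der f Ω} (hd : IsUniversal d) :
    IsUniversal (derRestrict j d) := by
  intro F' D'
  let Dt : Der f ((Scheme.Modules.pushforward j).obj F') :=
    pushDer f (j ≫ f) j (𝟙 Y) (Category.comp_id _) D'
  obtain ⟨αt, hαt, huniq⟩ := hd _ Dt
  have hαt' : ∀ (V : X.Opens) (t : Γ(X, V)),
      αt.app V (d.app V t) = D'.app (j ⁻¹ᵁ V) (j.app V t) := by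
    intro V t
    have := congrArg (fun D => Der.app D V t) hαt
    exact this
  let adj := Scheme.Modules.restrictAdjunction j
  refine ⟨(adj.homEquiv Ω F').symm αt, ?_, ?_⟩
  · apply der_ext
    intro W s
    rw [postcomp_app, derRestrict_app, Adjunction.homEquiv_counit]
    change ((adj.counit.app F').app W) (αt.app (j ''ᵁ W) (d.app (j ''ᵁ W) ((j.appIso W).inv s))) = _
    rw [hαt', Scheme.Modules.restrictAdjunction_counit_app_app]
    refine (der_app_map D' (eqToHom (j.preimage_image_eq W).symm).op _).symm.trans ?_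
    refine congrArg (D'.app W) ?_
    have e := j.appIso_inv_app_presheafMap W
    exact congrArg (fun k => k.hom s) e
  · intro α' hα'
    have hα'' : ∀ (W : U'.Opens) (s : Γ(U', W)),
        α'.app W ((derRestrict j d).app W s) = D'.app W s := by
      intro W s
      have := congrArg (fun D => Der.app D W s) hα'
      exact this
    have key : adj.homEquiv Ω F' α' = αt := by
      apply huniq
      apply der_ext
      intro V s
      rw [postcomp_app, Adjunction.homEquiv_unit]
      change α'.app (j ⁻¹ᵁ V) ((adj.unit.app Ω).app V (d.app V s)) = D'.app (j ⁻¹ᵁ V) (j.app V s)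
      rw [Scheme.Modules.restrictAdjunction_unit_app_app, ← hα'', derRestrict_app]
      refine congrArg (α'.app (j ⁻¹ᵁ V)) ?_
      refine (der_app_map d _ _).symm.trans ?_
      refine congrArg (d.app _) ?_
      have e := j.app_appIso_inv V
      exact (congrArg (fun k => k.hom s) e).symm
    rw [← key, Equiv.symm_apply_apply]

end Restrict

end Groth.Agent.Lib.Helper51.OmegaUniv
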