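import Groth.Agent.Lib.Helper51.OmegaUniv.Restrict
import Groth.Agent.Lib.Helper51.OmegaUniv.Affine

set_option autoImplicit false
universe u
open CategoryTheory CategoryTheory.Limits AlgebraicGeometry TopologicalSpace Opposite

namespace Groth.Agent.Lib.Helper51.OmegaUniv
open OmegaSh Groth.Agent.Lib.Helper13.OmegaShYoneda

variable {X Y Y' : Scheme.{u}}

/-- Universality only depends on the underlying family of additive maps, provided the classes of
derivations (as families of maps) coincide. -/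
theorem isUniversal_of_sameD {f : X ⟶ Y} {f' : X ⟶ Y'} {Ω : X.Modules} (d : Der f Ω)
    (d' : Der f' Ω) (hdd : ∀ U s, d.app U s = d'.app U s)
    (hlift : ∀ (F : X.Modules) (D' : Der f' F), ∃ D : Der f F, ∀ U s, D.app U s = D'.app U s)
    (hd : IsUniversal d) : IsUniversal d' := by
  intro F D'
  obtain ⟨D, hD⟩ := hlift F D'
  obtain ⟨α, hα, huniq⟩ := hd F D
  have hα' : ∀ U s, α.app U (d.app U s) = D.app U s := fun U s =>
    congrArg (fun E => Der.app E U s) hα
  refine ⟨α, ?_, ?_⟩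
  · apply der_ext
    intro U s
    rw [postcomp_app, ← hdd, hα', hD]
  · intro β hβ
    have hβ' : ∀ U s, β.app U (d'.app U s) = D'.app U s := fun U s =>
      congrArg (fun E => Der.app E U s) hβ
    apply huniq
    apply der_ext
    intro U s
    rw [postcomp_app, hdd, hβ', hD]

/-- Transport of a derivation along an equality of morphisms. -/
def derCongr {f f' : X ⟶ Y} (h : f = f') {F : X.Modules} (D : Der f F) : Der f' F := h ▸ D

theorem derCongr_app {f f' : X ⟶ Y} (h : f = f') {F : X.Modules} (D : Der f F) (U : X.Opens)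
    (s : Γ(X, U)) : (derCongr h D).app U s = D.app U s := by
  subst h; rfl

theorem map_eqToHom_injective (F : X.Modules) {U V : X.Opens} (h : U = V) :
    Function.Injective (F.presheaf.map (eqToHom h).op) := by
  subst h
  intro a b hab
  simpa using hab

/-- A derivation relative to `g ≫ i` with `i` an open immersion is a derivation relative
to `g`. -/
theorem der_app_of_comp_openImm (g : X ⟶ Y') (i : Y' ⟶ Y) [IsOpenImmersion i] {F : X.Modules}
    (D : Der (g ≫ i) F) (W : Y'.Opens) (b : Γ(Y', W)) : D.app (g ⁻¹ᵁ W) (g.app W b) = 0 := by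
  have h : g ⁻¹ᵁ W ≤ (g ≫ i) ⁻¹ᵁ i ''ᵁ W := by
    intro x hx
    exact ⟨g x, hx, rfl⟩
  have h0 := der_app_appLE D (i ''ᵁ W) (g ⁻¹ᵁ W) h ((i.appIso W).inv b)
  have e : (i.appIso W).inv ≫ (g ≫ i).appLE (i ''ᵁ W) (g ⁻¹ᵁ W) h = g.app W := by
    rw [← Scheme.Hom.appLE_comp_appLE g i (i ''ᵁ W) W (g ⁻¹ᵁ W) (i.preimage_image_eq W).ge le_rfl,
      ← Scheme.Hom.appIso_hom', Iso.inv_hom_id_assoc, Scheme.Hom.appLE_eq_app]
  have e' := congrArg (fun k => k.hom b) e
  exact (congrArg (D.app (g ⁻¹ᵁ W)) e').symm.trans h0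

theorem isUniversal_derComp_openImm (g : X ⟶ Y') (i : Y' ⟶ Y) [IsOpenImmersion i] {Ω : X.Modules}
    {d : Der g Ω} (hd : IsUniversal d) : IsUniversal (derComp g i d) := by
  refine isUniversal_of_sameD d (derComp g i d) (fun _ _ => rfl) ?_ hd
  intro F D'
  exact ⟨derOfComp g i D' (der_app_of_comp_openImm g i D'), fun _ _ => rfl⟩

theorem isUniversal_derOfComp_openImm (g : X ⟶ Y') (i : Y' ⟶ Y) [IsOpenImmersion i] {Ω : X.Modules}
    {d : Der (g ≫ i) Ω} (hd : IsUniversal d) :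
    IsUniversal (derOfComp g i d (der_app_of_comp_openImm g i d)) := by
  refine isUniversal_of_sameD d (derOfComp g i d (der_app_of_comp_openImm g i d))
    (fun _ _ => rfl) ?_ hd
  intro F D'
  exact ⟨derComp g i D', fun _ _ => rfl⟩

/-- Two universal derivations for the same morphism have canonically isomorphic receptacles. -/
theorem exists_iso_of_isUniversal {f : X ⟶ Y} {Ω₁ Ω₂ : X.Modules} {d₁ : Der f Ω₁} {d₂ : Der f Ω₂}
    (h₁ : IsUniversal d₁) (h₂ : IsUniversal d₂) :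
    ∃ e : Ω₁ ≅ Ω₂, ∀ (U : X.Opens) (s : Γ(X, U)), e.hom.app U (d₁.app U s) = d₂.app U s := by
  obtain ⟨α, hα, -⟩ := h₁ Ω₂ d₂
  obtain ⟨β, hβ, -⟩ := h₂ Ω₁ d₁
  have hα' : ∀ U s, α.app U (d₁.app U s) = d₂.app U s := fun U s =>
    congrArg (fun E => Der.app E U s) hα
  have hβ' : ∀ U s, β.app U (d₂.app U s) = d₁.app U s := fun U s =>
    congrArg (fun E => Der.app E U s) hβ
  refine ⟨⟨α, β, ?_, ?_⟩, hα'⟩
  · apply hom_ext_of_isUniversal h₁
    intro U s
    change β.app U (α.app U (d₁.app U s)) = d₁.app U s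
    rw [hα', hβ']
  · apply hom_ext_of_isUniversal h₂
    intro U s
    change α.app U (β.app U (d₂.app U s)) = d₂.app U s
    rw [hβ', hα']

theorem exists_iso_of_isUniversal_of_comp_openImm {f : X ⟶ Y} (g : X ⟶ Y') (i : Y' ⟶ Y)
    [IsOpenImmersion i] (hfg : g ≫ i = f) {Ω₁ Ω₂ : X.Modules} {d₁ : Der f Ω₁} {d₂ : Der g Ω₂}
    (h₁ : IsUniversal d₁) (h₂ : IsUniversal d₂) :
    ∃ e : Ω₁ ≅ Ω₂, ∀ (U : X.Opens) (s : Γ(X, U)), e.hom.app U (d₁.app U s) = d₂.app U s := by
  subst hfg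
  exact exists_iso_of_isUniversal h₁ (isUniversal_derComp_openImm g i h₂)

/-- **Structure theorem.** For a universal derivation `(Ω, d)` of `f : X ⟶ S` and affine opens
`U ≤ f⁻¹ V`, the restriction of `Ω` to `Spec Γ(X, U)` is `Ω[Γ(X,U)/Γ(S,V)]^~`, compatibly with
the derivations. -/
theorem exists_restrict_iso_tilde {X S : Scheme.{u}} (f : X ⟶ S) {Ω : X.Modules} {d : Der f Ω}
    (hd : IsUniversal d) {U : X.Opens} (hU : IsAffineOpen U) {V : S.Opens} (hV : IsAffineOpen V)
    (h : U ≤ f ⁻¹ᵁ V) :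
    ∃ e : Ω.restrict hU.fromSpec ≅ tilde (kaehlerMod (f.appLE V U h)),
      ∀ (W : (Spec Γ(X, U)).Opens) (s : Γ(Spec Γ(X, U), W)),
        e.hom.app W ((derRestrict hU.fromSpec d).app W s) =
          (kaehlerDer (f.appLE V U h)).tildeDer.app W s :=
  exists_iso_of_isUniversal_of_comp_openImm (Spec.map (f.appLE V U h)) hV.fromSpec
    (IsAffineOpen.SpecMap_appLE_fromSpec f hV hU h) (isUniversal_derRestrict hU.fromSpec hd)
    (isUniversal_tildeDer_kaehler _)

end Groth.Agent.Lib.Helper51.OmegaUniv
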